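import Cfsg.Agent.Lib.Char.Galois
import Cfsg.Agent.Lib.Grp.Frob

/-!
# Rational values on `p`-elements and Schur's bound for `p`-groups
-/

set_option autoImplicit false

namespace LG

open Cfsg CT

variable {G : Type*} [Group G] [Finite G] {χ : G → ℂ} {p : ℕ}

theorem re_sum_pow_nonneg (hχ : IsCharacter G χ) {g : G} {N : ℕ} (hg : g ^ N = 1) :
    0 ≤ ∑ k ∈ Finset.range N, (χ (g ^ k)).re := by
  obtain ⟨ε, h1, h2, -⟩ := hχ.exists_eigenvalues g
  rw [← Complex.re_sum]
  simp only [h2]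
  rw [Finset.sum_comm, Complex.re_sum]
  refine Finset.sum_nonneg fun i _ => ?_
  by_cases h : ε i = 1
  · simp [h]
  · have := geom_sum_mul (ε i) N
    rw [pow_eq_one_of_pow_orderOf (h1 i) hg, sub_self] at this
    rw [(mul_eq_zero.1 this).resolve_right (sub_ne_zero.2 h), Complex.zero_re]

/-- A rational value `χ g` at a `p`-element has the form `χ(1) - p t` with `(p - 1) t ≤ χ(1)`. -/
theorem exists_eq_sub_of_rational (hp : p.Prime) (hχ : IsCharacter G χ) {g : G} {a : ℕ}
    (hg : g ^ p ^ a = 1) (h : ∀ k : ℕ, k.Coprime p → χ (g ^ k) = χ g) :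
    ∃ t : ℕ, χ g = (charDegree χ : ℂ) - p * t ∧ (p - 1) * t ≤ charDegree χ := by
  classical
  have hg' : g ^ p ^ (a + 1) = 1 := by rw [pow_succ, pow_mul, hg, one_pow]
  obtain ⟨m, hm⟩ := (hχ.isGen.exists_int_iff g).2 fun k hk => by
    by_cases h1 : g = 1
    · rw [h1, one_pow]
    · exact h k (hk.coprime_dvd_right ((GT.isPElt_of_pow_eq_one (hp := ⟨hp⟩) hg).dvd_orderOf h1))
  have hmod : m ≡ (charDegree χ : ℤ) [ZMOD p] :=
    hχ.isGen.int_modEq_of_commute hp (Commute.one_right g) hg (by rw [mul_one, hm])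
      (by rw [hχ.apply_one]; simp)
  have hle : ∀ x, (χ x).re ≤ charDegree χ := fun x =>
    (Complex.re_le_norm _).trans (hχ.norm_le x)
  have hmn : m ≤ charDegree χ := by
    have := hle g
    rw [hm, Complex.intCast_re] at this
    exact_mod_cast this
  obtain ⟨t, ht⟩ := hmod.dvd
  have hp0 : (0 : ℤ) < p := by exact_mod_cast hp.pos
  have ht0 : 0 ≤ t := by nlinarith
  lift t to ℕ using ht0
  refine ⟨t, by rw [hm, show m = charDegree χ - p * t by linarith]; push_cast; ring, ?_⟩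
  have h0 := re_sum_pow_nonneg hχ hg'
  rw [← Finset.sum_filter_add_sum_filter_not _ (fun k => k.Coprime (p ^ (a + 1)))] at h0
  have c1 := card_filter_coprime_eq_totient (p ^ (a + 1))
  have c2 := Finset.card_filter_add_card_filter_not (s := Finset.range (p ^ (a + 1)))
    (fun k => k.Coprime (p ^ (a + 1)))
  rw [Nat.totient_prime_pow_succ hp] at c1
  rw [c1, Finset.card_range] at c2
  have c3 : ((Finset.range (p ^ (a + 1))).filter fun k => ¬ k.Coprime (p ^ (a + 1))).card
      = p ^ a := by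
    obtain ⟨q, rfl⟩ : ∃ q, p = q + 1 := ⟨p - 1, (Nat.sub_add_cancel hp.pos).symm⟩
    rw [pow_succ, Nat.add_sub_cancel] at c2
    rw [pow_succ]
    nlinarith
  have s1 : ∑ k ∈ (Finset.range (p ^ (a + 1))).filter (fun k => k.Coprime (p ^ (a + 1))),
      (χ (g ^ k)).re = (p ^ a * (p - 1) : ℕ) * (m : ℝ) := by
    rw [← c1, ← nsmul_eq_mul, ← Finset.sum_const]
    refine Finset.sum_congr rfl fun k hk => ?_
    rw [h k ((Finset.mem_filter.1 hk).2.coprime_dvd_right (dvd_pow_self p a.succ_ne_zero)), hm,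
      Complex.intCast_re]
  have s2 : ∑ k ∈ (Finset.range (p ^ (a + 1))).filter (fun k => ¬ k.Coprime (p ^ (a + 1))),
      (χ (g ^ k)).re ≤ (p ^ a : ℕ) * (charDegree χ : ℝ) := by
    rw [← c3, ← nsmul_eq_mul]
    exact Finset.sum_le_card_nsmul _ _ _ fun k _ => hle _
  have s3 : (0 : ℝ) ≤ (p ^ a : ℕ) * (((p - 1 : ℕ) : ℝ) * m + charDegree χ) := by
    rw [s1] at h0; push_cast at h0 s2 ⊢; linarith
  have s4 : (0 : ℤ) ≤ ((p - 1 : ℕ) : ℤ) * m + charDegree χ := by
    have := nonneg_of_mul_nonneg_right s3 (by exact_mod_cast pow_pos hp.pos a)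
    exact_mod_cast this
  have s5 : ((p - 1 : ℕ) : ℤ) = p - 1 := by rw [Nat.cast_sub hp.one_le]; simp
  have s6 : (p : ℤ) * (((p - 1 : ℕ) : ℤ) * t) ≤ p * charDegree χ := by
    rw [s5] at s4 ⊢; nlinarith
  exact_mod_cast le_of_mul_le_mul_left s6 hp0

theorem sub_one_le_of_rational (hp : p.Prime) (hχ : IsCharacter G χ) {g : G} {a : ℕ}
    (hg : g ^ p ^ a = 1) (h : ∀ k : ℕ, k.Coprime p → χ (g ^ k) = χ g) (hk : g ∉ ker χ) :
    p - 1 ≤ charDegree χ := by
  obtain ⟨t, h1, h2⟩ := exists_eq_sub_of_rational hp hχ hg h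
  rcases t.eq_zero_or_pos with rfl | ht
  · exact absurd (hχ.mem_ker_iff.2 (by rw [h1, hχ.apply_one]; simp)) hk
  · exact (Nat.le_mul_of_pos_right _ ht).trans h2

/-- Blichfeldt's congruence. -/
theorem card_dvd_of_isGen_of_vanish {θ : G → ℂ} (hθ : IsGeneralizedCharacter G θ) {m : ℕ}
    (h1 : θ 1 = m) (h : ∀ g, g ≠ 1 → θ g = 0) : Nat.card G ∣ m := by
  have := Fintype.ofFinite G
  obtain ⟨k, hk⟩ := hθ.exists_int_ip isCharacter_one.isGen
  rw [ip_def, Finset.sum_eq_single 1 (fun g _ hg => by rw [h g hg, zero_mul])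
    (fun h => absurd (Finset.mem_univ _) h), h1, map_one, mul_one,
    inv_mul_eq_iff_eq_mul₀ card_cast_ne_zero] at hk
  exact Int.natCast_dvd_natCast.1 ⟨k, by exact_mod_cast hk⟩

theorem add_factorization_factorial_le (hp : p.Prime) (n : ℕ) :
    n / (p - 1) + (n / (p - 1)).factorial.factorization p ≤
      ∑ i ∈ Finset.range (n + 1), n / ((p - 1) * p ^ i) := by
  have hr : n / (p - 1) ≤ n := Nat.div_le_self _ _
  rw [Nat.factorization_factorial hp (b := n + 1)
    ((Nat.log_le_self p _).trans_lt (Nat.lt_succ_of_le hr)), Finset.range_eq_Ico,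
    Finset.sum_eq_sum_Ico_succ_bot n.succ_pos]
  simp only [← Nat.div_div_eq_div_mul, pow_zero, Nat.div_one]
  exact le_rfl

/-- Schur's bound for a `p`-group with a faithful rational valued character. -/
theorem schur_bound (hp : p.Prime) (hG : IsPGroup p G) (hχ : IsCharacter G χ) (hk : ker χ = ⊥)
    (h : ∀ (g : G) (k : ℕ), k.Coprime p → χ (g ^ k) = χ g) :
    (Nat.card G).factorization p ≤
      ∑ i ∈ Finset.range (charDegree χ + 1), charDegree χ / ((p - 1) * p ^ i) := by
  refine le_trans ?_ (add_factorization_factorial_le hp _)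
  set n := charDegree χ with hn
  set r := n / (p - 1) with hr
  have hgen : ∀ s : Finset ℕ, IsGeneralizedCharacter G
      (∏ t ∈ s, (χ - (((n : ℤ) - p * (t + 1 : ℕ) : ℤ) : ℂ) • fun _ => 1)) := fun s =>
    Finset.prod_induction _ _ (fun _ _ => IsGeneralizedCharacter.mul) isCharacter_one.isGen
      fun t _ => hχ.isGen.sub (isCharacter_one.isGen.zsmul _)
  have hd : Nat.card G ∣ p ^ r * r.factorial := by
    refine card_dvd_of_isGen_of_vanish (hgen (Finset.range r)) ?_ fun g hg => ?_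
    · rw [Finset.prod_apply, ← Finset.prod_range_add_one_eq_factorial, ← Finset.card_range r,
        ← Finset.prod_const, Finset.card_range, ← Finset.prod_mul_distrib, Nat.cast_prod]
      refine Finset.prod_congr rfl fun t _ => ?_
      simp only [Pi.sub_apply, Pi.smul_apply, hχ.apply_one, ← hn]
      push_cast; simp
    · obtain ⟨a, ha⟩ := hG g
      obtain ⟨t, h1, h2⟩ := exists_eq_sub_of_rational hp hχ ha (h g)
      have ht0 : t ≠ 0 := by
        rintro rfl
        exact hg (Subgroup.mem_bot.1 (hk ▸ hχ.mem_ker_iff.2 (by rw [h1, hχ.apply_one]; simp)))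
      obtain ⟨t, rfl⟩ := Nat.exists_eq_succ_of_ne_zero ht0
      have htr : t + 1 ≤ r :=
        (Nat.le_div_iff_mul_le (Nat.sub_pos_of_lt hp.one_lt)).2 (by rw [mul_comm]; exact h2)
      rw [Finset.prod_apply]
      refine Finset.prod_eq_zero (Finset.mem_range.2 htr) ?_
      simp only [Pi.sub_apply, Pi.smul_apply, h1, ← hn]
      push_cast; simp
  have h0 : p ^ r * r.factorial ≠ 0 := mul_ne_zero (pow_ne_zero _ hp.ne_zero) r.factorial_ne_zero
  have := (Nat.factorization_le_iff_dvd Nat.card_pos.ne' h0).2 hd p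
  rwa [Nat.factorization_mul (pow_ne_zero _ hp.ne_zero) r.factorial_ne_zero, Finsupp.add_apply,
    hp.factorization_pow, Finsupp.single_eq_same] at this

/-- Chinese remainder: a multiplier prime to `|G|` with prescribed behaviour on `p`-elements and
fixing all `p`-regular elements. -/
theorem exists_coprime_card_modEq (hp : p.Prime) {N : ℕ} (hN : N ≠ 0) {k : ℕ} (hk : k.Coprime p) :
    ∃ j : ℕ, j.Coprime N ∧ j ≡ k [MOD p ^ N.factorization p] ∧
      j ≡ 1 [MOD N / p ^ N.factorization p] := by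
  have hc : (p ^ N.factorization p).Coprime (N / p ^ N.factorization p) :=
    (Nat.coprime_ordCompl hp hN).pow_left _
  obtain ⟨j, h1, h2⟩ := Nat.chineseRemainder hc k 1
  refine ⟨j, ?_, h1, h2⟩
  rw [← Nat.ordProj_mul_ordCompl_eq_self N p]
  refine Nat.Coprime.mul_right ?_ ?_
  · rw [Nat.Coprime, h1.gcd_eq]; exact hk.pow_right _
  · rw [Nat.Coprime, h2.gcd_eq, Nat.gcd_one_left]

theorem pow_ordProj_eq_one (hp : p.Prime) {g : G} {a : ℕ} (hg : g ^ p ^ a = 1) :
    g ^ p ^ (Nat.card G).factorization p = 1 := by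
  obtain ⟨b, -, hb⟩ := (Nat.dvd_prime_pow hp).1 (orderOf_dvd_of_pow_eq_one hg)
  rw [← orderOf_dvd_iff_pow_eq_one, hb]
  exact pow_dvd_pow p ((hp.pow_dvd_iff_le_factorization Nat.card_pos.ne').1
    (hb ▸ orderOf_dvd_natCard g))

omit [Finite G] in
theorem pow_ordCompl_eq_one {g : G} (hg : ¬ p ∣ orderOf g) :
    g ^ (Nat.card G / p ^ (Nat.card G).factorization p) = 1 := by
  rw [← orderOf_dvd_iff_pow_eq_one]
  exact Nat.dvd_ordCompl_of_dvd_not_dvd (orderOf_dvd_natCard g) hg

/-- A `p`-rational function is constant on the generators of a cyclic `p`-subgroup. -/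
theorem pow_eq_of_pRational (hp : p.Prime) {θ : G → ℂ} (h : ∀ k : ℕ, k.Coprime (Nat.card G) →
    k ≡ 1 [MOD Nat.card G / p ^ (Nat.card G).factorization p] → ∀ g, θ (g ^ k) = θ g) {g : G}
    {a : ℕ} (hg : g ^ p ^ a = 1) {k : ℕ} (hk : k.Coprime p) : θ (g ^ k) = θ g := by
  obtain ⟨j, h1, h2, h3⟩ := exists_coprime_card_modEq hp (Nat.card_pos (α := G)).ne' hk
  rw [← h j h1 h3 g, pow_eq_pow_of_modEq' (pow_ordProj_eq_one hp hg) h2]

/-- Schur's bound for a group with a faithful `p`-rational character. -/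
theorem schur_bound_pRational (hp : p.Prime) (hχ : IsCharacter G χ) (hk : ker χ = ⊥)
    (h : ∀ k : ℕ, k.Coprime (Nat.card G) →
      k ≡ 1 [MOD Nat.card G / p ^ (Nat.card G).factorization p] → ∀ g, χ (g ^ k) = χ g) :
    (Nat.card G).factorization p ≤
      ∑ i ∈ Finset.range (charDegree χ + 1), charDegree χ / ((p - 1) * p ^ i) := by
  have := Fact.mk hp
  obtain ⟨P⟩ := (inferInstance : Nonempty (Sylow p G))
  have h1 := schur_bound hp P.isPGroup' (hχ.res P) (by rw [hχ.ker_res, hk, Subgroup.bot_subgroupOf])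
    fun g k hk => by
      obtain ⟨a, ha⟩ := P.isPGroup' g
      exact pow_eq_of_pRational hp h (congrArg Subtype.val ha) hk
  rwa [P.card_eq_multiplicity, hp.factorization_pow, Finsupp.single_eq_same] at h1

end LG
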