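import Cfsg.Agent.Lib.Lin.Small

/-!
# Eigenvalue multisets of group elements
-/

set_option autoImplicit false
set_option linter.unusedSectionVars false

namespace LG

open Cfsg CT Subgroup
open scoped ComplexConjugate InnerProductSpace

variable {G H : Type*} [Group G] [Finite G] [Group H] [Finite H]

/-- `s` is the multiset of eigenvalues of `x` for the character `χ`. -/
structure IsEig (χ : G → ℂ) (x : G) (s : Multiset ℂ) : Prop where
  ne : ∀ a ∈ s, a ≠ 0
  sum : ∀ k : ℕ, χ (x ^ k) = (s.map (· ^ k)).sum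

theorem isEig_of_fun {χ : G → ℂ} {x : G} {ι : Type*} [Fintype ι] {ε : ι → ℂ} (h0 : ∀ i, ε i ≠ 0)
    (h : ∀ k : ℕ, χ (x ^ k) = ∑ i, ε i ^ k) : IsEig χ x (Finset.univ.val.map ε) :=
  ⟨by simpa using h0, fun k => by rw [Multiset.map_map, h]; rfl⟩

theorem exists_isEig {χ : G → ℂ} (hχ : IsCharacter G χ) (x : G) : ∃ s, IsEig χ x s := by
  obtain ⟨ε, h1, h2, -⟩ := hχ.exists_eigenvalues x
  exact ⟨_, isEig_of_fun (fun i => ne_zero_of_pow_eq_one' (orderOf_pos x).ne' (h1 i)) h2⟩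

theorem isEig_replicate {χ : G → ℂ} {x : G} {n : ℕ} {c : ℂ} (hc : c ≠ 0)
    (h : ∀ k : ℕ, χ (x ^ k) = c ^ k * n) : IsEig χ x (Multiset.replicate n c) :=
  ⟨fun a ha => Multiset.eq_of_mem_replicate ha ▸ hc, fun k => by simp [h, mul_comm]⟩

namespace IsEig
variable {χ ψ : G → ℂ} {x : G} {s t : Multiset ℂ}

theorem congr (h : IsEig χ x s) {θ : H → ℂ} {y : H} (e : ∀ k : ℕ, θ (y ^ k) = χ (x ^ k)) :
    IsEig θ y s := ⟨h.ne, fun k => (e k).trans (h.sum k)⟩

theorem unique (h : IsEig χ x s) (h' : IsEig χ x t) : s = t :=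
  multiset_eq_of_power_sums_eq h.ne h'.ne fun k _ => (h.sum k).symm.trans (h'.sum k)

theorem card (h : IsEig χ x s) : s.card = charDegree χ := by
  have := h.sum 0
  simp only [pow_zero, Multiset.map_const', Multiset.sum_replicate, nsmul_eq_mul, mul_one] at this
  exact (charDegree_eq_of_apply_one this).symm

theorem add (h : IsEig χ x s) (h' : IsEig ψ x t) : IsEig (χ + ψ) x (s + t) :=
  ⟨fun a ha => (Multiset.mem_add.1 ha).elim (h.ne a) (h'.ne a), fun k => by
    simp [h.sum, h'.sum]⟩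

theorem smul (h : IsEig χ x s) {θ : H → ℂ} {y : H} {c : ℂ} (hc : c ≠ 0)
    (e : ∀ k : ℕ, θ (y ^ k) = c ^ k * χ (x ^ k)) : IsEig θ y (s.map (c * ·)) :=
  ⟨fun a ha => by
    obtain ⟨b, hb, rfl⟩ := Multiset.mem_map.1 ha
    exact mul_ne_zero hc (h.ne b hb), fun k => by
    rw [e, h.sum, Multiset.map_map, ← Multiset.sum_map_mul_left]
    simp [mul_pow]⟩

theorem of_isConj (hχ : IsClassFunction G χ) (h : IsEig χ x s) {y : G} (e : IsConj x y) :
    IsEig χ y s := h.congr fun k => (hχ.of_isConj (e.pow k)).symm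

theorem apply (h : IsEig χ x s) : χ x = s.sum := by simpa using h.sum 1

theorem pow (h : IsEig χ x s) (n : ℕ) : IsEig χ (x ^ n) (s.map (· ^ n)) :=
  ⟨fun a ha => by
    obtain ⟨b, hb, rfl⟩ := Multiset.mem_map.1 ha
    exact pow_ne_zero _ (h.ne b hb), fun k => by
    rw [← pow_mul, h.sum, Multiset.map_map]
    simp [pow_mul]⟩

theorem exists_basis {V : Type*} [AddCommGroup V] [Module ℂ V] [FiniteDimensional ℂ V]
    {ρ : Representation ℂ G V} (h : IsEig ρ.character x s) :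
    ∃ (b : Module.Basis (Fin (Module.finrank ℂ V)) ℂ V) (ε : Fin (Module.finrank ℂ V) → ℂ),
      (∀ j, ρ x (b j) = ε j • b j) ∧ s = Finset.univ.val.map ε ∧ ∀ j, ε j ^ orderOf x = 1 := by
  classical
  obtain ⟨b, ε, h1, h2⟩ := exists_eigenbasis (ρ x) (orderOf_pos x).ne'
    (by rw [← map_pow, pow_orderOf_eq_one, map_one])
  have hm : LinearMap.toMatrix b b (ρ x) = Matrix.diagonal ε := by
    ext i j
    rw [LinearMap.toMatrix_apply, h2, map_smul, Module.Basis.repr_self, Matrix.diagonal_apply]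
    by_cases hij : i = j
    · subst hij; simp
    · simp [hij]
  refine ⟨b, ε, h2, h.unique (isEig_of_fun
    (fun i => ne_zero_of_pow_eq_one' (orderOf_pos x).ne' (h1 i)) fun k => ?_), h1⟩
  rw [Representation.character, LinearMap.trace_eq_matrix_trace ℂ b, map_pow,
    ← LinearMap.toMatrix_pow, hm, Matrix.diagonal_pow, Matrix.trace_diagonal]
  simp

theorem pow_orderOf (hχ : IsCharacter G χ) (h : IsEig χ x s) {a : ℂ} (ha : a ∈ s) :
    a ^ orderOf x = 1 := by
  obtain ⟨n, ρ, rfl⟩ := hχ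
  obtain ⟨b, ε, -, rfl, h1⟩ := h.exists_basis
  obtain ⟨j, -, rfl⟩ := Multiset.mem_map.1 ha
  exact h1 j

theorem norm_eq (hχ : IsCharacter G χ) (h : IsEig χ x s) {a : ℂ} (ha : a ∈ s) : ‖a‖ = 1 :=
  norm_eq_one_of_pow_eq_one' (orderOf_pos x).ne' (h.pow_orderOf hχ ha)

theorem detChar_eq (hχ : IsCharacter G χ) (h : IsEig χ x s) : detChar χ x = s.prod := by
  obtain ⟨ε, h1, h2, h3⟩ := hχ.exists_eigenvalues x
  rw [h3, h.unique (isEig_of_fun (fun i => ne_zero_of_pow_eq_one' (orderOf_pos x).ne' (h1 i)) h2)]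
  rfl

theorem count_le_finrank [DecidableEq ℂ] {V : Type*} [AddCommGroup V] [Module ℂ V]
    [FiniteDimensional ℂ V] {ρ : Representation ℂ G V} (h : IsEig ρ.character x s) (c : ℂ) :
    s.count c ≤ Module.finrank ℂ (Module.End.eigenspace (ρ x) c) := by
  obtain ⟨b, ε, h1, rfl, -⟩ := h.exists_basis
  have h2 : LinearIndependent ℂ fun j : {j // ε j = c} =>
      (⟨b j, Module.End.mem_eigenspace_iff.2 (by rw [h1, j.2])⟩ :
        Module.End.eigenspace (ρ x) c) :=
    LinearIndependent.of_comp (Submodule.subtype _)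
      (b.linearIndependent.comp (fun j : {j // ε j = c} => j.1) Subtype.val_injective)
  refine le_of_eq_of_le ?_ h2.fintype_card_le_finrank
  rw [Multiset.count_map, Fintype.card_subtype, ← Finset.filter_val, Finset.card_val]
  simp only [eq_comm]

theorem apply_pow_of_forall (h : IsEig χ x s) {c : ℂ} (hc : ∀ a ∈ s, a = c) (k : ℕ) :
    χ (x ^ k) = c ^ k * charDegree χ := by
  rw [h.sum, Multiset.eq_replicate_card.2 hc, h.card]
  simp [mul_comm]

theorem mem_center (hχ : IsCharacter G χ) (h : IsEig χ x s) {c : ℂ} (hc : ∀ a ∈ s, a = c) :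
    x ∈ CT.center χ := by
  rcases s.empty_or_exists_mem with rfl | ⟨a, ha⟩
  · rw [hχ.mem_center_iff, h.apply, ← h.card]; simp
  · rw [hχ.mem_center_iff, ← pow_one x, h.apply_pow_of_forall hc, ← hc a ha, norm_mul, pow_one,
      h.norm_eq hχ ha]
    simp

theorem mem_ker (hχ : IsCharacter G χ) (h : IsEig χ x s) (hc : ∀ a ∈ s, a = 1) :
    x ∈ CT.ker χ := by
  rw [hχ.mem_ker_iff, ← pow_one x, h.apply_pow_of_forall hc, hχ.apply_one]; simp

end IsEig

/-- An element of the centre of a character has a single eigenvalue. -/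
theorem exists_scalar {χ : G → ℂ} (hχ : IsCharacter G χ) {z : G} (hz : z ∈ CT.center χ) :
    ∃ c : ℂ, c ^ orderOf z = 1 ∧ (∀ (k : ℕ) g, χ (z ^ k * g) = c ^ k * χ g) ∧
      IsEig χ z (Multiset.replicate (charDegree χ) c) := by
  obtain ⟨lam, h, -⟩ := hχ.exists_monoidHom_center
  have h1 : lam ⟨z, hz⟩ ^ orderOf z = 1 := by
    rw [← Subgroup.orderOf_mk z hz]; exact monoidHom_pow_orderOf lam _
  have h2 : ∀ (k : ℕ) g, χ (z ^ k * g) = lam ⟨z, hz⟩ ^ k * χ g := fun k g => by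
    rw [← map_pow, ← h]; rfl
  exact ⟨_, h1, h2, isEig_replicate (ne_zero_of_pow_eq_one' (orderOf_pos z).ne' h1) fun k => by
    rw [← hχ.apply_one, ← h2, mul_one]⟩

/-- Two elements with large eigenspaces do not generate an irreducible group. -/
theorem degree_eq_one_of_count [DecidableEq ℂ] (χ : IrrCharacter G) {x y : G} {s t : Multiset ℂ}
    (h : IsEig χ.1 x s) (h' : IsEig χ.1 y t) {a b : ℂ}
    (hc : charDegree χ.1 < s.count a + t.count b) (hg : closure {x, y} = ⊤) :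
    charDegree χ.1 = 1 := by
  obtain ⟨χ, n, ρ, hρ, rfl⟩ := χ
  simp only [charDegree_rep] at hc ⊢
  have h1 := Submodule.finrank_sup_add_finrank_inf_eq (Module.End.eigenspace (ρ x) a)
    (Module.End.eigenspace (ρ y) b)
  have h2 := Submodule.finrank_le (Module.End.eigenspace (ρ x) a ⊔ Module.End.eigenspace (ρ y) b)
  have h3 := h.count_le_finrank a
  have h4 := h'.count_le_finrank b
  obtain ⟨v, ⟨hv1, hv2⟩, hv⟩ := (Submodule.ne_bot_iff
    (Module.End.eigenspace (ρ x) a ⊓ Module.End.eigenspace (ρ y) b)).1 fun h0 => by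
      rw [h0, finrank_bot] at h1; omega
  have h5 : ∀ g : G, ∀ w ∈ Submodule.span ℂ {v}, ρ g w ∈ Submodule.span ℂ {v} := by
    intro g
    have hg' : g ∈ Submonoid.closure ({x, y} : Set G) := by
      rw [← SetLike.mem_coe, ← Subgroup.closure_toSubmonoid_of_finite, hg]; trivial
    induction hg' using Submonoid.closure_induction with
    | mem g hg =>
      intro w hw
      obtain ⟨c, rfl⟩ := Submodule.mem_span_singleton.1 hw
      rcases hg with rfl | rfl
      · rw [map_smul, Module.End.mem_eigenspace_iff.1 hv1]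
        exact Submodule.smul_mem _ _ (Submodule.smul_mem _ _ (Submodule.mem_span_singleton_self v))
      · rw [map_smul, Module.End.mem_eigenspace_iff.1 hv2]
        exact Submodule.smul_mem _ _ (Submodule.smul_mem _ _ (Submodule.mem_span_singleton_self v))
    | one => intro w hw; simpa using hw
    | mul g g' _ _ h1 h2 => intro w hw; rw [map_mul]; exact h1 _ (h2 _ hw)
  rcases ((rep_isIrreducible_iff ρ).1 hρ).2 _ h5 with h6 | h6
  · exact absurd (Submodule.span_singleton_eq_bot.1 h6) hv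
  · rw [← finrank_top, ← h6, finrank_span_singleton hv]

section Frob
variable {V : Type*} [NormedAddCommGroup V] [InnerProductSpace ℂ V] [FiniteDimensional ℂ V]
  {ρ : Representation ℂ G V}

theorem IsUnitaryRep.conj_eq_of_commute' (h : IsUnitaryRep ρ) {a b : G} {β : ℂ} (hβ : ‖β‖ = 1)
    (hc : Commute a (b * a * b⁻¹)) (hb : ∀ v, v ≠ 0 → ‖ρ b v - β • v‖ ^ 2 < 2 * ‖v‖ ^ 2) :
    ρ (b * a * b⁻¹) = ρ a := by
  obtain ⟨e, ε, -, he⟩ := exists_eigenbasis (ρ (b * a * b⁻¹)) (orderOf_pos (b * a * b⁻¹)).ne'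
    (by rw [← map_pow, pow_orderOf_eq_one, map_one])
  refine e.ext fun i => ?_
  rw [he]
  by_contra hne
  set w := ρ a (e i) - ε i • e i with hw
  have hw0 : w ≠ 0 := fun h0 => hne (sub_eq_zero.1 h0).symm
  have hw1 : ρ (b * a * b⁻¹) w = ε i • w := by
    rw [hw, map_sub, map_smul, he, ← Module.End.mul_apply, ← map_mul, ← hc.eq, map_mul,
      Module.End.mul_apply, he, map_smul, smul_sub]
  have hbv : ρ b (ρ b⁻¹ w) = w := by
    rw [← Module.End.mul_apply, ← map_mul, mul_inv_cancel, map_one, Module.End.one_apply]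
  have hv : ρ a (ρ b⁻¹ w) = ε i • ρ b⁻¹ w := by
    rw [← map_smul, ← hw1, ← Module.End.mul_apply, ← Module.End.mul_apply, ← map_mul, ← map_mul]
    congr 2; group
  have h0 : ⟪ρ b⁻¹ w, w⟫_ℂ = 0 := h.inner_sub_eq_zero hv (e i)
  have h1 := hb (ρ b⁻¹ w) fun h0 => hw0 (by rw [← hbv, h0, map_zero])
  rw [hbv, norm_sub_rev, @norm_sub_sq ℂ, inner_smul_left, h0, norm_smul, hβ, h] at h1
  simp only [map_zero, mul_zero, sub_zero, one_mul] at h1
  linarith

theorem IsUnitaryRep.commute_of_near' (h : IsUnitaryRep ρ) (hinj : Function.Injective ρ) {a : G}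
    {c : ℂ} {r : ℝ} (hr0 : 0 ≤ r) (hr : r < 1 / 2) (ha : ∀ v, ‖ρ a v - c • v‖ ≤ r * ‖v‖) {b : G}
    {β : ℂ} (hβ : ‖β‖ = 1) (hb : ∀ v, ‖ρ b v - β • v‖ ≤ ‖v‖) : Commute a b := by
  have hc : Commute a (a * b * a⁻¹ * b⁻¹) := by
    refine h.commute_of_near hinj hr0 hr ha zero_le_one (by norm_num) fun v => ?_
    obtain ⟨w, rfl⟩ : ∃ w, v = ρ b (ρ a w) := ⟨ρ (a⁻¹ * b⁻¹) v, by
      rw [← Module.End.mul_apply, ← Module.End.mul_apply, ← map_mul, ← map_mul]; simp⟩
    have e1 : ρ (a * b * a⁻¹ * b⁻¹) (ρ b (ρ a w)) = ρ a (ρ b w) := by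
      rw [← Module.End.mul_apply, ← Module.End.mul_apply, ← Module.End.mul_apply, ← map_mul,
        ← map_mul, ← map_mul]
      congr 2; group
    have e2 : ρ a (ρ b w) - ρ b (ρ a w) = (ρ a (ρ b w - β • w) - c • (ρ b w - β • w)) -
        (ρ b (ρ a w - c • w) - β • (ρ a w - c • w)) := by
      simp only [map_sub, map_smul, smul_sub, smul_comm c β]; abel
    rw [e1, h, h, e2]
    refine (norm_sub_le _ _).trans ?_
    have i1 := (ha (ρ b w - β • w)).trans (mul_le_mul_of_nonneg_left (hb w) hr0)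
    have i2 := (hb (ρ a w - c • w)).trans (ha w)
    nlinarith [norm_nonneg w]
  have hc' : Commute a (b * a * b⁻¹) := by
    have := ((Commute.refl a).inv_right.mul_right hc).inv_right
    convert this using 1; group
  have := hinj (h.conj_eq_of_commute' hβ hc' fun v hv => by
    have h2 := pow_le_pow_left₀ (norm_nonneg _) (hb v) 2
    have h3 : 0 < ‖v‖ ^ 2 := pow_pos (norm_pos_iff.2 hv) 2
    linarith)
  exact (mul_inv_eq_iff_eq_mul.1 this).symm

end Frob

/-- An element with two eigenvalues at distance less than one has an abelian normal closure. -/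
theorem IsEig.comm_normalClosure {χ : G → ℂ} (hχ : IsCharacter G χ) (hk : ker χ = ⊥) {z : G}
    {s : Multiset ℂ} (h : IsEig χ z s) {α β : ℂ} (hβ : ‖β‖ = 1) (hs : ∀ a ∈ s, a = α ∨ a = β)
    (h1 : ‖α - β‖ < 1) : IsMulCommutative (normalClosure ({z} : Set G)) := by
  obtain ⟨W, _, _, _, ρ, hρ, rfl⟩ := hχ.exists_unitary
  have hinj : Function.Injective ρ := (injective_iff_map_eq_one ρ).2 fun g hg =>
    mem_bot.1 (hk ▸ (rep_mem_ker_iff ρ g).2 hg)
  have hb : ∀ y ∈ Group.conjugatesOfSet {z}, ∀ (c : ℂ) (r : ℝ), ‖α - c‖ ≤ r → ‖β - c‖ ≤ r →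
      ∀ v, ‖ρ y v - c • v‖ ≤ r * ‖v‖ := fun y hy c r h2 h3 => by
    obtain ⟨_, rfl, hy'⟩ := Group.mem_conjugatesOfSet_iff.1 hy
    obtain ⟨b, ε, h4, rfl, -⟩ := (h.of_isConj hχ.isClassFunction hy').exists_basis
    refine hρ.norm_sub_smul_le_of_basis b h4 ((norm_nonneg _).trans h2) fun j => ?_
    rcases hs (ε j) (Multiset.mem_map_of_mem _ (Finset.mem_univ j)) with h5 | h5 <;> rwa [h5]
  refine isMulCommutative_closure fun a ha b hb' => hρ.commute_of_near' hinj
    (c := (α + β) / 2) (r := ‖α - β‖ / 2) (by positivity) (by linarith) (hb a ha _ _ ?_ ?_)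
    hβ (by simpa using hb b hb' β 1 h1.le (by simp))
  · rw [show α - (α + β) / 2 = (α - β) / 2 by ring]; simp
  · rw [show β - (α + β) / 2 = -(α - β) / 2 by ring, norm_div, norm_neg]; simp

end LG
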