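import Cfsg.Agent.Lib.Char.SymSq
import Cfsg.Agent.Lib.Char.CentralExt
import Cfsg.Agent.Lib.Char.Prod
import Cfsg.Agent.Lib.Char.Galois
import Cfsg.Agent.Lib.Char.CommSum
import Cfsg.Agent.Lib.Grp.Frob

/-!
# Averaging over a subgroup acting irreducibly
-/

set_option autoImplicit false

namespace LG

open Cfsg CT
open scoped ComplexConjugate

/-- If `Θ ∘ f` is irreducible, averaging over conjugation by the image of `f` behaves as for the
whole group. -/
theorem sum_conj_of_isIrr_comp {G Γ : Type*} [Group G] [Fintype G] [Group Γ] {Θ : Γ → ℂ}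
    (hΘ : IsCharacter Γ Θ) (f : G →* Γ) (hirr : IsIrrCharacter G fun g => Θ (f g)) (u w : Γ) :
    ∑ g : G, Θ (f g * u * (f g)⁻¹ * w) = (Nat.card G : ℂ) * Θ u * Θ w / Θ 1 := by
  obtain ⟨n, ρ, rfl⟩ := hΘ
  have h1 : ρ.character 1 ≠ 0 := by simpa using irr_apply_one_ne_zero ⟨_, hirr⟩
  obtain ⟨c, hc⟩ := rep_exists_scalar_of_commute (ρ.comp f)
    (rep_isIrreducible_of_character (ρ.comp f) hirr) (∑ g : G, ρ (f g * u * (f g)⁻¹)) fun h => by
      rw [Finset.sum_mul, Finset.mul_sum]
      refine Fintype.sum_equiv (Equiv.mulLeft h⁻¹) _ _ fun g => ?_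
      simp only [MonoidHom.comp_apply, ← map_mul ρ, Equiv.coe_mulLeft, map_mul f, map_inv f]
      congr 1; group
  have key : ∀ w, ∑ g : G, ρ.character (f g * u * (f g)⁻¹ * w) = c * ρ.character w := fun w => by
    have := congrArg (fun T => LinearMap.trace ℂ _ (T * ρ w)) hc
    simp only [Finset.sum_mul, ← map_mul, map_sum, smul_mul_assoc, one_mul, map_smul,
      smul_eq_mul] at this
    exact this
  have h2 := key 1
  simp only [mul_one, Representation.char_conj, Finset.sum_const, Finset.card_univ,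
    nsmul_eq_mul] at h2
  rw [key, Nat.card_eq_fintype_card, h2]
  field_simp

theorem eq_of_sum_of_sum_sq {ι : Type*} [Fintype ι] (a : ι → ℂ) {c : ℝ}
    (h1 : ∑ i, a i = Fintype.card ι * c) (h2 : ∑ i, a i * conj (a i) = Fintype.card ι * c ^ 2)
    (i : ι) : a i = c := by
  have h3 : ∑ i, (a i - c) * conj (a i - c) = 0 := by
    have h4 : ∑ i, conj (a i) = Fintype.card ι * c := by rw [← map_sum, h1]; simp
    simp only [map_sub, Complex.conj_ofReal, mul_sub, sub_mul, Finset.sum_sub_distrib,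
      ← Finset.mul_sum, ← Finset.sum_mul, h2, h1]
    rw [h4, Finset.sum_const, Finset.card_univ, nsmul_eq_mul]
    ring
  simp only [Complex.mul_conj, ← Complex.ofReal_sum, Complex.ofReal_eq_zero] at h3
  have := (Finset.sum_eq_zero_iff_of_nonneg fun i _ => Complex.normSq_nonneg _).1 h3 i
    (Finset.mem_univ i)
  exact sub_eq_zero.1 (Complex.normSq_eq_zero.1 this)

end LG
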