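import Cfsg.Agent.Lib.Lin.HallPi
import Cfsg.Agent.Lib.Char.Extend
import Cfsg.Agent.Lib.Char.CliffordCorr

/-!
# `p`-rational companions of characters of `K ⋊ P`; `p`-solvable linear groups
-/

set_option autoImplicit false

namespace LG

open Cfsg CT MulAction Subgroup

universe u
variable {G : Type u} [Group G] [Finite G] {p : ℕ} [hp : Fact p.Prime]

/-- `θ` is fixed by the Galois automorphisms fixing the `p'`-roots of unity. -/
def PRat (p : ℕ) (θ : G → ℂ) : Prop :=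
  ∀ k : ℕ, k.Coprime (Nat.card G) →
    k ≡ 1 [MOD Nat.card G / p ^ (Nat.card G).factorization p] → ∀ g, θ (g ^ k) = θ g

theorem exists_pRat_res_eq_irr {K : Subgroup G} [K.Normal] (hK : ¬ p ∣ Nat.card K) {a : ℕ}
    (ha : K.index = p ^ a) (ψ : IrrCharacter G) :
    ∃ Ψ : G → ℂ, IsCharacter G Ψ ∧ res K Ψ = res K ψ.1 ∧ PRat p Ψ := by
  obtain ⟨θ, hθ⟩ := exists_irr_liesUnder K ψ
  have h := le_inertia (G := G) θ
  have hcop : (Nat.card (K.subgroupOf (stabilizer G θ))).Coprime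
      (K.subgroupOf (stabilizer G θ)).index := by
    rw [GT.card_subgroupOf_of_le h]
    exact (((hp.1.coprime_iff_not_dvd.2 hK).pow_left a).symm).coprime_dvd_right
      (ha ▸ relIndex_dvd_index_of_normal K _)
  obtain ⟨η, ⟨hη, hd⟩, huniq⟩ := existsUnique_canonical_extension_of_coprime _ (irrOf h θ)
    (forall_smul_iff.1 (forall_smul_irrOf h fun t ht => ht)) hcop
  have hη' := (res_subgroupOf_eq_irrOf_iff h).1 hη
  have hl := liesOverLe_of_resLe_eq hη'
  have h1 := clifford (χ := ⟨_, cliffordCorr_isIrr le_rfl hl⟩) (cliffordCorr_liesOver le_rfl hl)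
  rw [cliffordCorr_mult le_rfl hl, hη', mult_eq_of_ip_eq (n := 1) (by simp [ip_irr_self]),
    Nat.cast_one, one_smul] at h1
  refine ⟨(mult (res K ψ.1) θ.1 : ℂ) • ind _ η.1, η.2.isCharacter.ind.nsmul _, ?_,
    fun k hk hk1 g => ?_⟩
  · rw [res_smul, h1, ← clifford hθ]
  obtain ⟨σ, hσ, hσ'⟩ := exists_gal_of_coprime_card hk
  have e : irrGal σ η = η := huniq _ ⟨by
    rw [irrGal_val, res_gal, hη]
    funext x
    rw [gal_apply, (irrOf h θ).2.isCharacter.isGen.ringHom_apply_eq hσ (g := x)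
      (Subtype.ext (Subtype.ext pow_card_eq_one'))]
    refine congrArg (irrOf h θ).1 (Subtype.ext (Subtype.ext ?_))
    have := pow_ordCompl_eq_one (p := p) (g := ((x : stabilizer G θ) : G))
      fun hd => hK (hd.trans (K.orderOf_dvd_natCard x.2))
    exact (pow_eq_pow_of_modEq' this hk1).trans (pow_one _),
    by rwa [irrGal_val, η.2.isCharacter.detOrder_gal]⟩
  have e' := congrFun (hσ' _ η.2.isCharacter.ind.isGen) g
  rw [gal_apply, map_ind, powFun_apply] at e'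
  rw [Pi.smul_apply, Pi.smul_apply, ← e']
  exact congrArg (fun ξ : IrrCharacter _ => _ • ind _ ξ.1 g) e

theorem exists_pRat_res_eq {K : Subgroup G} [K.Normal] (hK : ¬ p ∣ Nat.card K) {a : ℕ}
    (ha : K.index = p ^ a) {χ : G → ℂ} (hχ : IsCharacter G χ) :
    ∃ Ψ : G → ℂ, IsCharacter G Ψ ∧ res K Ψ = res K χ ∧ PRat p Ψ := by
  choose Ψ h1 h2 h3 using exists_pRat_res_eq_irr hK ha
  obtain ⟨m, rfl⟩ := hχ.exists_nat_comb
  refine ⟨∑ ψ, (m ψ : ℂ) • Ψ ψ, isCharacter_sum _ _ fun ψ _ => (h1 ψ).nsmul _, ?_,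
    fun k hk hk1 g => ?_⟩
  · simp only [res_sum, res_smul, h2]
  · simp only [Finset.sum_apply, Pi.smul_apply, h3 _ k hk hk1]

/-- A character of `K ⋊ P` can be replaced by one with the same restriction to `K` which is
rational on `P`. -/
theorem exists_rational_companion {K P : Subgroup G} (hK : ¬ p ∣ Nat.card K) (hP : IsPGroup p P)
    (hn : P ≤ normalizer (K : Set G)) {χ : (P ⊔ K : Subgroup G) → ℂ} (hχ : IsCharacter _ χ) :
    ∃ Ψ : (P ⊔ K : Subgroup G) → ℂ, IsCharacter _ Ψ ∧ charDegree Ψ = charDegree χ ∧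
      (∀ g : (P ⊔ K : Subgroup G), (g : G) ∈ P → ∀ k : ℕ, k.Coprime p → Ψ (g ^ k) = Ψ g) ∧
      ∀ x ∈ ker Ψ, ∀ y : (P ⊔ K : Subgroup G), (y : G) ∈ K → x * y * x⁻¹ * y⁻¹ ∈ ker χ := by
  have hN : (K.subgroupOf (P ⊔ K)).Normal :=
    normal_subgroupOf_of_le_normalizer (sup_le hn le_normalizer)
  obtain ⟨a, ha⟩ := hP.exists_relIndex_eq_pow K
  obtain ⟨Ψ, h1, h2, h3⟩ := exists_pRat_res_eq (K := K.subgroupOf (P ⊔ K))
    (by rwa [GT.card_subgroupOf_of_le le_sup_right])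
    ((GT.relIndex_sup_of_le_normalizer hn).trans ha) hχ
  have h4 : Ψ 1 = χ 1 := congrFun h2 1
  refine ⟨Ψ, h1, by simp only [charDegree, h4], fun g hg k hk => ?_, fun x hx y hy => ?_⟩
  · obtain ⟨b, hb⟩ := hP ⟨g, hg⟩
    exact pow_eq_of_pRational hp.1 h3 (a := b) (Subtype.ext (congrArg Subtype.val hb :)) hk
  · have hm : x * y * x⁻¹ * y⁻¹ ∈ K.subgroupOf (P ⊔ K) :=
      mul_mem (hN.conj_mem y hy x) (inv_mem (show y ∈ K.subgroupOf _ from hy))
    rw [hχ.mem_ker_iff, ← h4, ← show Ψ (x * y * x⁻¹ * y⁻¹) = χ (x * y * x⁻¹ * y⁻¹) from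
      congrFun h2 ⟨_, hm⟩, ← h1.mem_ker_iff, mul_assoc, mul_assoc]
    exact mul_mem hx (by simpa [mul_assoc] using h1.ker_normal.conj_mem _ (inv_mem hx) y)

/-- Lifting the action of a Sylow `p`-subgroup on `O_{p'}(G / O_p(G))` to `G`. -/
theorem exists_complement_pair (h : IsPSolvable p G) : ∃ K P : Subgroup G, ¬ p ∣ Nat.card K ∧
    IsPGroup p P ∧ P ≤ normalizer (K : Set G) ∧ P ⊓ centralizer (K : Set G) ≤ pCore p G ∧
    (pCore p G).relIndex P = p ^ (pCore p G).index.factorization p := by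
  set N := pCore p G
  set M := (pPrimeCore p (G ⧸ N)).comap (QuotientGroup.mk' N)
  have hM := GT.hallOK_compl_singleton (GT.isPSolvable_subgroup h M)
  obtain ⟨K, hK⟩ := hM.exists_isPiHallOf
  have h1 : N ⊔ K = M := by
    refine GT.sup_eq_of_isPiHallOf hK (GT.le_comap_mk' _ _) ?_
    rw [GT.relIndex_comap_mk', GT.isPiNat_compl_singleton_iff hp.1]
    exact GT.not_dvd_card_pPrimeCore p _
  have hb : N.map (QuotientGroup.mk' N) = ⊥ := GT.map_mk'_eq_bot_iff.2 le_rfl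
  have h2 : K.map (QuotientGroup.mk' N) = pPrimeCore p (G ⧸ N) := by
    rw [← map_comap_eq_self_of_surjective (QuotientGroup.mk'_surjective N) (pPrimeCore p _),
      show comap _ _ = N ⊔ K from h1.symm, Subgroup.map_sup, hb, bot_sup_eq]
  have h3 : (normalizer (K : Set G)).map (QuotientGroup.mk' N) = ⊤ := by
    rw [GT.map_mk'_eq_top_iff, ← hM.frattini_top hK, ← h1, sup_assoc, sup_eq_right.2 le_normalizer,
      sup_comm]
  obtain ⟨P, hP⟩ := GT.exists_isSylowIn p (normalizer (K : Set G))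
  refine ⟨K, P, (GT.isPiHallOf_compl_singleton_iff.1 hK).2.1, hP.isPGroup, hP.le, ?_, ?_⟩
  · rw [← GT.map_mk'_eq_bot_iff]
    refine GT.eq_bot_of_isPGroup_of_not_dvd ((hP.isPGroup.to_le inf_le_left).map _)
      fun hd => GT.not_dvd_card_pPrimeCore p (G ⧸ N) (hd.trans (card_dvd_of_le ?_))
    refine (map_mono inf_le_right).trans ((GT.map_centralizer_le _ _).trans ?_)
    rw [h2]
    exact GT.centralizer_pPrimeCore_le (GT.isPSolvable_quotient h N) (GT.pCore_quotient_pCore p G)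
  · rw [← GT.card_map_mk', (hP.map _).card_eq, h3, card_top, index]

end LG
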