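import Cfsg.Agent.Lib.Char.Induce
import Cfsg.Agent.Lib.Char.Values
import Cfsg.Agent.Lib.Grp.Frob

/-!
# Characters of small degree and trivial intersection Sylow subgroups (Feit)
-/

set_option autoImplicit false

namespace LG

open Cfsg CT GT Subgroup
open scoped Pointwise commutatorElement

theorem exists_fixed_ne_zero {p : ℕ} [hp : Fact p.Prime] {P A : Type*} [Group P] [Finite P]
    (hP : IsPGroup p P) [AddCommGroup A] [DistribMulAction P A] (hA : ∀ a : A, p • a = 0)
    (I : AddSubgroup A) (hI : ∀ (x : P), ∀ a ∈ I, x • a ∈ I) {a : A} (haI : a ∈ I) (ha : a ≠ 0) :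
    ∃ b ∈ I, b ≠ 0 ∧ ∀ x : P, x • b = b := by
  let W : AddSubgroup A := AddSubgroup.closure (Set.range fun u : P => u • a)
  have hWI : W ≤ I := (AddSubgroup.closure_le I).mpr (by
    rintro _ ⟨u, rfl⟩
    exact hI u a haI)
  have hfin : Finite W := AddCommGroup.finite_of_fg_isAddTorsion W (fun a =>
    isOfFinAddOrder_iff_nsmul_eq_zero.mpr ⟨p, hp.out.pos, Subtype.ext (hA a)⟩)
  have hmul : ∀ (u : P), ∀ w ∈ W, u • w ∈ W := by
    intro u w hw
    induction hw using AddSubgroup.closure_induction with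
    | mem x hx =>
      obtain ⟨u', rfl⟩ := hx
      exact AddSubgroup.subset_closure ⟨u * u', mul_smul _ _ _⟩
    | zero => rw [smul_zero]; exact W.zero_mem
    | add x y _ _ hx hy => rw [smul_add]; exact W.add_mem hx hy
    | neg x _ hx => rw [smul_neg]; exact W.neg_mem hx
  let _ : MulAction P W :=
    { smul := fun u w => ⟨_, hmul u w w.2⟩
      one_smul := fun w => Subtype.ext (one_smul P (w : A))
      mul_smul := fun u u' w => Subtype.ext (mul_smul u u' (w : A)) }
  have hvW : a ∈ W := AddSubgroup.subset_closure ⟨1, one_smul _ _⟩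
  have hord : addOrderOf (⟨a, hvW⟩ : W) = p :=
    addOrderOf_eq_prime (Subtype.ext (hA a)) (fun h => ha (congrArg Subtype.val h))
  obtain ⟨w, hw, hw0⟩ := hP.exists_fixed_point_of_prime_dvd_card_of_fixed_point W
    (hord ▸ addOrderOf_dvd_natCard _) (a := 0) (fun u => Subtype.ext (smul_zero u))
  exact ⟨w, hWI w.2, fun h => hw0 (Subtype.ext h.symm), fun u => congrArg Subtype.val (hw u)⟩

theorem exists_valuationSubring_prime {p : ℕ} (hp : p.Prime) :
    ∃ O : ValuationSubring ℂ, O.valuation p < 1 := by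
  obtain ⟨M, hM⟩ := exists_pModular hp
  obtain ⟨O, -, hO⟩ := Ideal.image_subset_nonunits_valuationSubring
    (A := AlgInt.toSubring) M hM.2.1.ne_top
  exact ⟨O, O.mem_nonunits_iff.1 (hO ⟨(p : AlgInt), hM.2.2, rfl⟩)⟩

theorem sum_mem_of_free {P X A : Type*} [Group P] [Fintype P] [MulAction P X] [AddCommGroup A]
    (S : AddSubgroup A) (F : X → A) (s : Finset X) (hs : ∀ (y : P), ∀ x ∈ s, y • x ∈ s)
    (hfree : ∀ x ∈ s, ∀ y : P, y • x = x → y = 1) (h : ∀ x ∈ s, ∑ y : P, F (y • x) ∈ S) :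
    ∑ x ∈ s, F x ∈ S := by
  classical
  rw [← Finset.sum_fiberwise_of_maps_to (t := s.image (Quotient.mk (MulAction.orbitRel P X)))
    (g := Quotient.mk (MulAction.orbitRel P X)) fun x hx => Finset.mem_image_of_mem _ hx]
  refine S.sum_mem fun ω hω => ?_
  obtain ⟨x, hx, rfl⟩ := Finset.mem_image.1 hω
  have hinj : Function.Injective fun y : P => y • x := fun y y' e => by
    have := hfree x hx (y'⁻¹ * y) (by rw [mul_smul, show y • x = y' • x from e, inv_smul_smul])
    exact (inv_mul_eq_one.1 this).symm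
  convert h x hx using 1
  rw [← Finset.sum_image (s := Finset.univ) (g := fun y : P => y • x) hinj.injOn]
  refine Finset.sum_congr (Finset.ext fun z => ?_) fun _ _ => rfl
  simp only [Finset.mem_filter, Finset.mem_image, Finset.mem_univ, true_and, Quotient.eq]
  exact ⟨fun h => h.2, fun ⟨y, hy⟩ => ⟨hy ▸ hs y x hx, y, hy⟩⟩

variable {G : Type*} [Group G] [Finite G] {p : ℕ} [hp : Fact p.Prime]

/-- If `P` is a `p`-subgroup acting freely on the nontrivial cosets of `H` and the dimension is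
less than `|P|`, then an `H`-fixed vector whose trace to `G` vanishes is zero. -/
theorem eq_zero_of_trace_eq_zero {n : ℕ} (ρ : Representation ℂ G (Fin n → ℂ)) {P H : Subgroup G}
    (hP : IsPGroup p P) (hPH : P ≤ H) (hn : n < Nat.card P)
    (hfree : ∀ y ∈ P, ∀ g : G, y ≠ 1 → g⁻¹ * y * g ∈ H → g ∈ H) [Fintype (G ⧸ H)] {f : Fin n → ℂ}
    (hf : ∀ h ∈ H, ρ h f = f) (htr : ∑ q : G ⧸ H, ρ q.out f = 0) : f = 0 := by
  classical
  have := Fintype.ofFinite P
  obtain ⟨O, hO⟩ := exists_valuationSubring_prime hp.out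
  set v := O.valuation with hv
  by_contra hf0
  have hmul : ∀ a b u, ρ a (ρ b u) = ρ (a * b) u := fun a b u => by
    rw [map_mul, Module.End.mul_apply]
  obtain ⟨i₀, hi₀⟩ := Function.ne_iff.1 hf0
  obtain ⟨⟨g₁, i₁⟩, -, hmax⟩ := Set.exists_max_image (Set.univ : Set (G × Fin n))
    (fun x => v (ρ x.1 f x.2)) (Set.toFinite _) ⟨(1, i₀), trivial⟩
  set ν := v (ρ g₁ f i₁) with hν
  have hν0 : 0 < ν := lt_of_lt_of_le (by simpa using zero_lt_iff.2 (v.ne_zero_iff.2 hi₀))
    (hmax (1, i₀) trivial)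
  let S : AddSubgroup (Fin n → ℂ) :=
    { carrier := {w | ∀ g i, v (ρ g w i) < ν}
      add_mem' := fun {a b} ha hb g i => by
        rw [map_add, Pi.add_apply]; exact v.map_add_lt (ha g i) (hb g i)
      zero_mem' := fun g i => by rw [map_zero, Pi.zero_apply, map_zero]; exact hν0
      neg_mem' := fun {a} ha g i => by rw [map_neg, Pi.neg_apply, v.map_neg]; exact ha g i }
  have hS1 : ∀ g, ∀ w ∈ S, ρ g w ∈ S := fun g w hw g' i => by rw [hmul]; exact hw _ i
  have hS2 : ∀ c : ℂ, v c ≤ 1 → ∀ w ∈ S, c • w ∈ S := fun c hc w hw g i => by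
    rw [map_smul, Pi.smul_apply, smul_eq_mul, map_mul]
    exact (mul_le_of_le_one_left' hc).trans_lt (hw g i)
  have hS3 : ∀ c : ℂ, v c < 1 → ∀ x, c • ρ x f ∈ S := fun c hc x g i => by
    rw [map_smul, hmul, Pi.smul_apply, smul_eq_mul, map_mul]
    exact (mul_le_mul_right (hmax (g * x, i) trivial) _).trans_lt (mul_lt_of_lt_one_left hν0 hc)
  have claim : ∀ x, ∑ y : P, ρ (y * x) f ∈ S := fun x => by
    let r := IsLocalRing.residue O
    let _ : DistribMulAction P (P → IsLocalRing.ResidueField O) :=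
      { smul := fun u d y => d (u⁻¹ * y)
        one_smul := fun d => funext fun y => congrArg d (by simp)
        mul_smul := fun u u' d => funext fun y => congrArg d (by simp [mul_assoc])
        smul_zero := fun _ => rfl
        smul_add := fun _ _ _ => rfl }
    have hr : ∀ c : O, r c = 0 ↔ v c < 1 := fun c =>
      (IsLocalRing.residue_eq_zero_iff c).trans (O.valuation_lt_one_iff c)
    let I : AddSubgroup (P → IsLocalRing.ResidueField O) :=
      { carrier := {d | ∃ c : P → O, (∀ y, r (c y) = d y) ∧ ∑ y : P, (c y : ℂ) • ρ (y * x) f ∈ S}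
        add_mem' := by
          rintro a b ⟨c, h1, h2⟩ ⟨c', h3, h4⟩
          refine ⟨c + c', fun y => by rw [Pi.add_apply, map_add, h1, h3, Pi.add_apply], ?_⟩
          simpa only [Pi.add_apply, AddMemClass.coe_add, add_smul, Finset.sum_add_distrib]
            using S.add_mem h2 h4
        zero_mem' := ⟨0, fun y => map_zero r, by simp⟩
        neg_mem' := by
          rintro a ⟨c, h1, h2⟩
          refine ⟨-c, fun y => by rw [Pi.neg_apply, map_neg, h1, Pi.neg_apply], ?_⟩
          simpa only [Pi.neg_apply, NegMemClass.coe_neg, neg_smul, Finset.sum_neg_distrib]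
            using S.neg_mem h2 }
    have hdep : ¬ LinearIndependent ℂ fun y : P => ρ (y * x) f := fun hli => by
      have := hli.fintype_card_le_finrank
      rw [Module.finrank_fin_fun, ← Nat.card_eq_fintype_card] at this
      omega
    obtain ⟨c, hc, y₀, hy₀⟩ := Fintype.not_linearIndependent_iff.1 hdep
    obtain ⟨y₁, -, hy₁⟩ := Set.exists_max_image (Set.univ : Set P) (fun y => v (c y))
      (Set.toFinite _) ⟨1, trivial⟩
    have hc1 : v (c y₁) ≠ 0 := (lt_of_lt_of_le (zero_lt_iff.2 (v.ne_zero_iff.2 hy₀))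
      (hy₁ y₀ trivial)).ne'
    have hc1' : c y₁ ≠ 0 := v.ne_zero_iff.1 hc1
    obtain ⟨d, ⟨e, he1, he2⟩, hd0, hd⟩ := exists_fixed_ne_zero hP
      (A := P → IsLocalRing.ResidueField O) (fun a => funext fun y => by
        rw [Pi.smul_apply, nsmul_eq_mul, ← map_natCast r, (hr p).2 (by simpa using hO), zero_mul,
          Pi.zero_apply]) I
      (by
        rintro u _ ⟨e, h1, h2⟩
        refine ⟨fun y => e (u⁻¹ * y), fun y => h1 _, ?_⟩
        convert hS1 u _ h2 using 1
        rw [map_sum]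
        refine Fintype.sum_equiv (Equiv.mulLeft u⁻¹) _ _ fun y => ?_
        rw [map_smul, hmul]
        simp)
      (a := fun y => r ⟨c y / c y₁, (O.valuation_le_one_iff _).1 (by
        rw [map_div₀]; exact div_le_one_of_le₀ (hy₁ y trivial) zero_le)⟩)
      ⟨_, fun y => rfl, by
        simp only [div_eq_inv_mul, mul_smul]
        rw [← Finset.smul_sum, hc, smul_zero]
        exact S.zero_mem⟩
      (fun h0 => by
        have := (hr _).1 (congrFun h0 y₁)
        simp [div_self hc1'] at this)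
    have hconst : ∀ y, d y = d 1 := fun y => by
      have : d (y⁻¹ * y) = d y := congrFun (hd y) y
      rw [← this, inv_mul_cancel]
    have hu : ¬ v (e 1) < 1 := fun h => hd0 (funext fun y => by
      rw [hconst, ← he1, (hr _).2 h, Pi.zero_apply])
    have hu1 : v (e 1) = 1 := le_antisymm (O.valuation_le_one _) (not_lt.1 hu)
    have hu0 : (e 1 : ℂ) ≠ 0 := v.ne_zero_iff.1 (hu1 ▸ one_ne_zero)
    have h1 : ∑ y : P, ((e 1 - e y : O) : ℂ) • ρ (y * x) f ∈ S :=
      S.sum_mem fun y _ => hS3 _ ((hr _).1 (by rw [map_sub, he1, he1, hconst y, sub_self])) _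
    have h2 := hS2 (e 1 : ℂ)⁻¹ (by rw [map_inv₀, hu1, inv_one]) _ (S.add_mem h1 he2)
    convert h2 using 1
    rw [← Finset.sum_add_distrib, Finset.smul_sum]
    refine Finset.sum_congr rfl fun y _ => ?_
    rw [← add_smul, AddSubgroupClass.coe_sub, sub_add_cancel, smul_smul, inv_mul_cancel₀ hu0,
      one_smul]
  have hF : ∀ g : G, ρ (g : G ⧸ H).out f = ρ g f := fun g => by
    obtain ⟨h, hh⟩ := QuotientGroup.mk_out_eq_mul H g
    rw [hh, ← hmul, hf h h.2]
  have hsum := sum_mem_of_free (P := P) S (fun q : G ⧸ H => ρ q.out f)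
    (Finset.univ.erase ((1 : G) : G ⧸ H))
    (fun y q hq => Finset.mem_erase.2 ⟨fun e => (Finset.mem_erase.1 hq).1 (by
      rw [smul_eq_iff_eq_inv_smul] at e
      rw [e]
      exact QuotientGroup.eq.2 (by simpa using hPH y.2)), Finset.mem_univ _⟩)
    (fun q hq y e => by
      obtain ⟨g, rfl⟩ := QuotientGroup.mk_surjective q
      by_contra hy
      refine (Finset.mem_erase.1 hq).1 (QuotientGroup.eq.2 ?_)
      have h1 : ((y : G) * g)⁻¹ * g ∈ H := QuotientGroup.eq.1 e
      simpa using hfree y y.2 g (fun h => hy (Subtype.ext h)) (by simpa [mul_assoc] using H.inv_mem h1))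
    (fun q _ => by
      obtain ⟨g, rfl⟩ := QuotientGroup.mk_surjective q
      convert claim g using 2 with y
      exact hF (y * g))
  rw [← Finset.add_sum_erase _ _ (Finset.mem_univ ((1 : G) : G ⧸ H)), hF, map_one,
    Module.End.one_apply, add_eq_zero_iff_eq_neg] at htr
  exact lt_irrefl _ ((htr ▸ S.neg_mem hsum : f ∈ S) g₁ i₁)

theorem ip_res_one_eq_zero_of_free (ξ : IrrCharacter G) (h1 : ξ ≠ irrOne G) {P H : Subgroup G}
    (hP : IsPGroup p P) (hPH : P ≤ H) (hn : charDegree ξ.1 < Nat.card P)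
    (hfree : ∀ y ∈ P, ∀ g : G, y ≠ 1 → g⁻¹ * y * g ∈ H → g ∈ H) :
    ip (res H ξ.1) (fun _ => 1) = 0 := by
  classical
  have := Fintype.ofFinite H
  have := Fintype.ofFinite (G ⧸ H)
  obtain ⟨ξ, n, ρ, hρ, rfl⟩ := ξ
  have hmul : ∀ a b u, ρ a (ρ b u) = ρ (a * b) u := fun a b u => by
    rw [map_mul, Module.End.mul_apply]
  have hG : ∀ w, (∀ g, ρ g w = w) → w = 0 := fun w hw => by
    rcases ((rep_isIrreducible_iff ρ).1 hρ).2 ρ.invariants (fun g v hv g' => by
      rw [hv g, hv g']) with h | h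
    · exact (Submodule.eq_bot_iff _).1 h w hw
    · refine absurd ((irr_ker_eq_top_iff _).1 (eq_top_iff.2 fun g _ => ?_)) h1
      exact (rep_mem_ker_iff ρ g).2 (LinearMap.ext fun v => h.ge Submodule.mem_top g)
  have h0 : ∑ h : H, ρ h = 0 := LinearMap.ext fun w => by
    rw [LinearMap.sum_apply, LinearMap.zero_apply]
    have hf : ∀ h ∈ H, ρ h (∑ k : H, ρ k w) = ∑ k : H, ρ k w := fun h hh => by
      rw [map_sum]
      exact Fintype.sum_equiv (Equiv.mulLeft ⟨h, hh⟩) _ _ fun k => hmul _ _ _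
    refine eq_zero_of_trace_eq_zero ρ hP hPH
      (by rwa [charDegree_rep, Module.finrank_fin_fun] at hn) hfree hf (hG _ fun g => ?_)
    rw [map_sum]
    refine Fintype.sum_equiv (MulAction.toPerm g) _ _ fun q => ?_
    obtain ⟨h, hh⟩ := QuotientGroup.mk_out_eq_mul H (g * q.out)
    rw [MulAction.toPerm_apply, ← q.out_eq', MulAction.Quotient.smul_mk, smul_eq_mul, q.out_eq', hh,
      ← hmul _ h, hf h h.2, hmul]
  rw [ip_def]
  simp only [res_apply, map_one, mul_one, Representation.character]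
  rw [← map_sum, h0, map_zero, mul_zero]

theorem ip_res_self_of_free {χ : G → ℂ} (hχ : IsCharacter G χ) {P H : Subgroup G}
    (hP : IsPGroup p P) (hPH : P ≤ H) (hn : charDegree χ ^ 2 ≤ Nat.card P)
    (hfree : ∀ y ∈ P, ∀ g : G, y ≠ 1 → g⁻¹ * y * g ∈ H → g ∈ H) :
    ip (res H χ) (res H χ) = ip χ χ := by
  classical
  by_cases h0 : χ = 0
  · rw [h0, res_zero, ip_zero_left, ip_zero_left]
  have e : ∀ {K : Type _} [Group K] [Finite K] (φ : K → ℂ),
      ip (φ * cbar φ) (fun _ => 1) = ip φ φ := fun φ => by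
    rw [ip_mul_left]; congr 1; funext g; simp
  have hψ := hχ.mul hχ.cbar
  have hne : ip (χ * cbar χ) (irrOne G).1 ≠ 0 := by
    rw [irrOne_val, e]; exact fun h => h0 (ip_self_eq_zero.1 h)
  have hθ := hψ.sub_irr _ hne
  have hd := hψ.degree_eq_sub_irr_add _ hne
  have hd2 : charDegree (χ * cbar χ) = charDegree χ ^ 2 :=
    charDegree_eq_of_apply_one (by simp [hχ.apply_one, sq])
  rw [← e, ← e χ, ← res_cbar, ← res_mul, hψ.isClassFunction.eq_sum_irr, res_sum, ip_sum_left,
    ip_sum_left]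
  refine Finset.sum_congr rfl fun ξ _ => ?_
  rw [res_smul, ip_smul_left, ip_smul_left]
  by_cases h1 : ξ = irrOne G
  · rw [h1, irrOne_val, res_one, ip_const_one, ip_const_one]
  by_cases h2 : ip (χ * cbar χ) ξ.1 = 0
  · rw [h2, zero_mul, zero_mul]
  have h3 := hθ.degree_le_of_ip_ne_zero ξ (by rwa [ip_sub_left, ip_irr_ne (Ne.symm h1), sub_zero])
  have h4 : charDegree (irrOne G).1 = 1 := charDegree_eq_of_apply_one (by simp)
  rw [ip_res_one_eq_zero_of_free ξ h1 hP hPH (by omega) hfree, ← irrOne_val, ip_irr_ne h1]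

theorem free_of_TI {P L H : Subgroup G} (hP : IsSylowIn p P L) (hHL : H ≤ L)
    (hTI : ∀ g : G, g ∉ normalizer (P : Set G) → P ⊓ MulAut.conj g • P = ⊥)
    (hH : L ⊓ normalizer (P : Set G) ≤ H) {y : G} (hy : y ∈ P) {g : G} (hg : g ∈ L) (h1 : y ≠ 1)
    (h : g⁻¹ * y * g ∈ H) : g ∈ H := by
  have hPH : P ≤ H := (le_inf hP.le le_normalizer).trans hH
  obtain ⟨k, hk, hk2⟩ := (hP.of_le hPH hHL).exists_conj_mem
    (by simpa using (isPElt_of_mem hP.isPGroup hy).conj g⁻¹) h
  have : g * k⁻¹ ∈ normalizer (P : Set G) := by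
    by_contra hn
    refine h1 (mem_bot.1 ((hTI _ hn).le ⟨hy, mem_conj_smul.2 ?_⟩))
    simpa [mul_assoc] using hk2
  simpa using H.mul_mem (hH ⟨L.mul_mem hg (L.inv_mem (hHL hk)), this⟩) hk

theorem normal_of_TI_of_small_degree (hs : IsPSolvable p G) (P : Sylow p G)
    (hTI : ∀ g : G, g ∉ normalizer ((P : Subgroup G) : Set G) →
      (P : Subgroup G) ⊓ MulAut.conj g • (P : Subgroup G) = ⊥)
    {χ : G → ℂ} (hχ : IsCharacter G χ) (hk : ker χ = ⊥)
    (hn : charDegree χ ^ 2 ≤ Nat.card (P : Subgroup G)) : (P : Subgroup G).Normal := by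
  by_contra hN
  obtain ⟨g, hg⟩ : ∃ g, g ∉ normalizer ((P : Subgroup G) : Set G) := by
    by_contra h
    push Not at h
    exact hN (normalizer_eq_top_iff.1 (eq_top_iff.2 fun g _ => h g))
  have hO : pCore p G = ⊥ := eq_bot_iff.2 ((hTI g hg) ▸ le_inf (pCore_le_sylow P) (by
    rw [← conj_smul_of_normal g (pCore p G)]; exact conj_smul_mono g (pCore_le_sylow P)))
  have hP1 : (P : Subgroup G) ≠ ⊥ := fun h => hN (h ▸ inferInstance)
  obtain ⟨⟨z, hzP, hz⟩, hz1⟩ := ne_bot_iff_exists_ne_one.1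
    (inf_centralizer_ne_bot_of_isPGroup P.isPGroup' P.isPGroup' hP1 le_normalizer)
  set K := pPrimeCore p G with hK
  set L := K ⊔ (P : Subgroup G) with hL
  set H := L ⊓ normalizer ((P : Subgroup G) : Set G) with hH
  have hd : Disjoint K (P : Subgroup G) := 
    (disjoint_of_isPGroup_of_not_dvd P.isPGroup' (not_dvd_card_pPrimeCore p G)).symm
  have hzH : H ≤ centralizer {z} := by
    rw [hH, hL, sup_comm, sup_inf_assoc_of_le_normalizer le_normalizer (Or.inl le_normalizer_of_normal)]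
    exact sup_le (fun x hx => mem_centralizer_singleton_iff.2 (hz x hx)) fun x hx =>
      mem_centralizer_singleton_iff.2
        (inf_normalizer_le_centralizer le_normalizer_of_normal hd hx z hzP).symm
  have hzL : z ∈ L := mem_sup_right hzP
  have hSyl : IsSylowIn p (P : Subgroup G) L := (isSylowIn_sylow P).of_le le_sup_right le_top
  have hcen : z ∈ centralizer (K : Set G) := fun x hx => by
    have hxL : x ∈ L := mem_sup_left hx
    have : ⁅(⟨z, hzL⟩ : L), (⟨x, hxL⟩ : L)⁆ ∈ ker (res L χ) :=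
      (hχ.res L).mem_ker_iff_forall_irr.2 fun ψ hψ => by
        refine (irr_mem_center_iff_commutator ψ).1 ?_ _
        have h1 := ip_res_self_of_free (P := (P : Subgroup G).subgroupOf L) (H := H.subgroupOf L)
          ψ.2.isCharacter ((isPGroup_subgroupOf_iff hSyl.le).2 P.isPGroup')
          (fun y hy => ⟨y.2, le_normalizer hy⟩)
          (by
            rw [card_subgroupOf_of_le hSyl.le]
            exact (Nat.pow_le_pow_left ((hχ.res L).degree_le_of_ip_ne_zero ψ hψ) 2).trans hn)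
          fun y hy g h1 h => free_of_TI hSyl inf_le_left hTI le_rfl hy g.2
            (fun e => h1 (Subtype.ext e)) h
        rw [ip_irr_self, ← (ψ.2.isCharacter.res _).isIrr_iff_ip_self] at h1
        have h2 := center_le_irr_center ⟨_, h1⟩ (x := ⟨⟨z, hzL⟩, hzL, le_normalizer hzP⟩)
          (mem_center_iff.2 fun y => Subtype.ext (Subtype.ext
            (mem_centralizer_singleton_iff.1 (hzH y.2))))
        rwa [ψ.2.isCharacter.center_res, mem_subgroupOf] at h2
    rw [hχ.ker_res, hk, bot_subgroupOf, mem_bot, commutatorElement_eq_one_iff_mul_comm] at this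
    exact (congrArg Subtype.val this).symm
  exact hz1 (Subtype.ext (hd.eq_bot.le ⟨centralizer_pPrimeCore_le hs hO hcen, hzP⟩))

end LG
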