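import Cfsg.Agent.Lib.Lin.HallPi

/-!
# Winter's theorem on solvable irreducible linear groups
-/

set_option autoImplicit false

namespace LG

open Cfsg CT MulAction Subgroup
open scoped commutatorElement

universe u
variable {G : Type u} [Group G] [Finite G] {p : ℕ} [hp : Fact p.Prime]

theorem relIndex_centralizer_modEq_one {V P : Subgroup G} [V.Normal] (hP : IsPGroup p P)
    (hV : ¬ p ∣ Nat.card V) : (centralizer (P : Set G)).relIndex V ≡ 1 [MOD p] := by
  let _ : MulAction P V := MulAction.compHom V ((MulAut.conjNormal (H := V)).comp P.subtype)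
  have h := hP.card_modEq_card_fixedPoints V
  have e : Nat.card (fixedPoints P V) = Nat.card ((centralizer (P : Set G)).subgroupOf V) :=
    Nat.card_congr (Equiv.subtypeEquivRight fun v => by
      simp only [mem_fixedPoints, mem_subgroupOf, mem_centralizer_iff, SetLike.mem_coe,
        Subtype.forall, Subtype.ext_iff]
      exact forall₂_congr fun a ha => mul_inv_eq_iff_eq_mul)
  have e2 := ((centralizer (P : Set G)).subgroupOf V).card_mul_index
  rw [e, ← e2] at h
  refine Nat.ModEq.cancel_left_of_coprime (hp.1.coprime_iff_not_dvd.2 fun hd => hV ?_)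
    (by rwa [mul_one])
  exact e2 ▸ hd.mul_right _

theorem isPrimePow_of_dvd_card {r q : ℕ} (hr : r.Prime) {V : Subgroup G} (hV : IsPGroup r V)
    (hq : q ∣ Nat.card V) (h1 : q ≠ 1) : IsPrimePow q := by
  have := Fact.mk hr
  obtain ⟨a, ha⟩ := hV.exists_card_eq
  obtain ⟨j, -, rfl⟩ := (Nat.dvd_prime_pow hr).1 (ha ▸ hq)
  exact hr.isPrimePow.pow fun h => h1 (by rw [h, pow_zero])

theorem exists_primePow_of_isCoatom [Group.IsSolvable G] {H P : Subgroup G} (hH : IsCoatom H)
    (hcf : ∀ M : Subgroup G, M.Normal → M ≤ H → M = ⊥) (hP : IsPGroup p P) (hPH : P ≤ H)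
    (h1 : P ≠ ⊥) (hi : ¬ p ∣ H.index) : ∃ q, IsPrimePow q ∧ q ∣ H.index ∧ q ≡ 1 [MOD p] := by
  obtain ⟨V, hV, -, r, hr, hab⟩ := GT.exists_isMinNormal_isElementaryAbelian_le
    (N := (⊤ : Subgroup G)) inferInstance fun h => h1 (eq_bot_iff.2 (h ▸ le_top))
  have := hV.normal
  have := hV.isMulCommutative_of_isSolvable
  have hs : V ⊔ H = ⊤ := hH.2 _ (right_lt_sup.2 fun h => hV.ne_bot (hcf V hV.normal h))
  have hc := (hV.isComplement'_of_sup_eq_top hH.1 hs).index_eq_card
  have hd : (centralizer (P : Set G)).relIndex V ∣ Nat.card V := relIndex_dvd_card _ _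
  refine ⟨_, isPrimePow_of_dvd_card hr (GT.IsElementaryAbelian.isPGroup' hab) hd fun h => h1 ?_,
    hc ▸ hd, relIndex_centralizer_modEq_one hP (hc ▸ hi)⟩
  refine eq_bot_iff.2 ((le_inf hPH (le_centralizer_iff.1 (relIndex_eq_one.1 h))).trans
    (hcf _ (GT.normal_of_le_normalizer_of_sup_eq_top hs ?_ ?_) inf_le_left).le)
  · exact GT.le_normalizer_of_le_centralizer (le_centralizer_iff.1 inf_le_right)
  · exact GT.le_normalizer_inf le_normalizer (GT.le_normalizer_centralizer le_normalizer_of_normal)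

omit hp in
theorem eq_one_of_mem_ker_of_liesOver {χ : IrrCharacter G} (hk : ker χ.1 = ⊥) {B : Subgroup G}
    {θ : IrrCharacter B} (h : LiesOver B χ.1 θ.1) {z : B} (hz : (z : G) ∈ Subgroup.center G)
    (hzθ : z ∈ ker θ.1) : z = 1 := by
  have := Fintype.ofFinite B
  obtain ⟨c, hc⟩ := center_le_irr_center χ hz
  have e : ip (res B χ.1) θ.1 = c * ip (res B χ.1) θ.1 := by
    rw [ip_def, mul_left_comm, Finset.mul_sum _ _ c, ← Equiv.sum_comp (Equiv.mulLeft z)]
    refine congrArg _ (Finset.sum_congr rfl fun b _ => ?_)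
    rw [Equiv.coe_mulLeft, hzθ b, res_apply, coe_mul, hc, mul_assoc, res_apply]
  have h1 : c = 1 := (mul_eq_right₀ h).1 e.symm
  refine Subtype.ext (mem_bot.1 (hk ▸ fun x => ?_))
  rw [hc, h1, one_mul]

omit hp in
theorem degree_sq_eq_relIndex {χ : IrrCharacter G} (hk : ker χ.1 = ⊥) {B : Subgroup G}
    (h1 : ⁅B, B⁆ ≤ Subgroup.center G) (h2 : B ⊓ centralizer (B : Set G) ≤ Subgroup.center G)
    {θ : IrrCharacter B} (h : LiesOver B χ.1 θ.1) :
    charDegree θ.1 ^ 2 = (Subgroup.center G).relIndex B := by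
  have h3 : (Subgroup.center G).subgroupOf B ≤ CT.center θ.1 := fun z hz =>
    center_le_irr_center θ (mem_center_iff.2 fun b => Subtype.ext (mem_center_iff.1 hz b))
  have h4 : ∀ a b : B, ⁅a, b⁆ ∈ (Subgroup.center G).subgroupOf B := fun a b =>
    h1 (commutator_mem_commutator a.2 b.2)
  refine (irr_degree_sq_eq_index_iff θ h3).2 fun g hg => ?_
  by_contra h0
  refine hg (h2 ⟨g.2, fun x hx => ?_⟩)
  by_contra hc
  refine h0 (θ.2.isCharacter.apply_eq_zero_of_commutator (h3 (h4 ⟨x, hx⟩ g)) fun hm => hc ?_)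
  exact congrArg Subtype.val (commutatorElement_eq_one_iff_mul_comm.1
    (eq_one_of_mem_ker_of_liesOver hk h (h4 _ _) hm) :)

omit hp in
theorem exists_self_centralizing_class_two [Group.IsSolvable G]
    (h : ∀ A : Subgroup G, A.Normal → IsMulCommutative A → A ≤ Subgroup.center G) :
    ∃ A : Subgroup G, A.Normal ∧ ⁅A, A⁆ ≤ Subgroup.center G ∧
      centralizer (A : Set G) ≤ Subgroup.center G := by
  obtain ⟨A, ⟨hA, hA1⟩, hmax⟩ := Set.Finite.exists_maximal
    (Set.toFinite {A : Subgroup G | A.Normal ∧ ⁅A, A⁆ ≤ Subgroup.center G})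
    ⟨⊥, inferInstance, by simp⟩
  refine ⟨A, hA, hA1, ?_⟩
  by_contra hC
  obtain ⟨B, hB, hBC⟩ := GT.exists_isChief_le (K := Subgroup.center G) inferInstance
    (L := centralizer (A : Set G)) inferInstance
    (lt_of_le_not_ge (center_le_centralizer _) hC)
  have := hB.normal_right
  have h1 : ⁅B, A⁆ = ⊥ := commutator_eq_bot_iff_le_centralizer.2 hBC
  have h2 : B ≤ A := le_sup_right.trans (hmax (y := A ⊔ B) ⟨inferInstance, by
    rw [← GT.map_mk'_eq_bot_iff, map_commutator,
      Subgroup.map_sup, commutator_eq_bot_iff_le_centralizer, GT.centralizer_sup]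
    have key : ∀ X Y : Subgroup G, ⁅X, Y⁆ ≤ Subgroup.center G →
        X.map (QuotientGroup.mk' (Subgroup.center G)) ≤ centralizer
          (SetLike.coe (Y.map (QuotientGroup.mk' (Subgroup.center G)))) := fun X Y h => by
      rwa [← commutator_eq_bot_iff_le_centralizer, ← map_commutator, GT.map_mk'_eq_bot_iff]
    exact sup_le (le_inf (key _ _ hA1) (key _ _ (by rw [commutator_comm, h1]; exact bot_le)))
      (le_inf (key _ _ (h1 ▸ bot_le)) (key _ _ hB.commutator_le_of_isSolvable))⟩ le_sup_left)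
  exact hB.lt.not_ge (h B this
    (le_centralizer_iff_isMulCommutative.1 (hBC.trans (GT.centralizer_anti h2))))

theorem exists_primePow_of_primitive [Group.IsSolvable G] {χ : IrrCharacter G}
    (hk : ker χ.1 = ⊥) (hχ : IsPrimitiveChar χ.1) (hn : ¬ p ∣ charDegree χ.1) {P : Subgroup G}
    (hP : IsPGroup p P) (hPZ : ¬ P ≤ Subgroup.center G) :
    ∃ q, IsPrimePow q ∧ q ∣ charDegree χ.1 ∧ q ^ 2 ≡ 1 [MOD p] := by
  set Z := Subgroup.center G
  set f := QuotientGroup.mk' Z
  have hf := QuotientGroup.mk'_surjective Z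
  have hab : ∀ A : Subgroup G, A.Normal → IsMulCommutative A → A ≤ Z := fun A _ h =>
    hχ.le_center_of_comm_of_faithful hk A (GT.isMulCommutative_iff_forall.1 h)
  have hnd : ∀ B : Subgroup G, B.Normal → B ⊓ centralizer (B : Set G) ≤ Z := fun B _ =>
    hab _ inferInstance (le_centralizer_iff_isMulCommutative.1
      (inf_le_right.trans (GT.centralizer_anti inf_le_left)))
  have hdeg : ∀ B : Subgroup G, B.Normal → ⁅B, B⁆ ≤ Z → ¬ p ∣ Z.relIndex B := fun B _ h hd => by
    obtain ⟨θ, hθ⟩ := exists_irr_liesUnder B χ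
    rw [← degree_sq_eq_relIndex hk h (hnd B ‹_›) hθ] at hd
    exact hn ((hp.1.dvd_of_dvd_pow hd).trans hθ.degree_dvd)
  have key : ∀ X Y : Subgroup G, ⁅X, Y⁆ ≤ Z ↔
      X.map f ≤ centralizer (SetLike.coe (Y.map f)) := fun X Y => by
    rw [← commutator_eq_bot_iff_le_centralizer, ← map_commutator, GT.map_mk'_eq_bot_iff]
  obtain ⟨A, hA, hA1, hA2⟩ := exists_self_centralizing_class_two hab
  have hAn := hA.map f hf
  have hAc := le_centralizer_iff_isMulCommutative.1 ((key _ _).1 hA1)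
  have := GT.isNilpotent_of_isMulCommutative (G := A.map f)
  obtain ⟨r, hr, R, hR, hRP⟩ : ∃ r, ∃ _ : Fact r.Prime, ∃ R, GT.IsSylowIn r R (A.map f) ∧
      ¬ R ≤ centralizer (SetLike.coe (P.map f)) := by
    by_contra! h
    have h1 := (key _ _).2 (GT.le_of_forall_exists_isSylowIn_le fun r hr =>
      (GT.exists_isSylowIn r (A.map f)).imp fun R hR => ⟨hR, h r hr R hR⟩)
    refine hPZ (fun x hx => hA2 fun a ha => ?_)
    have hw := mem_center_iff.1 (h1 (commutator_mem_commutator ha hx))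
    obtain ⟨k, hxk⟩ := hP ⟨x, hx⟩
    have e1 : ⁅a, x⁆ ^ p ^ k = 1 := by
      have h2 : x ^ p ^ k = 1 := congrArg Subtype.val hxk
      have h3 : ⁅a, x⁆ * x = a * x * a⁻¹ := by simp [commutatorElement_def]
      have := (show Commute ⁅a, x⁆ x from (hw x).symm).mul_pow (p ^ k)
      rwa [h3, conj_pow, h2, mul_one, mul_one, mul_inv_cancel, eq_comm] at this
    have e2 : ⁅a, x⁆ ^ Z.relIndex A = 1 := by
      have h2 : a⁻¹ ^ Z.relIndex A ∈ Z := pow_relIndex_mem Z (inv_mem ha)
      have h3 : a⁻¹ * ⁅a, x⁆ = x * a⁻¹ * x⁻¹ := by simp [commutatorElement_def, mul_assoc]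
      have := (show Commute a⁻¹ ⁅a, x⁆ from hw a⁻¹).mul_pow (Z.relIndex A)
      rwa [h3, conj_pow, mem_center_iff.1 h2 x, mul_inv_cancel_right, left_eq_mul] at this
    have := pow_gcd_eq_one.2 ⟨e1, e2⟩
    rwa [((hp.1.coprime_iff_not_dvd.2 (hdeg A hA hA1)).pow_left k).gcd_eq_one, pow_one,
      commutatorElement_eq_one_iff_mul_comm] at this
  have hRn := hR.normal_of_isNilpotent
  set B := R.comap f
  set C := (R ⊓ centralizer (SetLike.coe (P.map f))).comap f
  have hB : B.map f = R := map_comap_eq_self_of_surjective hf _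
  have hC : C.map f = _ := map_comap_eq_self_of_surjective hf _
  have hCB : C ≤ B := comap_mono inf_le_left
  have hZC : Z ≤ C := GT.le_comap_mk' _ _
  have hB1 : ⁅B, B⁆ ≤ Z := (key _ _).2 (hB ▸ le_centralizer_iff_isMulCommutative.2
    (GT.isMulCommutative_of_le hR.le))
  have hRp : ¬ p ∣ Nat.card R := GT.relIndex_comap_mk' Z R ▸ hdeg B inferInstance hB1
  have hBC : C ⊔ ⁅B, P⁆ = B := by
    rw [← GT.comap_map_mk'_of_le (hZC.trans le_sup_left), Subgroup.map_sup, map_commutator, hB, hC,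
      (GT.coprimeAct_of_isPGroup_left le_normalizer_of_normal (hP.map f)
        hRp).inf_centralizer_sup_commutator]
  have hC1 : C ⊓ centralizer (C : Set G) ≤ Z := by
    refine le_trans (le_inf (inf_le_left.trans hCB) ?_) (hnd B inferInstance)
    rw [← hBC, GT.centralizer_sup]
    refine le_inf inf_le_right (inf_le_left.trans (le_centralizer_iff.1
      (GT.commutator_le_centralizer_of_rotate ?_ ?_)))
    · rw [commutator_comm]
      exact ((key _ _).2 (hC ▸ inf_le_right)).trans (center_le_centralizer _)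
    · exact ((commutator_mono hCB le_rfl).trans hB1).trans (center_le_centralizer _)
  obtain ⟨θ, hθ⟩ := exists_irr_liesUnder B χ
  obtain ⟨φ, hφ⟩ := exists_irr_liesUnderLe hCB θ
  have : (C.subgroupOf B).Normal := normal_subgroupOf_of_le_normalizer
    (le_normalizer_iff_commutator_le_right.2 (((commutator_mono le_rfl hCB).trans hB1).trans hZC))
  obtain ⟨d, hd⟩ := hφ.degree_dvd
  have e1 := degree_sq_eq_relIndex hk hB1 (hnd B inferInstance) hθ
  have e2 := degree_sq_eq_relIndex hk ((commutator_mono hCB hCB).trans hB1) hC1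
    (hθ.trans_le hCB χ.2.isCharacter φ.2.isCharacter hφ)
  have e3 : d ^ 2 = (centralizer (SetLike.coe (P.map f))).relIndex R := by
    rw [hd, mul_pow, e2, ← relIndex_mul_relIndex Z C B hZC hCB,
      Nat.mul_right_inj (GT.relIndex_pos _ _).ne'] at e1
    rw [e1, GT.relIndex_comap_comap_of_surjective hf, inf_relIndex_left]
  refine ⟨d, isPrimePow_of_dvd_card hr.1 hR.isPGroup
    ((dvd_pow_self d two_ne_zero).trans (e3 ▸ relIndex_dvd_card _ _)) fun h => hRP ?_,
    (Dvd.intro_left _ hd.symm).trans hθ.degree_dvd,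
    e3 ▸ relIndex_centralizer_modEq_one (hP.map f) hRp⟩
  rw [← relIndex_eq_one, ← e3, h, one_pow]

theorem sylow_normal_of_forall (S : Sylow p G) (h : ∀ x : G, (∀ (K : Subgroup G) [K.Normal],
    ((S : Subgroup G).map (QuotientGroup.mk' K)).Normal → x ∈ K) → x = 1) :
    (S : Subgroup G).Normal := by
  have hU : IsPGroup p (normalClosure ((S : Subgroup G) : Set G)) := fun u => by
    obtain ⟨a, ha⟩ := S.isPGroup'.exists_card_eq
    refine ⟨a, Subtype.ext (h _ fun K _ hK => ?_)⟩
    have h1 : ((u : G) : G ⧸ K) ∈ (S : Subgroup G).map (QuotientGroup.mk' K) :=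
      normalClosure_le_normal (N := comap (QuotientGroup.mk' K) (map (QuotientGroup.mk' K) S))
        (fun x hx => mem_map_of_mem (QuotientGroup.mk' K) hx) u.2
    rw [← QuotientGroup.eq_one_iff, SubgroupClass.coe_pow, QuotientGroup.mk_pow, ← ha]
    exact orderOf_dvd_iff_pow_eq_one.1 ((Subgroup.orderOf_dvd_natCard _ h1).trans (card_map_dvd _ _))
  rw [← S.is_maximal' hU le_normalClosure]
  infer_instance

theorem winter_aux (n : ℕ) (hn : ∀ q, IsPrimePow q → q ∣ n → ¬ p ∣ q ∧ ¬ q ^ 2 ≡ 1 [MOD p])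
    (G : Type u) [Group G] [Finite G] : Group.IsSolvable G → ∀ χ : IrrCharacter G, ker χ.1 = ⊥ →
      charDegree χ.1 ∣ n → ∀ P : Sylow p G, (P : Subgroup G).Normal := by
  refine GT.induction_on_card (P := fun G _ _ => Group.IsSolvable G → ∀ χ : IrrCharacter G,
    ker χ.1 = ⊥ → charDegree χ.1 ∣ n → ∀ P : Sylow p G, (P : Subgroup G).Normal)
    (fun G _ _ ih => ?_) G
  intro hs χ hk hd P
  have hχ := χ.2.isCharacter
  have hpn : ¬ p ∣ charDegree χ.1 := fun h => (hn p hp.1.isPrimePow (h.trans hd)).1 dvd_rfl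
  by_cases hpr : IsPrimitiveChar χ.1
  · by_contra h
    obtain ⟨q, h1, h2, h3⟩ := exists_primePow_of_primitive hk hpr hpn P.isPGroup'
      fun hZ => h ⟨fun x hx g => by rwa [mem_center_iff.1 (hZ hx) g, mul_inv_cancel_right]⟩
    exact (hn q h1 (h2.trans hd)).2 h3
  simp only [IsPrimitiveChar, not_forall, not_not] at hpr
  obtain ⟨K, hK, θ, hθ, hind⟩ := hpr
  obtain ⟨H, hH, hKH⟩ := GT.exists_isCoatom_ge hK
  have hi : H.index ∣ charDegree χ.1 := by
    rw [← hind, charDegree_ind hθ]; exact (index_dvd_of_le hKH).mul_right _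
  obtain ⟨Q, hQ⟩ := GT.exists_sylow_le_of_not_dvd_index (p := p) fun h => hpn (h.trans hi)
  suffices (Q : Subgroup G).Normal by
    have := Sylow.unique_of_normal Q this
    rwa [Subsingleton.elim P Q]
  set L := H.normalCore
  have hL : L ≤ H := normalCore_le H
  have hf := QuotientGroup.mk'_surjective L
  have hi' : (H.map (QuotientGroup.mk' L)).index = H.index := by
    rw [GT.index_map_mk', sup_eq_left.2 hL]
  have hQL : (Q : Subgroup G) ≤ L := by
    by_contra h
    obtain ⟨q, h1, h2, h3⟩ := exists_primePow_of_isCoatom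
      (GT.isCoatom_map_of_ker_le hf (by rwa [QuotientGroup.ker_mk']) hH)
      (fun M hM hMH => by
        rw [← map_comap_eq_self_of_surjective hf M, GT.map_mk'_eq_bot_iff]
        exact normal_le_normalCore.2 ((comap_mono hMH).trans (GT.comap_map_mk'_of_le hL).le))
      (Q.isPGroup'.map _) (map_mono hQ) (mt GT.map_mk'_eq_bot_iff.1 h)
      fun h => hpn ((hi' ▸ h).trans hi)
    exact (hn q h1 (((hi' ▸ h2).trans hi).trans hd)).2 (by simpa using h3.pow 2)
  have hQ' := GT.isSylowIn_sylow_of_le Q hQL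
  rw [← normalizer_eq_top_iff, eq_top_iff]
  refine le_trans (normalizer_eq_top (H := L)).ge (hQ'.normalizer_le_normalizer
    ((normal_subgroupOf_iff_le_normalizer hQL).1 ?_))
  refine sylow_normal_of_forall hQ'.toSylow fun x hx => ?_
  rw [← mem_bot, ← bot_subgroupOf L, ← hk, ← hχ.ker_res, (hχ.res L).mem_ker_iff_forall_irr]
  intro θ hθ
  obtain ⟨η, hη, hηk, e⟩ := exists_faithful_quotient θ.2.isCharacter _ rfl
  have hη' : IsIrrCharacter _ η :=
    isIrr_of_comp_surjective (QuotientGroup.mk'_surjective _) (e ▸ θ.2 :)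
  have hd' : charDegree θ.1 = charDegree η := congrArg (fun z : ℂ => ⌊z.re⌋₊) (congrFun e 1)
  have hlt := (Nat.card_le_card_of_surjective _ (QuotientGroup.mk'_surjective (ker θ.1))).trans_lt
    (GT.card_lt_of_ne_top (H := L) fun h => hH.1 (eq_top_iff.2 (h ▸ hL)))
  exact hx _ (ih _ hlt inferInstance ⟨η, hη'⟩ hηk (hd'.symm.dvd.trans
    ((LiesOver.degree_dvd hθ).trans hd)) (Sylow.mapSurjective (QuotientGroup.mk'_surjective _) _))

end LG
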