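import Mathlib

/-!
# Pattern subgroups of `SL_n` over a finite field and the big cell
-/

set_option autoImplicit false
set_option linter.unusedSectionVars false

namespace LG

open Matrix

section general

variable {F : Type*} [Field F] {ι : Type*} [Fintype ι] [DecidableEq ι]

/-- The matrix of an element of `SL`. -/
def slm (g : SpecialLinearGroup ι F) : Matrix ι ι F := g.1

/-- The element of `SL` with a given matrix. -/
def mkSL (A : Matrix ι ι F) (h : A.det = 1) : SpecialLinearGroup ι F := ⟨A, h⟩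

@[simp] theorem slm_mkSL (A : Matrix ι ι F) (h : A.det = 1) : slm (mkSL A h) = A := rfl
theorem slm_mul (g h : SpecialLinearGroup ι F) : slm (g * h) = slm g * slm h := rfl
theorem slm_one : slm (1 : SpecialLinearGroup ι F) = 1 := rfl
theorem slm_pow (g : SpecialLinearGroup ι F) (k : ℕ) : slm (g ^ k) = slm g ^ k := rfl
theorem det_slm (g : SpecialLinearGroup ι F) : (slm g).det = 1 := g.2
theorem det_slm_ne_zero (g : SpecialLinearGroup ι F) : (slm g).det ≠ 0 := by
  rw [det_slm]; exact one_ne_zero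
theorem slm_ext {g h : SpecialLinearGroup ι F} (e : slm g = slm h) : g = h := Subtype.ext e
theorem slm_mul_inv (g : SpecialLinearGroup ι F) : slm g * slm g⁻¹ = 1 := by
  rw [← slm_mul, mul_inv_cancel, slm_one]
theorem slm_inv_mul (g : SpecialLinearGroup ι F) : slm g⁻¹ * slm g = 1 := by
  rw [← slm_mul, inv_mul_cancel, slm_one]

/-- The matrix `A` vanishes outside the relation `r`. -/
def MSupp (r : ι → ι → Prop) (A : Matrix ι ι F) : Prop := ∀ i j, ¬ r i j → A i j = 0

theorem MSupp.mul {r s t : ι → ι → Prop} {A B : Matrix ι ι F} (hA : MSupp r A) (hB : MSupp s B)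
    (h : ∀ i l j, r i l → s l j → t i j) : MSupp t (A * B) := by
  intro i j hij
  rw [Matrix.mul_apply]
  refine Finset.sum_eq_zero fun l _ => ?_
  by_cases h1 : r i l
  · rw [hB l j fun h2 => hij (h i l j h1 h2), mul_zero]
  · rw [hA i l h1, zero_mul]

theorem MSupp.add {r : ι → ι → Prop} {A B : Matrix ι ι F} (hA : MSupp r A) (hB : MSupp r B) :
    MSupp r (A + B) := fun i j h => by rw [Matrix.add_apply, hA i j h, hB i j h, add_zero]

theorem MSupp.mono {r s : ι → ι → Prop} {A : Matrix ι ι F} (hA : MSupp r A)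
    (h : ∀ i j, r i j → s i j) : MSupp s A := fun i j hij => hA i j fun h1 => hij (h i j h1)

theorem inv_mem_of_mul_mem {G : Type*} [Group G] [Finite G] {S : Set G} (h1 : (1 : G) ∈ S)
    (hmul : ∀ a ∈ S, ∀ b ∈ S, a * b ∈ S) {a : G} (ha : a ∈ S) : a⁻¹ ∈ S := by
  have h2 : ∀ k : ℕ, a ^ k ∈ S := fun k => by
    induction k with
    | zero => simpa using h1
    | succ k ih => rw [pow_succ]; exact hmul _ ih _ ha
  have h3 : a⁻¹ = a ^ (orderOf a - 1) := by
    rw [inv_eq_iff_mul_eq_one, ← pow_succ', Nat.sub_add_cancel (orderOf_pos a), pow_orderOf_eq_one]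
  rw [h3]; exact h2 _

theorem msupp_mul_sub_one {r : ι → ι → Prop} (hr : ∀ i l j, r i l → r l j → r i j)
    {A B : Matrix ι ι F} (hA : MSupp r (A - 1)) (hB : MSupp r (B - 1)) : MSupp r (A * B - 1) := by
  have : A * B - 1 = (A - 1) * (B - 1) + (A - 1) + (B - 1) := by noncomm_ring
  rw [this]
  exact ((hA.mul hB hr).add hA).add hB

/-- The matrices of `SL` that agree with the identity outside the transitive relation `r`. -/
def patSub (F : Type*) [Field F] [Finite F] (r : ι → ι → Prop)
    (hr : ∀ i l j, r i l → r l j → r i j) : Subgroup (SpecialLinearGroup ι F) where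
  carrier := {g | MSupp r ((slm g) - 1)}
  one_mem' := fun i j _ => by simp [slm_one]
  mul_mem' := fun ha hb => msupp_mul_sub_one hr ha hb
  inv_mem' := fun ha => inv_mem_of_mul_mem (S := {g : SpecialLinearGroup ι F | MSupp r ((slm g) - 1)})
    (fun i j _ => by simp [slm_one]) (fun _ ha _ hb => msupp_mul_sub_one hr ha hb) ha

variable [Finite F]

theorem mem_patSub {r : ι → ι → Prop} {hr : ∀ i l j, r i l → r l j → r i j}
    {g : SpecialLinearGroup ι F} :
    g ∈ patSub F r hr ↔ ∀ i j, ¬ r i j → (slm g) i j = (1 : Matrix ι ι F) i j := by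
  change MSupp r ((slm g) - 1) ↔ _
  simp only [MSupp, Matrix.sub_apply, sub_eq_zero]

theorem msupp_of_mem_patSub {r : ι → ι → Prop} {hr : ∀ i l j, r i l → r l j → r i j}
    {g : SpecialLinearGroup ι F} (hg : g ∈ patSub F r hr) :
    MSupp (fun i j => i = j ∨ r i j) (slm g) := fun i j h => by
  rw [not_or] at h
  rw [mem_patSub.1 hg i j h.2, Matrix.one_apply_ne h.1]

theorem conj_mem_patSub {r s a b : ι → ι → Prop} {hr : ∀ i l j, r i l → r l j → r i j}
    {hs : ∀ i l j, s i l → s l j → s i j} {g x : SpecialLinearGroup ι F}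
    (ha : MSupp a (slm g)) (hb : MSupp b (slm g⁻¹)) (hx : x ∈ patSub F r hr)
    (h : ∀ i l m j, a i l → r l m → b m j → s i j) : g * x * g⁻¹ ∈ patSub F s hs := by
  change MSupp s (slm (g * x * g⁻¹) - 1)
  have h2 : slm (g * x * g⁻¹) - 1 = (slm g) * (slm x - 1) * (slm g⁻¹) := by
    rw [slm_mul, slm_mul, mul_sub, sub_mul, mul_one, slm_mul_inv]
  rw [h2]
  exact (ha.mul hx (t := fun i m => ∃ l, a i l ∧ r l m) fun i l m h1 h2 => ⟨l, h1, h2⟩).mul hb
    fun i m j ⟨l, h1, h2⟩ h3 => h i l m j h1 h2 h3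

/-- The transvection `1 + v φ`. -/
def trv (v φ : ι → F) (h : φ ⬝ᵥ v = 0) : SpecialLinearGroup ι F :=
  mkSL (1 + vecMulVec v φ) (by
    rw [vecMulVec_eq Unit, det_one_add_replicateCol_mul_replicateRow, h, add_zero])

omit [Finite F] in
@[simp] theorem slm_trv (v φ : ι → F) (h : φ ⬝ᵥ v = 0) : slm (trv v φ h) = 1 + vecMulVec v φ := rfl

omit [Finite F] in
theorem trv_ne_one {v φ : ι → F} (h : φ ⬝ᵥ v = 0) (hv : v ≠ 0) (hφ : φ ≠ 0) : trv v φ h ≠ 1 := by
  intro h1
  have h2 := congrArg slm h1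
  rw [slm_trv, slm_one, add_eq_left, vecMulVec_eq_zero] at h2
  exact h2.elim hv hφ

theorem trv_mem_patSub {r : ι → ι → Prop} {hr : ∀ i l j, r i l → r l j → r i j} {v φ : ι → F}
    (h : φ ⬝ᵥ v = 0) (hs : ∀ i j, v i ≠ 0 → φ j ≠ 0 → r i j) : trv v φ h ∈ patSub F r hr := by
  rw [mem_patSub]
  intro i j hij
  rw [slm_trv, Matrix.add_apply, vecMulVec_apply, add_eq_left]
  by_contra h0
  rw [mul_eq_zero, not_or] at h0
  exact hij (hs i j h0.1 h0.2)

omit [Finite F] in
theorem inv_mul_trv_mul (g : SpecialLinearGroup ι F) (y φ : ι → F) (h : φ ⬝ᵥ ((slm g) *ᵥ y) = 0) :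
    g⁻¹ * trv ((slm g) *ᵥ y) φ h * g = trv y (φ ᵥ* (slm g)) (by rwa [← dotProduct_mulVec]) := by
  rw [mul_assoc, inv_mul_eq_iff_eq_mul]
  apply slm_ext
  simp only [slm_mul, slm_trv, add_mul, mul_add, one_mul, mul_one,
    vecMulVec_mul, mul_vecMulVec]

end general

variable {F : Type*} [Field F] {n : ℕ}

theorem det_eq_one_of_upper {A : Matrix (Fin n) (Fin n) F}
    (h : ∀ i j, ¬ i < j → A i j = (1 : Matrix (Fin n) (Fin n) F) i j) : A.det = 1 := by
  rw [det_of_isUpperTriangular]
  · exact Finset.prod_eq_one fun i _ => by rw [h i i (lt_irrefl i), one_apply_eq]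
  · intro i j hij
    have hij' : j < i := hij
    rw [h i j (not_lt_of_gt hij'), one_apply_ne hij'.ne']

theorem det_eq_one_of_lower {A : Matrix (Fin n) (Fin n) F}
    (h : ∀ i j, ¬ j < i → A i j = (1 : Matrix (Fin n) (Fin n) F) i j) : A.det = 1 := by
  rw [← det_transpose]
  refine det_eq_one_of_upper fun i j hij => ?_
  rw [transpose_apply, h j i hij, one_apply, one_apply]
  simp only [eq_comm]

/-- Reversal of the first `k` indices. -/
def rho (k : ℕ) (i : Fin n) : Fin n :=
  if h : i.val < k ∧ k ≤ n then ⟨k - 1 - i.val, by omega⟩ else i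

theorem rho_val {k : ℕ} (hk : k ≤ n) (i : Fin n) :
    (rho k i).val = if i.val < k then k - 1 - i.val else i.val := by
  unfold rho
  by_cases h : i.val < k
  · rw [dif_pos ⟨h, hk⟩, if_pos h]
  · rw [dif_neg (fun h' => h h'.1), if_neg h]

theorem rho_rho (k : ℕ) (i : Fin n) : rho k (rho k i) = i := by
  by_cases hk : k ≤ n
  · apply Fin.ext
    rw [rho_val hk, rho_val hk]
    split_ifs <;> omega
  · unfold rho
    rw [dif_neg (fun h => hk h.2), dif_neg (fun h => hk h.2)]

theorem rho_of_le {k : ℕ} {i : Fin n} (h : k ≤ i.val) : rho k i = i := by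
  unfold rho
  rw [dif_neg (fun h' => by omega)]

theorem rho_eq_iff {k : ℕ} {i j : Fin n} : rho k i = j ↔ i = rho k j :=
  ⟨fun h => by rw [← h, rho_rho], fun h => by rw [h, rho_rho]⟩

theorem rho_injective (k : ℕ) : Function.Injective (rho k : Fin n → Fin n) :=
  Function.LeftInverse.injective (rho_rho k)

/-- `rho k` as a permutation. -/
def rhoP (n k : ℕ) : Equiv.Perm (Fin n) := ⟨rho k, rho k, rho_rho k, rho_rho k⟩

@[simp] theorem rhoP_apply (k : ℕ) (i : Fin n) : rhoP n k i = rho k i := rfl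

/-- `A` vanishes off the graph of `rho k`. -/
def IsAnti (k : ℕ) (A : Matrix (Fin n) (Fin n) F) : Prop := ∀ i j, j ≠ rho k i → A i j = 0

theorem IsAnti.mul_apply {k : ℕ} {A : Matrix (Fin n) (Fin n) F} (h : IsAnti k A)
    (B : Matrix (Fin n) (Fin n) F) (i j : Fin n) :
    (A * B) i j = A i (rho k i) * B (rho k i) j := by
  rw [Matrix.mul_apply, Finset.sum_eq_single (rho k i)]
  · intro l _ hl; rw [h i l hl, zero_mul]
  · simp

theorem IsAnti.apply_mul {k : ℕ} {A : Matrix (Fin n) (Fin n) F} (h : IsAnti k A)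
    (B : Matrix (Fin n) (Fin n) F) (i j : Fin n) :
    (B * A) i j = B i (rho k j) * A (rho k j) j := by
  rw [Matrix.mul_apply, Finset.sum_eq_single (rho k j)]
  · intro l _ hl; rw [h l j (fun h1 => hl (by rw [h1, rho_rho])), mul_zero]
  · simp

theorem IsAnti.ne_zero {k : ℕ} {A : Matrix (Fin n) (Fin n) F} (h : IsAnti k A) (hA : A.det ≠ 0)
    (i : Fin n) : A i (rho k i) ≠ 0 := fun h0 =>
  hA (det_eq_zero_of_row_eq_zero i fun j => by
    by_cases hj : j = rho k i
    · rw [hj, h0]
    · exact h i j hj)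

theorem IsAnti.ext {k : ℕ} {A B : Matrix (Fin n) (Fin n) F} (hA : IsAnti k A) (hB : IsAnti k B)
    (h : ∀ i, A i (rho k i) = B i (rho k i)) : A = B := by
  ext i j
  by_cases hj : j = rho k i
  · rw [hj, h]
  · rw [hA i j hj, hB i j hj]

/-- The antidiagonal matrices on the first `k` indices. -/
def antiM (F : Type*) [Field F] (n k : ℕ) : Set (SpecialLinearGroup (Fin n) F) :=
  {m | IsAnti k (slm m) ∧ ∀ i : Fin n, k ≤ i.val → slm m i i = 1}

theorem antiM_ne_zero {k : ℕ} {m : SpecialLinearGroup (Fin n) F} (hm : m ∈ antiM F n k)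
    (i : Fin n) : slm m i (rho k i) ≠ 0 :=
  hm.1.ne_zero (det_slm_ne_zero m) i

variable [Finite F]

/-- Upper unitriangular matrices on the first `k` indices. -/
def upT (F : Type*) [Field F] [Finite F] (n k : ℕ) : Subgroup (SpecialLinearGroup (Fin n) F) :=
  patSub F (fun i j => i < j ∧ j.val < k) fun _ _ _ h h' => ⟨h.1.trans h'.1, h'.2⟩

/-- Lower unitriangular matrices on the first `k` indices. -/
def loT (F : Type*) [Field F] [Finite F] (n k : ℕ) : Subgroup (SpecialLinearGroup (Fin n) F) :=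
  patSub F (fun i j => j < i ∧ i.val < k) fun _ _ _ h h' => ⟨h'.1.trans h.1, h.2⟩

/-- Matrices that differ from the identity only in row `k`, left of the diagonal. -/
def rowX (F : Type*) [Field F] [Finite F] (n k : ℕ) : Subgroup (SpecialLinearGroup (Fin n) F) :=
  patSub F (fun i j => i.val = k ∧ j.val < k) fun _ _ _ h h' => ⟨h.1, h'.2⟩

/-- Matrices that differ from the identity only in column `k`, above the diagonal. -/
def colY (F : Type*) [Field F] [Finite F] (n k : ℕ) : Subgroup (SpecialLinearGroup (Fin n) F) :=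
  patSub F (fun i j => j.val = k ∧ i.val < k) fun _ _ _ h h' => ⟨h'.1, h.2⟩

/-- Diagonal matrices. -/
def diagH (F : Type*) [Field F] [Finite F] (n : ℕ) : Subgroup (SpecialLinearGroup (Fin n) F) :=
  patSub F (fun i j => i = j) fun _ _ _ h h' => h.trans h'

theorem isPGroup_upT {p : ℕ} [Fact p.Prime] [CharP F p] (k : ℕ) : IsPGroup p (upT F n k) := by
  rcases Nat.eq_zero_or_pos n with rfl | hn
  · intro g; exact ⟨0, Subsingleton.elim _ _⟩
  have : Nonempty (Fin n) := ⟨⟨0, hn⟩⟩
  rintro ⟨g, hg⟩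
  refine ⟨n, Subtype.ext (slm_ext ?_)⟩
  have hN : MSupp (fun i j : Fin n => i.val + 1 ≤ j.val) ((slm g) - 1) :=
    MSupp.mono hg fun i j h => h.1
  have h1 : ∀ m : ℕ, MSupp (fun i j : Fin n => i.val + m ≤ j.val) (((slm g) - 1) ^ m) := fun m => by
    induction m with
    | zero =>
      intro i j h
      rw [pow_zero, one_apply_ne]
      rintro rfl; exact h le_rfl
    | succ m ih => rw [pow_succ]; exact ih.mul hN fun i l j h h' => by omega
  have h2 : ((slm g) - 1) ^ (p ^ n) = 0 := by
    ext i j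
    refine h1 _ i j ?_
    have := Nat.lt_pow_self (n := n) (Fact.out : p.Prime).one_lt
    omega
  rw [sub_pow_char_pow_of_commute _ _ (Commute.one_right _), one_pow, sub_eq_zero] at h2
  exact h2

theorem exists_upT_mul {k : ℕ} (hk : k ≤ n) {A m : Matrix (Fin n) (Fin n) F} (hm : IsAnti k m)
    (hm0 : ∀ i, m i (rho k i) ≠ 0) (hA : ∀ i, A i (rho k i) = m i (rho k i))
    (hA' : ∀ i j, j ≠ rho k i → ¬ (j < rho k i ∧ i.val < k) → A i j = 0) :
    ∃ u ∈ upT F n k, A = slm u * m := by
  have h1 : ∀ i j : Fin n, ¬ (i < j ∧ j.val < k) →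
      A i (rho k j) / m j (rho k j) = (1 : Matrix (Fin n) (Fin n) F) i j := fun i j hij => by
    by_cases h : i = j
    · subst h; rw [hA, div_self (hm0 i), one_apply_eq]
    · rw [one_apply_ne h, hA' i _ (fun h1 => h (rho_injective k h1).symm), zero_div]
      rintro ⟨h2, h3⟩
      apply hij
      rw [Fin.lt_def, rho_val hk, rho_val hk] at h2
      rw [Fin.lt_def]
      split_ifs at h2 <;> omega
  refine ⟨mkSL (Matrix.of fun i j => A i (rho k j) / m j (rho k j))
    (det_eq_one_of_upper fun i j hij => h1 i j fun h => hij h.1), mem_patSub.2 h1, ?_⟩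
  ext i j
  have := hm0 (rho k j)
  rw [rho_rho] at this
  rw [hm.apply_mul, slm_mkSL, Matrix.of_apply, rho_rho, div_mul_cancel₀ _ this]

theorem exists_upT_mul_antiM {k : ℕ} (hk : k ≤ n) {g : SpecialLinearGroup (Fin n) F}
    (h1 : ∀ i : Fin n, k ≤ i.val → (slm g) i i = 1)
    (h2 : ∀ i j, j ≠ rho k i → ¬ (j < rho k i ∧ i.val < k) → (slm g) i j = 0) :
    ∃ u ∈ upT F n k, ∃ m ∈ antiM F n k, g = u * m ∧ ∀ i, slm m i (rho k i) = (slm g) i (rho k i) := by
  classical
  have h0 : ∀ i, (slm g) i (rho k i) ≠ 0 := by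
    have h3 := det_permute' (rhoP n k) (slm g)
    rw [det_slm, mul_one, det_of_isUpperTriangular] at h3
    · intro i hi
      rw [Finset.prod_eq_zero (Finset.mem_univ i) (by simpa using hi)] at h3
      rcases Int.units_eq_one_or (Equiv.Perm.sign (rhoP n k)) with h | h <;> simp [h] at h3
    · intro i j hij
      have hij' : j < i := hij
      simp only [submatrix_apply, id, rhoP_apply]
      refine h2 _ _ (fun h => hij'.ne (rho_injective k h)) ?_
      rintro ⟨h4, h5⟩
      rw [Fin.lt_def, rho_val hk, rho_val hk] at h4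
      rw [Fin.lt_def] at hij'
      split_ifs at h4 <;> omega
  let m : Matrix (Fin n) (Fin n) F := Matrix.of fun i j => if j = rho k i then (slm g) i j else 0
  have hm : IsAnti k m := fun i j h => if_neg h
  have hm1 : ∀ i, m i (rho k i) = (slm g) i (rho k i) := fun i => if_pos rfl
  obtain ⟨u, hu, hgu⟩ := exists_upT_mul hk hm (fun i => by rw [hm1]; exact h0 i)
    (fun i => (hm1 i).symm) h2
  have hdet : m.det = 1 := by
    have := congrArg Matrix.det hgu
    rwa [det_mul, det_slm, det_slm, one_mul, eq_comm] at this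
  refine ⟨u, hu, mkSL m hdet, ⟨hm, fun i hi => ?_⟩, slm_ext hgu, hm1⟩
  have := hm1 i
  rw [rho_of_le hi] at this
  exact this.trans (h1 i hi)

/-- A transvection in `U ∩ g U g⁻¹`. -/
theorem exists_mem_upT_conj {k a b : ℕ} {g : SpecialLinearGroup (Fin n) F} {y φ : Fin n → F}
    (hy0 : y ≠ 0) (hφ0 : φ ≠ 0) (hy : ∀ j, y j ≠ 0 → j.val < b)
    (hgy : ∀ i, ((slm g) *ᵥ y) i ≠ 0 → i.val < a) (hφ : ∀ i, φ i ≠ 0 → a ≤ i.val ∧ i.val < k)
    (hφg : ∀ j, (φ ᵥ* (slm g)) j ≠ 0 → b ≤ j.val ∧ j.val < k) :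
    ∃ t ∈ upT F n k, t ≠ 1 ∧ g⁻¹ * t * g ∈ upT F n k := by
  have h : φ ⬝ᵥ ((slm g) *ᵥ y) = 0 := by
    refine Finset.sum_eq_zero fun i _ => ?_
    by_contra h0
    rw [mul_eq_zero, not_or] at h0
    have := hφ i h0.1
    have := hgy i h0.2
    omega
  refine ⟨trv _ φ h, trv_mem_patSub h fun i j hi hj => ?_, trv_ne_one h (fun h0 => hy0 ?_) hφ0, ?_⟩
  · have := hφ j hj
    have := hgy i hi
    rw [Fin.lt_def]; omega
  · exact eq_zero_of_mulVec_eq_zero (det_slm_ne_zero g) h0
  · rw [inv_mul_trv_mul]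
    refine trv_mem_patSub _ fun i j hi hj => ?_
    have := hφg j hj
    have := hy i hi
    rw [Fin.lt_def]; omega

/-- Every element lies in the big cell or `U ∩ g U g⁻¹ ≠ 1`. -/
theorem big_cell_or (g : SpecialLinearGroup (Fin n) F) :
    (∃ t ∈ upT F n n, t ≠ 1 ∧ g⁻¹ * t * g ∈ upT F n n) ∨
      ∃ u ∈ upT F n n, ∃ m ∈ antiM F n n, ∃ u' ∈ upT F n n, g = u * m * u' := by
  classical
  let A : ∀ b : ℕ, Matrix {j : Fin n // j.val < b} {j : Fin n // j.val < b} F :=
    fun b => Matrix.of fun i j => (slm g) (rho n i.1) j.1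
  let ext : ∀ b : ℕ, ({j : Fin n // j.val < b} → F) → Fin n → F :=
    fun b y j => if h : j.val < b then y ⟨j, h⟩ else 0
  have hsum : ∀ (b : ℕ) (y : {j : Fin n // j.val < b} → F) (c : Fin n → F),
      ∑ j, c j * ext b y j = ∑ j : {j : Fin n // j.val < b}, c j.1 * y j := fun b y c => by
    rw [← Fintype.sum_subtype_add_sum_subtype (fun j : Fin n => j.val < b),
      Finset.sum_eq_zero (s := Finset.univ) (f := fun j : {j : Fin n // ¬ j.val < b} =>
        c j.1 * ext b y j.1) (fun j _ => by simp only [ext]; rw [dif_neg j.2, mul_zero]), add_zero]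
    exact Finset.sum_congr rfl fun j _ => by simp only [ext]; rw [dif_pos j.2]
  have hext0 : ∀ (b : ℕ) (y : {j : Fin n // j.val < b} → F), y ≠ 0 → ext b y ≠ 0 :=
    fun b y hy h => hy (funext fun j => by
      have := congrFun h j.1
      simp only [ext] at this
      rwa [dif_pos j.2] at this)
  have hexts : ∀ (b : ℕ) (y : {j : Fin n // j.val < b} → F) (j : Fin n),
      ext b y j ≠ 0 → j.val < b := fun b y j h => by
    by_contra h1
    exact h (dif_neg h1)
  by_cases hb : ∃ b ≤ n, (A b).det = 0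
  · left
    obtain ⟨b, hbn, hb⟩ := hb
    obtain ⟨y, hy0, hy⟩ := exists_mulVec_eq_zero_iff.2 hb
    obtain ⟨φ, hφ0, hφ⟩ := exists_vecMul_eq_zero_iff.2 hb
    refine exists_mem_upT_conj (a := n - b) (b := b) (y := ext b y)
      (φ := fun i => ext b φ (rho n i)) (hext0 b y hy0) (fun h => hext0 b φ hφ0 ?_) (hexts b y)
      (fun i hi => ?_) (fun i hi => ?_) (fun j hj => ⟨?_, j.2⟩)
    · funext i
      have := congrFun h (rho n i)
      rwa [rho_rho] at this
    · by_contra h1
      apply hi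
      have h2 : (rho n i).val < b := by rw [rho_val le_rfl, if_pos i.2]; omega
      have h3 := congrFun hy ⟨rho n i, h2⟩
      simp only [A, mulVec, dotProduct, Matrix.of_apply, rho_rho] at h3
      simp only [mulVec, dotProduct]
      rw [hsum]; exact h3
    · have := hexts b φ _ hi
      rw [rho_val le_rfl, if_pos i.2] at this
      omega
    · by_contra h1
      apply hj
      have h3 := congrFun hφ ⟨j, by omega⟩
      simp only [A, vecMul, dotProduct, Matrix.of_apply] at h3
      simp only [vecMul, dotProduct]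
      rw [← Equiv.sum_comp (rhoP n n)]
      simp only [rhoP_apply, rho_rho, mul_comm (ext b φ _)]
      rw [hsum]
      simpa only [mul_comm, Pi.zero_apply] using h3
  · right
    push Not at hb
    have h1 : ∀ j : Fin n, ∃ y : {l : Fin n // l.val < j.val} → F,
        A j.val *ᵥ y = fun i => - (slm g) (rho n i.1) j := fun j =>
      mulVec_surjective_iff_isUnit.2
        ((isUnit_iff_isUnit_det _).2 (hb j.val j.2.le).isUnit) _
    choose y hy using h1
    let W : Matrix (Fin n) (Fin n) F := 1 + Matrix.of fun i j => ext j.val (y j) i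
    have hW : ∀ i j : Fin n, ¬ i < j → W i j = (1 : Matrix (Fin n) (Fin n) F) i j :=
      fun i j hij => by
        simp only [W, Matrix.add_apply, Matrix.of_apply, add_eq_left]
        exact dif_neg hij
    let w : SpecialLinearGroup (Fin n) F := mkSL W (det_eq_one_of_upper hW)
    have hw : w ∈ upT F n n := mem_patSub.2 fun i j hij => hW i j fun h => hij ⟨h, j.2⟩
    obtain ⟨u, hu, m, hm, hgw, -⟩ := exists_upT_mul_antiM le_rfl (g := g * w)
      (fun i hi => absurd i.2 (by omega)) (fun i j h2 h3 => by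
        have h4 : (rho n i).val < j.val := by
          have h5 : ¬ j < rho n i := fun h => h3 ⟨h, i.2⟩
          have h6 : j.val ≠ (rho n i).val := fun h => h2 (Fin.ext h)
          rw [Fin.lt_def] at h5
          omega
        have h7 := congrFun (hy j) ⟨rho n i, h4⟩
        simp only [A, mulVec, dotProduct, Matrix.of_apply, rho_rho] at h7
        simp only [slm_mul, w, slm_mkSL, W]
        rw [mul_add, mul_one, Matrix.add_apply, Matrix.mul_apply]
        simp only [Matrix.of_apply]
        rw [hsum, h7, add_neg_cancel])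
    exact ⟨u, hu, m, hm, w⁻¹, (upT F n n).inv_mem hw, by rw [← hgw, mul_inv_cancel_right]⟩

end LG
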