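import Cfsg.Agent.Lib.Char.Defs

/-!
# Matrices of prime order acting irreducibly

A matrix over a finite field with `q` elements whose order is a prime dividing no `q ^ d - 1`,
`0 < d < n`, acts irreducibly; its commutant is a field.
-/

set_option autoImplicit false

namespace LG

open Matrix Module

variable {F : Type*} [Field F] [Finite F]

theorem pow_finrank_modEq {V : Type*} [AddCommGroup V] [Module F V] [Module.Finite F V]
    (x : Module.End F V) {s : ℕ} (hs : s.Prime) (hx : x ^ s = 1) :
    Nat.card F ^ finrank F V ≡ Nat.card F ^ finrank F (LinearMap.ker (x - 1)) [MOD s] := by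
  classical
  have := Fact.mk hs
  have : Finite V := Module.finite_of_finite F
  have := Fintype.ofFinite V
  have h := Equiv.Perm.card_fixedPoints_modEq (α := V) (f := (x : V → V)) (p := s) (n := 1) (by
    rw [pow_one]
    funext v
    have : ∀ k : ℕ, ((show Function.End V from (x : V → V)) ^ k) v = (x ^ k) v := by
      intro k
      induction k with
      | zero => rfl
      | succ k ih => rw [pow_succ', pow_succ', Module.End.mul_apply, ← ih]; rfl
    rw [this, hx]; rfl)
  rw [← Nat.card_eq_fintype_card, ← Nat.card_eq_fintype_card] at h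
  rw [← natCard_eq_pow_finrank, ← natCard_eq_pow_finrank]
  convert h using 1
  exact Nat.card_congr (Equiv.subtypeEquivRight fun v => by
    simp [sub_eq_zero, Function.IsFixedPt])

theorem eq_bot_or_top_of_prime {V : Type*} [AddCommGroup V] [Module F V] [Module.Finite F V]
    (x : Module.End F V) {s : ℕ} (hs : s.Prime) (hx : x ^ s = 1) (h1 : x ≠ 1)
    (hq : ¬ s ∣ Nat.card F) (hd : ∀ d, 0 < d → d < finrank F V → ¬ s ∣ Nat.card F ^ d - 1)
    (W : Submodule F V) (hW : ∀ v ∈ W, x v ∈ W) : W = ⊥ ∨ W = ⊤ := by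
  have hq0 : 0 < Nat.card F := Nat.card_pos
  have h2 : LinearMap.ker (x - 1) = ⊥ := by
    have h3 := pow_finrank_modEq x hs hx
    have h4 : finrank F (LinearMap.ker (x - 1)) < finrank F V :=
      Submodule.finrank_lt (fun e => h1 (sub_eq_zero.1 (LinearMap.ker_eq_top.1 e)))
    by_contra h5
    have h6 : 0 < finrank F (LinearMap.ker (x - 1)) :=
      Nat.pos_of_ne_zero fun e => h5 (Submodule.finrank_eq_zero.1 e)
    obtain ⟨d, hd'⟩ := Nat.exists_eq_add_of_le h4.le
    rw [hd', pow_add] at h3
    have h7 := Nat.ModEq.cancel_left_of_coprime (c := Nat.card F ^ finrank F (LinearMap.ker (x - 1)))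
      (a := Nat.card F ^ d) (b := 1) (((Nat.Prime.coprime_iff_not_dvd hs).2 hq).pow_right _)
      (by rwa [mul_one])
    exact hd d (by omega) (by omega)
      ((Nat.modEq_iff_dvd' (Nat.one_le_pow _ _ hq0)).1 h7.symm)
  by_contra! h
  have h3 := pow_finrank_modEq (x.restrict hW) hs (by
    rw [Module.End.pow_restrict]
    ext v; simp [hx])
  have h4 : LinearMap.ker (x.restrict hW - 1) = ⊥ := by
    rw [eq_bot_iff]
    intro v hv
    have h5 : (v : V) ∈ LinearMap.ker (x - 1) := by
      simpa using congrArg Subtype.val (LinearMap.mem_ker.1 hv)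
    rw [h2] at h5
    exact Subtype.ext h5
  rw [h4, finrank_bot, pow_zero] at h3
  exact hd _ (Nat.pos_of_ne_zero fun e => h.1 (Submodule.finrank_eq_zero.1 e))
    (Submodule.finrank_lt h.2) ((Nat.modEq_iff_dvd' (Nat.one_le_pow _ _ hq0)).1 h3.symm)

theorem commutant_of_prime {n : Type*} [Fintype n] [DecidableEq n] (x : Matrix n n F) {s : ℕ}
    (hs : s.Prime) (hx : x ^ s = 1) (h1 : x ≠ 1) (hq : ¬ s ∣ Nat.card F)
    (hd : ∀ d, 0 < d → d < Fintype.card n → ¬ s ∣ Nat.card F ^ d - 1) :
    (∀ a b : Matrix n n F, a * x = x * a → b * x = x * b → a * b = b * a) ∧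
      ∀ T : Finset (Matrix n n F), (∀ y ∈ T, y.charpoly = x.charpoly ∧ y * x = x * y) →
        T.card ≤ Fintype.card n := by
  classical
  have hirr := eq_bot_or_top_of_prime (Matrix.toLin' x) hs
    (by rw [← Matrix.toLin'_pow, hx, Matrix.toLin'_one]; rfl)
    (fun e => h1 (Matrix.toLin'.injective (by rw [e, Matrix.toLin'_one]; rfl))) hq
    (by rwa [finrank_fintype_fun_eq_card])
  set R := Subalgebra.centralizer F ({x} : Set (Matrix n n F))
  have hR : ∀ {a : Matrix n n F}, a ∈ R ↔ a * x = x * a := by
    intro a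
    simp [R, Subalgebra.mem_centralizer_iff, eq_comm]
  have : Nontrivial (Matrix n n F) := ⟨⟨x, 1, h1⟩⟩
  have : NoZeroDivisors R := ⟨fun {a b} hab => by
    rcases hirr (LinearMap.ker (Matrix.toLin' (a : Matrix n n F))) (fun v hv => by
      rw [LinearMap.mem_ker] at hv ⊢
      rw [← LinearMap.comp_apply, ← Matrix.toLin'_mul, hR.1 a.2, Matrix.toLin'_mul,
        LinearMap.comp_apply, hv, map_zero]) with h | h
    · right
      refine Subtype.ext (Matrix.toLin'.injective ?_)
      ext1 v
      ext1
      apply LinearMap.ker_eq_bot.1 h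
      have h2 : (a : Matrix n n F) * b = 0 := congrArg Subtype.val hab
      simp only [LinearMap.comp_apply]
      rw [← LinearMap.comp_apply (Matrix.toLin' _), ← Matrix.toLin'_mul, h2]
      simp
    · left
      exact Subtype.ext (Matrix.toLin'.injective (by rw [LinearMap.ker_eq_top.1 h]; simp))⟩
  have : IsDomain R := NoZeroDivisors.to_isDomain R
  have hF := Finite.isDomain_to_isField R
  refine ⟨fun a b ha hb => congrArg Subtype.val (hF.mul_comm ⟨a, hR.2 ha⟩ ⟨b, hR.2 hb⟩),
    fun T hT => ?_⟩
  let : CommRing R := { (inferInstance : Ring R) with mul_comm := hF.mul_comm }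
  have h2 := Polynomial.card_le_degree_of_subset_roots (p := x.charpoly.map (algebraMap F R))
    (Z := T.attach.image fun y => (⟨y.1, hR.2 (hT y.1 y.2).2⟩ : R)) (by
      intro y hy
      obtain ⟨z, -, rfl⟩ := Finset.mem_image.1 hy
      rw [Polynomial.mem_roots (x.charpoly_monic.map _).ne_zero, Polynomial.IsRoot,
        Polynomial.eval_map_algebraMap]
      apply Subtype.ext
      have := Polynomial.aeval_algHom_apply R.val ⟨z.1, hR.2 (hT z.1 z.2).2⟩ x.charpoly
      refine this.symm.trans ?_
      have h3 := Matrix.aeval_self_charpoly z.1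
      rw [(hT z.1 z.2).1] at h3
      exact h3)
  rwa [Finset.card_image_of_injective _ (fun a b e => Subtype.ext (Subtype.mk.inj e)),
    Finset.card_attach, x.charpoly_monic.natDegree_map, Matrix.charpoly_natDegree_eq_dim] at h2

end LG
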