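import Cfsg.Prelude.Def_Sz
import Cfsg.Agent.Lib.Char.SzStr
import Cfsg.Agent.Lib.Lin.PrimeIrr

/-!
# The Suzuki groups as matrix groups
-/

set_option autoImplicit false
set_option linter.unusedSectionVars false

namespace LG

open Cfsg Cfsg.Lie Matrix
open scoped commutatorElement MatrixGroups

/-- A Tits endomorphism: a square root of the Frobenius map. -/
structure Tits (F : Type*) [Field F] where
  θ : F →+* F
  sq : ∀ x, θ (θ x) = x ^ 2

variable {F : Type*} [Field F]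

/-- The antidiagonal matrix. -/
def antiJ (F : Type*) [Field F] : Matrix (Fin 4) (Fin 4) F :=
  !![0, 0, 0, 1; 0, 0, 1, 0; 0, 1, 0, 0; 1, 0, 0, 0]

theorem antiJ_mul_self : antiJ F * antiJ F = 1 := by
  ext i j; fin_cases i <;> fin_cases j <;> simp [antiJ, Matrix.mul_apply, Fin.sum_univ_four]

theorem sp4_col {g : Matrix (Fin 4) (Fin 4) F} (h : gᵀ * antiJ F * g = antiJ F) (i j : Fin 4) :
    g 0 i * g 3 j + g 1 i * g 2 j + g 2 i * g 1 j + g 3 i * g 0 j = antiJ F i j := by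
  rw [← congrFun (congrFun h i) j]
  simp [antiJ, Matrix.mul_apply, Fin.sum_univ_four]
  ring

theorem sp4_inv {g : Matrix (Fin 4) (Fin 4) F} (h : gᵀ * antiJ F * g = antiJ F) :
    antiJ F * gᵀ * antiJ F * g = 1 := by
  rw [Matrix.mul_assoc (antiJ F), Matrix.mul_assoc (antiJ F), h, antiJ_mul_self]

theorem sp4_row {g : Matrix (Fin 4) (Fin 4) F} (h : gᵀ * antiJ F * g = antiJ F) (i j : Fin 4) :
    g i 0 * g j 3 + g i 1 * g j 2 + g i 2 * g j 1 + g i 3 * g j 0 = antiJ F i j := by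
  have h1 := mul_eq_one_comm.1 (sp4_inv h)
  have h2 : gᵀᵀ * antiJ F * gᵀ = antiJ F := by
    calc gᵀᵀ * antiJ F * gᵀ = g * (antiJ F * gᵀ * antiJ F) * antiJ F := by
          rw [transpose_transpose]
          simp only [Matrix.mul_assoc, antiJ_mul_self, Matrix.mul_one]
      _ = _ := by rw [h1, Matrix.one_mul]
  exact sp4_col h2 i j

theorem mem_Sp4_iff {g : GL (Fin 4) F} :
    g ∈ Sp4 F ↔ (g : Matrix (Fin 4) (Fin 4) F)ᵀ * antiJ F * g = antiJ F := by
  have key : ∀ u v : Fin 4 → F, altForm4 u v = u ⬝ᵥ (antiJ F *ᵥ v) := by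
    intro u v
    simp [altForm4, antiJ, dotProduct, mulVec, Fin.sum_univ_four]
  have key2 : ∀ u v : Fin 4 → F, altForm4 ((g : Matrix (Fin 4) (Fin 4) F) *ᵥ u)
      ((g : Matrix (Fin 4) (Fin 4) F) *ᵥ v) =
      u ⬝ᵥ (((g : Matrix (Fin 4) (Fin 4) F)ᵀ * antiJ F * (g : Matrix (Fin 4) (Fin 4) F)) *ᵥ v) := by
    intro u v
    rw [key, ← mulVec_mulVec, ← mulVec_mulVec, dotProduct_mulVec u, vecMul_transpose]
  constructor
  · intro h
    ext i j
    have := (key2 (Pi.single i 1) (Pi.single j 1)).symm.trans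
      ((h (Pi.single i 1) (Pi.single j 1)).trans (key _ _))
    simpa using this
  · intro h u v
    exact (key2 u v).trans (by rw [h, key])

variable [CharP F 2]

theorem star4_mul {g h : Matrix (Fin 4) (Fin 4) F} (hg : gᵀ * antiJ F * g = antiJ F)
    (hh : hᵀ * antiJ F * h = antiJ F) : star4 (g * h) = star4 g * star4 h := by
  ext p r
  have h1 := sp4_row hg (pairOf p).1 (pairOf p).2
  have h2 := sp4_col hh (pairOf r).1 (pairOf r).2
  have e : ∀ p, antiJ F (pairOf p).1 (pairOf p).2 = 0 := fun p => by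
    fin_cases p <;> simp [antiJ, pairOf]
  rw [e] at h1 h2
  have e0 : pairOf 0 = (0, 1) := rfl
  have e1 : pairOf 1 = (0, 2) := rfl
  have e2 : pairOf 2 = (1, 3) := rfl
  have e3 : pairOf 3 = (2, 3) := rfl
  simp only [star4, Matrix.mul_apply, Fin.sum_univ_four, of_apply, e0, e1, e2, e3]
  grind

omit [CharP F 2] in
theorem star4_one : star4 (1 : Matrix (Fin 4) (Fin 4) F) = 1 := by
  ext i j; fin_cases i <;> fin_cases j <;> simp [star4, pairOf, Matrix.one_apply]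

namespace Tits

variable (T : Tits F)

/-- The matrices of the Suzuki group. -/
def IsSz (g : Matrix (Fin 4) (Fin 4) F) : Prop :=
  gᵀ * antiJ F * g = antiJ F ∧ star4 g = g.map T.θ

/-- The Suzuki group. -/
def grp : Subgroup (GL (Fin 4) F) where
  carrier := {g | T.IsSz g}
  one_mem' := ⟨by simp, by simp [star4_one]⟩
  mul_mem' {a b} ha hb := ⟨mem_Sp4_iff.1 (mul_mem (mem_Sp4_iff.2 ha.1) (mem_Sp4_iff.2 hb.1)), by
    rw [Units.val_mul, star4_mul ha.1 hb.1, ha.2, hb.2, Matrix.map_mul]⟩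
  inv_mem' {a} ha := by
    have h1 := mem_Sp4_iff.1 (inv_mem (mem_Sp4_iff.2 ha.1))
    refine ⟨h1, ?_⟩
    have h2 := star4_mul h1 ha.1
    rw [Units.inv_mul, star4_one, ha.2] at h2
    calc _ = star4 (a⁻¹ : GL (Fin 4) F).1 * (a.1 * (a⁻¹ : GL (Fin 4) F).1).map T.θ := by simp
      _ = _ := by rw [Matrix.map_mul, ← Matrix.mul_assoc, ← h2, Matrix.one_mul]

theorem Sz_eq {e : ℕ} (he : ∀ x, T.θ x = x ^ e) : Sz F e = T.grp := by
  rw [← T.grp.closure_eq, Sz]
  congr 1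
  ext g
  rw [Set.mem_ofPred_eq, mem_Sp4_iff, ← funext he]
  rfl

variable {T}

/-- The matrix of an element. -/
def mat : T.grp →* Matrix (Fin 4) (Fin 4) F := (Units.coeHom _).comp T.grp.subtype

theorem mat_inj : Function.Injective (mat (T := T)) :=
  Units.val_injective.comp T.grp.subtype_injective

theorem isSz_mat (g : T.grp) : T.IsSz (mat g) := g.2

/-- The element with a given matrix. -/
def IsSz.elt {g : Matrix (Fin 4) (Fin 4) F} (h : T.IsSz g) : T.grp :=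
  ⟨⟨g, antiJ F * gᵀ * antiJ F, mul_eq_one_comm.1 (sp4_inv h.1), sp4_inv h.1⟩, h⟩

theorem IsSz.mat_elt {g : Matrix (Fin 4) (Fin 4) F} (h : T.IsSz g) : mat h.elt = g := rfl

theorem mat_inv (g : T.grp) : mat g⁻¹ = antiJ F * (mat g)ᵀ * antiJ F := by
  calc mat g⁻¹ = antiJ F * (mat g)ᵀ * antiJ F * mat g * mat g⁻¹ := by
        rw [sp4_inv (isSz_mat g).1, Matrix.one_mul]
    _ = _ := by rw [Matrix.mul_assoc _ (mat g), ← map_mul, mul_inv_cancel, map_one, Matrix.mul_one]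

theorem IsSz.star {g : Matrix (Fin 4) (Fin 4) F} (h : T.IsSz g) (p r : Fin 4) :
    g (pairOf p).1 (pairOf r).1 * g (pairOf p).2 (pairOf r).2 -
      g (pairOf p).2 (pairOf r).1 * g (pairOf p).1 (pairOf r).2 = T.θ (g p r) :=
  congrFun (congrFun h.2 p) r

theorem IsSz.col_rel {g : Matrix (Fin 4) (Fin 4) F} (h : T.IsSz g) : ∃ s : F,
    g 0 0 * s + g 1 0 * T.θ (g 1 0) + g 2 0 * T.θ (g 0 0) = 0 ∧
    g 0 0 * T.θ (g 2 0) + g 1 0 * s + g 3 0 * T.θ (g 0 0) = 0 ∧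
    g 0 0 * T.θ (g 3 0) + g 2 0 * s + g 3 0 * T.θ (g 1 0) = 0 ∧
    g 1 0 * T.θ (g 3 0) + g 2 0 * T.θ (g 2 0) + g 3 0 * s = 0 := by
  have h0 : g 0 0 * g 1 1 - g 1 0 * g 0 1 = _ := h.star 0 0
  have h1 : g 0 0 * g 2 1 - g 2 0 * g 0 1 = _ := h.star 1 0
  have h2 : g 1 0 * g 3 1 - g 3 0 * g 1 1 = _ := h.star 2 0
  have h3 : g 2 0 * g 3 1 - g 3 0 * g 2 1 = _ := h.star 3 0
  have h4 : _ = (0 : F) := sp4_col h.1 0 1
  refine ⟨g 1 0 * g 2 1 - g 2 0 * g 1 1, ?_⟩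
  rw [← h0, ← h1, ← h2, ← h3]
  grind

theorem eq_zero_of_mul_θ {a : F} (h : a * T.θ a = 0) : a = 0 := by
  rcases mul_eq_zero.1 h with h | h
  · exact h
  · exact (map_eq_zero T.θ).1 h

theorem IsSz.col_zero {g : Matrix (Fin 4) (Fin 4) F} (h : T.IsSz g) (h3 : g 3 0 = 0) :
    g 1 0 = 0 ∧ g 2 0 = 0 := by
  obtain ⟨s, r0, r1, -, r3⟩ := h.col_rel
  have h2 : g 2 0 = 0 := eq_zero_of_mul_θ (T := T) (by simpa [h3] using r3)
  refine ⟨?_, h2⟩
  simp only [h2, h3, map_zero, mul_zero, zero_mul, add_zero, zero_add] at r0 r1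
  rcases mul_eq_zero.1 r1 with h | h
  · exact h
  · exact eq_zero_of_mul_θ (T := T) (by simpa [h] using r0)

variable (T)

/-- The unipotent matrices. -/
def xM (a b : F) : Matrix (Fin 4) (Fin 4) F :=
  !![1, a, b, a * b + a ^ 2 * T.θ a + T.θ b; 0, 1, T.θ a, b + a * T.θ a; 0, 0, 1, a; 0, 0, 0, 1]

/-- The diagonal matrices. -/
def hM (t : Fˣ) : Matrix (Fin 4) (Fin 4) F :=
  !![t, 0, 0, 0; 0, T.θ t * (t⁻¹ : Fˣ), 0, 0; 0, 0, t * T.θ (t⁻¹ : Fˣ), 0; 0, 0, 0, (t⁻¹ : Fˣ)]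

theorem θ_inv (t : Fˣ) : T.θ t * T.θ (t⁻¹ : Fˣ) = 1 := by
  rw [← map_mul, Units.mul_inv, map_one]

theorem isSz_xM (a b : F) : T.IsSz (T.xM a b) := by
  constructor <;> ext i j <;> fin_cases i <;> fin_cases j <;>
    simp [xM, antiJ, star4, pairOf, Matrix.mul_apply, Fin.sum_univ_four, T.sq] <;> grind

theorem isSz_hM (t : Fˣ) : T.IsSz (T.hM t) := by
  have h1 := t.mul_inv
  have h2 := T.θ_inv t
  constructor <;> ext i j <;> fin_cases i <;> fin_cases j <;>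
    simp [hM, antiJ, star4, pairOf, Matrix.mul_apply, Fin.sum_univ_four, T.sq,
      -Units.val_inv_eq_inv_val] <;> grind

theorem isSz_J : T.IsSz (antiJ F) := by
  constructor <;> ext i j <;> fin_cases i <;> fin_cases j <;>
    simp [antiJ, star4, pairOf, Matrix.mul_apply, Fin.sum_univ_four, CharTwo.neg_eq]

/-- The unipotent elements. -/
def x (a b : F) : T.grp := (T.isSz_xM a b).elt
/-- The diagonal elements. -/
def h (t : Fˣ) : T.grp := (T.isSz_hM t).elt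
/-- The Weyl element. -/
def w : T.grp := T.isSz_J.elt

theorem mat_x (a b : F) : mat (T.x a b) = T.xM a b := rfl
theorem mat_h (t : Fˣ) : mat (T.h t) = T.hM t := rfl
theorem mat_w : mat T.w = antiJ F := rfl

theorem x_mul (a b c d : F) : T.x a b * T.x c d = T.x (a + c) (b + d + a * T.θ c) := by
  apply mat_inj
  rw [map_mul, mat_x, mat_x, mat_x]
  ext i j; fin_cases i <;> fin_cases j <;>
    simp [xM, Matrix.mul_apply, Fin.sum_univ_four, T.sq] <;> grind

theorem x_zero : T.x 0 0 = 1 := by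
  apply mat_inj
  rw [map_one, mat_x]
  ext i j; fin_cases i <;> fin_cases j <;> simp [xM]

theorem x_inv (a b : F) : (T.x a b)⁻¹ = T.x a (b + a * T.θ a) := by
  rw [inv_eq_iff_mul_eq_one, x_mul, ← x_zero]
  congr 1 <;> grind

theorem x_inj {a b c d : F} (e : T.x a b = T.x c d) : a = c ∧ b = d :=
  ⟨congrFun (congrFun (congrArg mat e) 0) 1, congrFun (congrFun (congrArg mat e) 0) 2⟩

theorem h_mul (s t : Fˣ) : T.h (s * t) = T.h s * T.h t := by
  apply mat_inj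
  rw [map_mul, mat_h, mat_h, mat_h]
  ext i j; fin_cases i <;> fin_cases j <;>
    simp [hM, Matrix.mul_apply, Fin.sum_univ_four, -Units.val_inv_eq_inv_val] <;> ring

theorem x_mul_h (a b : F) (t : Fˣ) :
    T.x a b * T.h t = T.h t * T.x (a * T.θ t * (t⁻¹ : Fˣ) ^ 2) (b * T.θ (t⁻¹ : Fˣ)) := by
  have h1 := t.mul_inv
  have h2 := T.θ_inv t
  apply mat_inj
  rw [map_mul, map_mul, mat_h, mat_x, mat_x]
  ext i j; fin_cases i <;> fin_cases j <;>
    simp [hM, xM, Matrix.mul_apply, Fin.sum_univ_four, T.sq, -Units.val_inv_eq_inv_val] <;> grind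

theorem w_mul_w : T.w * T.w = 1 := by
  apply mat_inj
  rw [map_mul, map_one, mat_w, antiJ_mul_self]

theorem w_h_w (t : Fˣ) : T.w * T.h t * T.w = T.h t⁻¹ := by
  apply mat_inj
  rw [map_mul, map_mul, mat_h, mat_h, mat_w]
  ext i j; fin_cases i <;> fin_cases j <;>
    simp [hM, antiJ, Matrix.mul_apply, Fin.sum_univ_four, -Units.val_inv_eq_inv_val, mul_comm]

theorem h_one : T.h 1 = 1 := by
  have := T.h_mul 1 1
  rw [one_mul] at this
  exact left_eq_mul.1 this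

/-- The Sylow `2`-subgroup. -/
def Q : Subgroup T.grp where
  carrier := {g | ∃ a b, g = T.x a b}
  one_mem' := ⟨0, 0, T.x_zero.symm⟩
  mul_mem' := by rintro _ _ ⟨a, b, rfl⟩ ⟨c, d, rfl⟩; exact ⟨_, _, T.x_mul a b c d⟩
  inv_mem' := by rintro _ ⟨a, b, rfl⟩; exact ⟨_, _, T.x_inv a b⟩

/-- The centre of the Sylow `2`-subgroup. -/
def Z : Subgroup T.grp where
  carrier := {g | ∃ b, g = T.x 0 b}
  one_mem' := ⟨0, T.x_zero.symm⟩
  mul_mem' := by rintro _ _ ⟨b, rfl⟩ ⟨d, rfl⟩; exact ⟨_, by rw [T.x_mul, add_zero]⟩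
  inv_mem' := by rintro _ ⟨b, rfl⟩; exact ⟨_, T.x_inv 0 b⟩

/-- The diagonal subgroup. -/
def K : Subgroup T.grp := (MonoidHom.mk' T.h T.h_mul).range

/-- The Borel subgroup. -/
def B : Subgroup T.grp where
  carrier := {g | mat g 3 0 = 0}
  one_mem' := by simp
  mul_mem' {a b} ha hb := by
    obtain ⟨h1, h2⟩ := (isSz_mat b).col_zero hb
    have h3 : mat a 3 0 = 0 := ha
    have h4 : mat b 3 0 = 0 := hb
    simp [Matrix.mul_apply, Fin.sum_univ_four, h1, h2, h3, h4]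
  inv_mem' {a} ha := by
    have h3 : mat a 3 0 = 0 := ha
    simp [mat_inv, antiJ, Matrix.mul_apply, Fin.sum_univ_four, h3, vecMul, dotProduct]

theorem mem_B {g : T.grp} : g ∈ T.B ↔ mat g 3 0 = 0 := Iff.rfl

theorem mem_Q_of {g : T.grp} (h3 : mat g 3 0 = 0) (h0 : mat g 0 0 = 1) : g ∈ T.Q := by
  have h := isSz_mat g
  obtain ⟨h1, h2⟩ := h.col_zero h3
  refine ⟨mat g 0 1, mat g 0 2, mat_inj ?_⟩
  rw [mat_x]
  set M := mat g
  have s00 : M 0 0 * M 1 1 - M 1 0 * M 0 1 = _ := h.star 0 0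
  have s10 : M 0 0 * M 2 1 - M 2 0 * M 0 1 = _ := h.star 1 0
  have s01 : M 0 0 * M 1 2 - M 1 0 * M 0 2 = _ := h.star 0 1
  have s11 : M 0 0 * M 2 2 - M 2 0 * M 0 2 = _ := h.star 1 1
  have s02 : M 0 1 * M 1 3 - M 1 1 * M 0 3 = _ := h.star 0 2
  have c01 : _ = (0 : F) := sp4_col h.1 0 1
  have c02 : _ = (0 : F) := sp4_col h.1 0 2
  have c03 : _ = (1 : F) := sp4_col h.1 0 3
  have c13 : _ = (0 : F) := sp4_col h.1 1 3
  have c23 : _ = (0 : F) := sp4_col h.1 2 3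
  simp only [h0, h1, h2, h3, map_one, map_zero, one_mul, zero_mul, sub_zero, add_zero]
    at s00 s10 s01 s11 c01 c02 c03
  simp only [s00, map_one] at s11
  simp only [s00, s10, s01, s11, c01, c02, c03, one_mul, zero_mul, mul_one, add_zero]
    at s02 c13 c23
  ext i j; fin_cases i <;> fin_cases j <;>
    simp [xM, h0, h1, h2, h3, s00, s10, s01, s11, c01, c02, c03] <;> grind

theorem dec {g : T.grp} (hg : g ∈ T.B) : ∃ a b t, g = T.x a b * T.h t := by
  have h := isSz_mat g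
  obtain ⟨h1, h2⟩ := h.col_zero hg
  have h3 : mat g 3 0 = 0 := hg
  have c03 : _ = (1 : F) := sp4_col h.1 0 3
  have h0 : mat g 0 0 ≠ 0 := fun e => by simp [e, h1, h2, h3] at c03
  obtain ⟨a, b, e⟩ := T.mem_Q_of (g := g * T.h (Units.mk0 _ h0)⁻¹)
    (by simp [mat_h, hM, Matrix.mul_apply, Fin.sum_univ_four, h3])
    (by simp [mat_h, hM, Matrix.mul_apply, Fin.sum_univ_four, h0])
  exact ⟨a, b, Units.mk0 _ h0, by rw [← e, mul_assoc, ← h_mul, inv_mul_cancel, h_one, mul_one]⟩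

theorem bruhat {g : T.grp} (hg : g ∉ T.B) : ∃ u ∈ T.Q, ∃ b ∈ T.B, g = u * T.w * b := by
  have h3 : mat g 3 0 ≠ 0 := hg
  set a := mat g 2 0 / mat g 3 0 with ha
  set b := (mat g 1 0 + T.θ a * mat g 2 0) / mat g 3 0 + a * T.θ a with hb
  have e1 : mat (T.x a b * g) 1 0 = 0 := by
    simp [mat_x, xM, Matrix.mul_apply, Fin.sum_univ_four, hb]
    grind
  have e2 : mat (T.x a b * g) 2 0 = 0 := by
    simp [mat_x, xM, Matrix.mul_apply, Fin.sum_univ_four, ha]
    grind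
  have e3 : mat (T.x a b * g) 3 0 = mat g 3 0 := by
    simp [mat_x, xM, Matrix.mul_apply, Fin.sum_univ_four]
  obtain ⟨s, -, -, r, -⟩ := (isSz_mat (T.x a b * g)).col_rel
  rw [e1, e2, e3, map_zero, zero_mul, mul_zero, add_zero, add_zero, mul_eq_zero,
    map_eq_zero] at r
  refine ⟨(T.x a b)⁻¹, T.Q.inv_mem ⟨a, b, rfl⟩, T.w * (T.x a b * g), ?_, ?_⟩
  · rw [mem_B, map_mul, mat_w, Matrix.mul_apply]
    simp [antiJ, Fin.sum_univ_four, -map_mul, r.resolve_right h3]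
  · rw [mul_assoc, ← mul_assoc T.w, w_mul_w, one_mul, inv_mul_cancel_left]

theorem conj_x (a b : F) {g : T.grp} (hg : g ∈ T.B) :
    ∃ c d, g⁻¹ * T.x a b * g = T.x c d ∧ (a = 0 → c = 0) := by
  obtain ⟨c, d, t, rfl⟩ := T.dec hg
  have : (T.x c d * T.h t)⁻¹ * T.x a b * (T.x c d * T.h t) =
      (T.h t)⁻¹ * ((T.x c d)⁻¹ * T.x a b * T.x c d * T.h t) := by group
  rw [this, x_inv, x_mul, x_mul, x_mul_h, inv_mul_cancel_left]
  exact ⟨_, _, rfl, by rintro rfl; simp [CharTwo.add_self_eq_zero]⟩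

theorem comm_x (a b c d : F) : ⁅T.x a b, T.x c d⁆ = T.x 0 (a * T.θ c + c * T.θ a) := by
  rw [commutatorElement_def, x_inv, x_inv, x_mul, x_mul, x_mul]
  congr 1
  · grind
  · grind

theorem eq_one_of_θ_eq_one {t : F} (h : T.θ t = 1) : t = 1 := by
  have := T.sq t
  rw [h, map_one] at this
  grind

theorem eq_of_θ_eq {t : F} (h0 : t ≠ 0) (h : T.θ t = t) : t = 1 := by
  have := T.sq t
  rw [h, h] at this
  grind

theorem frob {t : Fˣ} (ht : T.h t ≠ 1) {a b : F} (e : T.x a b * T.h t = T.h t * T.x a b) :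
    T.x a b = 1 := by
  have h0 : (t : F) ≠ 1 := fun e => ht (by rw [Units.val_eq_one.1 e, h_one])
  rw [x_mul_h] at e
  obtain ⟨e1, e2⟩ := T.x_inj (mul_left_cancel e)
  have h1 := t.mul_inv
  have h2 := T.θ_inv t
  have ha : a = 0 := by
    by_contra ha
    have h3 : T.θ t = (t : F) ^ 2 := by grind
    have h4 := congrArg T.θ h3
    rw [T.sq, map_pow] at h4
    exact h0 (T.eq_of_θ_eq t.ne_zero (by grind))
  have hb : b = 0 := by
    by_contra hb
    exact h0 (T.eq_one_of_θ_eq_one (by grind))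
  rw [ha, hb, x_zero]

theorem wu {a b : F} (e : T.w * T.x a b * T.w ∈ T.B) : T.x a b = 1 := by
  obtain ⟨h1, h2⟩ := (isSz_mat _).col_zero e
  simp [mat_w, mat_x, xM, antiJ, Matrix.mul_apply, Fin.sum_univ_four] at h1 h2
  rw [h1] at h2 ⊢
  rw [zero_mul, add_zero] at h2
  rw [h2, x_zero]

variable [Finite F]

omit [CharP F 2] in
theorem eq_one_of_mul_mem {H : AddSubgroup F} (h2 : H.index = 2) {t : F} (h0 : t ≠ 0)
    (ht : ∀ y ∈ H, t * y ∈ H) : t = 1 := by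
  have aux : ∀ {s : F}, s ≠ 0 → (∀ y ∈ H, s * y ∈ H) → ∀ y, s * y ∈ H → y ∈ H := by
    intro s hs h y hy
    obtain ⟨z, hz⟩ := Finite.surjective_of_injective (f := fun z : H => (⟨s * z, h _ z.2⟩ : H))
      (fun a b e => Subtype.ext (mul_left_cancel₀ hs (Subtype.mk.inj e))) ⟨_, hy⟩
    rw [← mul_left_cancel₀ hs (Subtype.mk.inj hz)]
    exact z.2
  by_contra h1
  obtain ⟨y, hy⟩ : ∃ y, y ∉ H := by
    by_contra! h
    rw [(AddSubgroup.eq_top_iff' H).2 h, AddSubgroup.index_top] at h2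
    omega
  refine hy (aux (sub_ne_zero.2 h1) (fun z hz => ?_) y ?_)
  · rw [sub_mul, one_mul]; exact H.sub_mem (ht z hz) hz
  · rw [sub_mul, one_mul, sub_eq_add_neg, AddSubgroup.add_mem_iff_of_index_two h2, H.neg_mem_iff]
    exact iff_of_false (fun h => hy (aux h0 ht y h)) hy

theorem rad_unique {H : AddSubgroup F} (hH : H ≠ ⊤) {a a' : F} (h0 : a ≠ 0) (h0' : a' ≠ 0)
    (ha : ∀ c, c * T.θ a + a * T.θ c ∈ H) (ha' : ∀ c, c * T.θ a' + a' * T.θ c ∈ H) : a = a' := by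
  set L : F →+ F := AddMonoidHom.mk' (fun c => c * T.θ a' + a' * T.θ c) (fun c d => by
    rw [map_add]; ring)
  have hθ : T.θ a' ≠ 0 := (map_ne_zero T.θ).2 h0'
  have h1 : Nat.card L.ker ≤ 2 := by
    rw [← Set.ncard_pair h0', ← SetLike.coe_sort_coe, Nat.card_coe_set_eq]
    refine Set.ncard_le_ncard fun c hc => ?_
    by_cases hc0 : c = 0
    · exact Or.inr hc0
    have h2 : c * T.θ a' + a' * T.θ c = 0 := hc
    have h3 := T.eq_of_θ_eq (div_ne_zero hc0 h0') (by rw [map_div₀]; grind)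
    exact Or.inl (by grind)
  have h2 : L.range ≤ H := by rintro _ ⟨c, rfl⟩; exact ha' c
  have h3 : L.range.index = Nat.card L.ker := by
    refine Nat.eq_of_mul_eq_mul_right (Nat.card_pos (α := L.range)) ?_
    rw [AddSubgroup.index_mul_card, ← AddSubgroup.index_ker, mul_comm, AddSubgroup.index_mul_card]
  have h4 := AddSubgroup.relIndex_mul_index h2
  have h5 : H.index ≠ 1 := fun e => hH (AddSubgroup.index_eq_one.1 e)
  have h6 : H.index ≠ 0 := AddSubgroup.index_ne_zero_of_finite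
  have h7 : L.range.relIndex H ≠ 0 := AddSubgroup.index_ne_zero_of_finite
  have h8 : H.index = 2 ∧ L.range.relIndex H = 1 := by
    rw [h3] at h4
    obtain ⟨i, hi⟩ : ∃ i, H.index = i + 2 := ⟨H.index - 2, by omega⟩
    obtain ⟨j, hj⟩ : ∃ j, L.range.relIndex H = j + 1 := ⟨_, (Nat.succ_pred_eq_of_ne_zero h7).symm⟩
    rw [hi, hj] at h4 ⊢
    constructor <;> nlinarith
  have h9 := eq_one_of_mul_mem h8.1 (t := a / a' * T.θ (a / a'))
    (mul_ne_zero (div_ne_zero h0 h0') ((map_ne_zero T.θ).2 (div_ne_zero h0 h0'))) (by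
      intro y hy
      obtain ⟨c, rfl⟩ := AddSubgroup.relIndex_eq_one.1 h8.2 hy
      convert ha (a / a' * c) using 1
      change _ * (c * T.θ a' + a' * T.θ c) = _
      rw [map_mul, map_div₀]
      field_simp)
  have h10 := congrArg T.θ h9
  rw [map_mul, T.sq, map_one] at h10
  have h11 : a / a' = 1 := by grind
  exact (div_eq_one_iff_eq h0').1 h11

theorem rad {H R : Subgroup T.grp} (hH : H < T.Z) (hR : R ≤ T.Q)
    (h : ∀ u ∈ R, ∀ v ∈ T.Q, ⁅v, u⁆ ∈ H) : Nat.card R ≤ 2 * Nat.card F := by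
  classical
  set H' : AddSubgroup F :=
    { carrier := {b | T.x 0 b ∈ H}
      zero_mem' := by simp [x_zero]
      add_mem' := fun {a b} ha hb => by simpa [x_mul] using H.mul_mem ha hb
      neg_mem' := fun {a} ha => by rwa [CharTwo.neg_eq] }
  have h1 : H' ≠ ⊤ := fun e => hH.not_ge (by
    rintro _ ⟨b, rfl⟩; exact (e ▸ AddSubgroup.mem_top b : b ∈ H'))
  choose a b hab using fun u : R => hR u.2
  have h2 : ∀ u c, c * T.θ (a u) + a u * T.θ c ∈ H' := fun u c => by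
    have := h u u.2 _ ⟨c, 0, rfl⟩
    rwa [hab u, comm_x] at this
  have := Nat.card_le_card_of_injective (fun u : R => (decide (a u = 0), b u)) (by
    intro u v e
    obtain ⟨e1, e2⟩ := Prod.mk.inj e
    refine Subtype.ext ?_
    rw [hab u, hab v, e2]
    by_cases h3 : a u = 0
    · rw [h3, show a v = 0 by simpa [h3] using e1]
    · rw [T.rad_unique h1 h3 (by simpa [h3] using e1) (h2 u) (h2 v)])
  simpa using this

theorem szStr {m : ℕ} (hm : 1 ≤ m) (hq : Nat.card F = 2 ^ (2 * m + 1)) :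
    CT.SzStr m T.Z T.Q T.K T.B T.w where
  hm := hm
  ZQ := by rintro _ ⟨b, rfl⟩; exact ⟨0, b, rfl⟩
  QB := by rintro _ ⟨a, b, rfl⟩; simp [mem_B, mat_x, xM]
  KB := by rintro _ ⟨t, rfl⟩; simp [mem_B, mat_h, hM]
  cardZ := by
    rw [← hq]
    exact (Nat.card_congr (Equiv.ofBijective (fun b : F => (⟨T.x 0 b, b, rfl⟩ : T.Z))
      ⟨fun a b e => (T.x_inj (Subtype.mk.inj e)).2, by rintro ⟨_, b, rfl⟩; exact ⟨b, rfl⟩⟩)).symm
  cardQ := by
    rw [← hq, pow_two, ← Nat.card_prod]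
    exact (Nat.card_congr (Equiv.ofBijective (fun p : F × F => (⟨T.x p.1 p.2, _, _, rfl⟩ : T.Q))
      ⟨fun a b e => Prod.ext (T.x_inj (Subtype.mk.inj e)).1 (T.x_inj (Subtype.mk.inj e)).2,
      by rintro ⟨_, a, b, rfl⟩; exact ⟨(a, b), rfl⟩⟩)).symm
  cardK := by
    rw [← hq, K, ← Nat.card_congr (MonoidHom.ofInjective (f := MonoidHom.mk' T.h T.h_mul)
      fun s t e => Units.ext (congrFun (congrFun (congrArg mat e) 0) 0)).toEquiv, Nat.card_units,
      Nat.sub_add_cancel Nat.card_pos]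
  normQ := by
    rintro g hg _ ⟨a, b, rfl⟩
    obtain ⟨c, d, e, -⟩ := T.conj_x a b hg
    exact ⟨c, d, e⟩
  normZ := by
    rintro g hg _ ⟨b, rfl⟩
    obtain ⟨c, d, e, h⟩ := T.conj_x 0 b hg
    exact ⟨d, h rfl ▸ e⟩
  dec g hg := by
    obtain ⟨a, b, t, rfl⟩ := T.dec hg
    exact ⟨_, ⟨a, b, rfl⟩, _, ⟨t, rfl⟩, rfl⟩
  frob := by
    rintro _ ⟨t, rfl⟩ ht _ ⟨a, b, rfl⟩ e
    exact T.frob ht e
  ww := T.w_mul_w
  wk := by
    rintro _ ⟨t, rfl⟩
    rw [← map_inv]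
    exact T.w_h_w t
  bruhat g hg := T.bruhat hg
  wu := by rintro _ ⟨a, b, rfl⟩ e; exact T.wu e
  comm := by rintro _ ⟨a, b, rfl⟩ _ ⟨c, d, rfl⟩; exact ⟨_, T.comm_x a b c d⟩
  cent := by
    rintro _ ⟨b, rfl⟩ _ ⟨c, d, rfl⟩
    simp [x_mul, add_comm]
  rad H R hH hR h := hq ▸ T.rad hH hR h
  tor y hs hd := by
    classical
    rw [← hq] at hd
    have h2 : ¬ orderOf y ∣ 2 := fun e => by
      rw [(Nat.prime_dvd_prime_iff_eq hs Nat.prime_two).1 e, hq] at hd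
      have : 2 ∣ (2 ^ (2 * m + 1)) ^ 2 := (dvd_pow_self 2 (by omega)).pow two_ne_zero
      omega
    have h3 : ¬ orderOf y ∣ Nat.card F := fun e =>
      hs.one_lt.ne' (Nat.dvd_one.1 ((Nat.dvd_add_right (e.pow two_ne_zero)).1 hd))
    have h4 : ¬ orderOf y ∣ Nat.card F ^ 2 - 1 := fun e => h2 (by
      have := Nat.dvd_sub hd e
      rwa [show Nat.card F ^ 2 + 1 - (Nat.card F ^ 2 - 1) = 2 by
        have := Nat.one_le_pow 2 _ (Nat.card_pos (α := F)); omega] at this)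
    have h5 : ¬ orderOf y ∣ Nat.card F ^ 1 - 1 := fun e =>
      h4 (e.trans (Nat.pow_sub_one_dvd_pow_sub_one _ (by norm_num)))
    obtain ⟨h6, h7⟩ := commutant_of_prime (mat y) hs (by rw [← map_pow, pow_orderOf_eq_one, map_one])
      (fun e => hs.one_lt.ne' (orderOf_eq_one_iff.2 (mat_inj (e.trans (map_one _).symm)))) h3 (by
        intro d h0 h1 e
        rw [Fintype.card_fin] at h1
        interval_cases d
        · exact h5 e
        · exact h4 e
        · obtain ⟨k, hk⟩ : ∃ k, Nat.card F = k + 1 := ⟨_, (Nat.succ_pred_eq_of_pos Nat.card_pos).symm⟩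
          rw [hk] at h3 h5 e hd
          rw [show (k + 1) ^ 3 - 1 = k * ((k + 1) ^ 2 + 1) + k * (k + 1) from
            Nat.sub_eq_of_eq_add (by ring), Nat.dvd_add_right (hd.mul_left k), hs.dvd_mul] at e
          exact e.elim (fun e => h5 (by simpa using e)) h3)
    refine ⟨fun a b ha hb => mat_inj ?_, fun S hS => ?_⟩
    · rw [map_mul, map_mul]
      exact h6 _ _ (by rw [← map_mul, ha, map_mul]) (by rw [← map_mul, hb, map_mul])
    · have := h7 (S.image mat) (by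
        intro z' hz'
        obtain ⟨z, hz, rfl⟩ := Finset.mem_image.1 hz'
        obtain ⟨c, rfl⟩ := isConj_iff.1 (hS z hz).1
        refine ⟨?_, by rw [← map_mul, (hS _ hz).2, map_mul]⟩
        rw [map_mul, Matrix.charpoly_mul_comm, ← map_mul, ← mul_assoc, inv_mul_cancel, one_mul])
      rwa [Finset.card_image_of_injective _ mat_inj, Fintype.card_fin] at this

end Tits

end LG
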