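import Cfsg.Agent.Lib.Lin.Unitary

/-!
# Jordan's theorem: an abelian normal subgroup meeting every abelian subgroup in small index
-/

set_option autoImplicit false

namespace LG

open Cfsg CT

universe u

theorem exists_bound_lt {ι : Type*} [Fintype ι] (f : ι → ℝ) {c : ℝ} (hc : 0 < c)
    (h : ∀ i, f i < c) : ∃ r, 0 ≤ r ∧ r < c ∧ ∀ i, f i ≤ r := by
  classical
  obtain ⟨r, hr, hmax⟩ := (insert 0 (Finset.univ.image f)).exists_max_image id
    ⟨0, Finset.mem_insert_self _ _⟩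
  refine ⟨r, hmax 0 (Finset.mem_insert_self _ _), ?_, fun i =>
    hmax _ (Finset.mem_insert_of_mem (Finset.mem_image_of_mem f (Finset.mem_univ i)))⟩
  rcases Finset.mem_insert.1 hr with rfl | hr
  · exact hc
  · obtain ⟨i, -, rfl⟩ := Finset.mem_image.1 hr
    exact h i

theorem index_le_of_fibers {H : Type*} [Group H] (K : Subgroup H) {B : Type*} [Finite B]
    (F : H → B) (h : ∀ x y, F x = F y → x⁻¹ * y ∈ K) : K.index ≤ Nat.card B :=
  Nat.card_le_card_of_injective (fun q : H ⧸ K => F q.out) fun q q' e => by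
    rw [← q.out_eq', ← q'.out_eq']
    exact QuotientGroup.eq.2 (h _ _ e)

theorem jordan_exists_normal {G : Type u} [Group G] [Finite G] {χ : G → ℂ} (hχ : IsCharacter G χ)
    (hk : ker χ = ⊥) : ∃ A : Subgroup G, A.Normal ∧ (∀ x ∈ A, ∀ y ∈ A, x * y = y * x) ∧
      ∀ H : Subgroup G, (∀ x ∈ H, ∀ y ∈ H, x * y = y * x) →
        (A.subgroupOf H).index ≤ 12 ^ charDegree χ := by
  obtain ⟨V, _, _, _, σ, hσ, rfl⟩ := hχ.exists_unitary
  have hinj : Function.Injective σ := (injective_iff_map_eq_one σ).2 fun g hg =>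
    Subgroup.mem_bot.1 (hk ▸ (rep_mem_ker_iff σ g).2 hg)
  set c : ℝ := √3 / 2 with hc
  have hc2 : c ^ 2 = 3 / 4 := by rw [hc, div_pow, Real.sq_sqrt (by norm_num)]; norm_num
  have hc0 : 0 < c := by positivity
  have hc1 : 1 / 2 < c := by nlinarith
  have hc3 : c < 1 := by nlinarith
  let S : Set G := {g | ∃ r : ℝ, 0 ≤ r ∧ r < 1 / 2 ∧ ∀ v, ‖σ g v - (c : ℂ) • v‖ ≤ r * ‖v‖}
  have hS : Group.conjugatesOfSet S ⊆ S := fun y hy => by
    obtain ⟨x, ⟨r, h0, h1, h2⟩, hxy⟩ := Group.mem_conjugatesOfSet_iff.1 hy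
    obtain ⟨g, rfl⟩ := isConj_iff.1 hxy
    refine ⟨r, h0, h1, fun v => ?_⟩
    have := h2 (σ g⁻¹ v)
    rwa [hσ, ← hσ g, map_sub, map_smul, ← Module.End.mul_apply, ← Module.End.mul_apply,
      ← Module.End.mul_apply, ← map_mul, ← map_mul, ← map_mul, mul_inv_cancel, map_one] at this
  have hcomm : ∀ a ∈ S, ∀ b ∈ S, a * b = b * a := by
    rintro a ⟨r, h0, h1, h2⟩ b ⟨s, k0, k1, k2⟩
    refine hσ.commute_of_near hinj h0 h1 h2 (t := 1) zero_le_one (by norm_num) fun v => ?_
    have e : σ b v - v = (σ b v - (c : ℂ) • v) - ((1 - c : ℝ) : ℂ) • v := by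
      push_cast; rw [sub_smul, one_smul]; abel
    rw [e]
    refine (norm_sub_le _ _).trans ?_
    rw [norm_smul, Complex.norm_real, Real.norm_of_nonneg (by linarith)]
    nlinarith [k2 v, norm_nonneg v]
  have hA : IsMulCommutative (Subgroup.normalClosure S) :=
    Subgroup.isMulCommutative_closure fun a ha b hb => hcomm a (hS ha) b (hS hb)
  refine ⟨Subgroup.normalClosure S, inferInstance, fun x hx y hy => setLike_mul_comm hx hy,
    fun H hH => ?_⟩
  obtain ⟨lam, hlam, -⟩ := ((isCharacter_of_rep σ).res H).exists_sum_monoidHom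
    fun a b => Subtype.ext (hH a a.2 b b.2)
  obtain ⟨box, hbox⟩ := exists_arc_box (m := 12) (by norm_num)
  refine (index_le_of_fibers _ (fun h i => box (lam i h)) fun x y e => ?_).trans (by
    rw [Nat.card_fun, Nat.card_eq_fintype_card, Nat.card_eq_fintype_card, Fintype.card_fin,
      Fintype.card_fin]
    exact le_rfl)
  refine Subgroup.subset_normalClosure (?_ : ((x⁻¹ * y : H) : G) ∈ S)
  obtain ⟨r, h0, h1, h2⟩ := exists_bound_lt (fun i => ‖lam i (x⁻¹ * y) - c‖) (c := 1 / 2)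
    (by norm_num) fun i => by
      have h3 := hbox _ _ (monoidHom_norm_eq_one (lam i) y) (monoidHom_norm_eq_one (lam i) x)
        (congrFun e i).symm
      rw [show 2 * Real.pi / (12 : ℕ) = Real.pi / 6 by push_cast; ring, Real.cos_pi_div_six,
        ← hc, mul_comm] at h3
      have h4 : lam i (x⁻¹ * y) = (lam i x)⁻¹ * lam i y := by
        rw [map_mul, eq_inv_of_mul_eq_one_left
          (by rw [← map_mul, inv_mul_cancel, map_one] : lam i x⁻¹ * lam i x = 1)]
      have h5 := norm_sub_ofReal_sq (monoidHom_norm_eq_one (lam i) (x⁻¹ * y)) c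
      rw [← h4] at h3
      refine lt_of_pow_lt_pow_left₀ 2 (by norm_num) ?_
      nlinarith
  refine ⟨r, h0, h1, hσ.norm_sub_smul_le (δ := fun i => lam i (x⁻¹ * y)) (fun i h => ?_)
    (fun k _ => ?_) h0 h2⟩
  · have := monoidHom_norm_eq_one (lam i) (x⁻¹ * y)
    rw [h, norm_zero] at this
    exact zero_ne_one this
  · simp only [← map_pow]
    exact hlam ((x⁻¹ * y) ^ k)

end LG
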