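import Cfsg.Agent.Lib.Lin.Rational
import Cfsg.Agent.Lib.Lin.Jordan
import Cfsg.Agent.Lib.Char.Monomial
import Cfsg.Agent.Lib.Char.Det

/-!
# Blichfeldt's abelian Hall subgroup and the explicit Jordan bound
-/

set_option autoImplicit false

namespace LG

open Cfsg CT GT Subgroup
open scoped commutatorElement

universe u

variable {G : Type*} [Group G] [Finite G] {χ : G → ℂ}

theorem comm_of_forall_degree_one (hχ : IsCharacter G χ) (hk : ker χ = ⊥) {H : Subgroup G}
    (h : ∀ θ : IrrCharacter H, LiesOver H χ θ.1 → charDegree θ.1 = 1) :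
    ∀ x ∈ H, ∀ y ∈ H, x * y = y * x := fun x hx y hy => by
  have h1 : ⁅(⟨x, hx⟩ : H), (⟨y, hy⟩ : H)⁆ ∈ ker (res H χ) :=
    (hχ.res H).mem_ker_iff_forall_irr.2 fun θ hθ => (irr_commutator_le_ker_iff θ).2 (h θ hθ)
      (commutator_mem_commutator (mem_top _) (mem_top _))
  rw [hχ.ker_res, hk, bot_subgroupOf, mem_bot, commutatorElement_eq_one_iff_mul_comm] at h1
  exact congrArg Subtype.val h1

/-- A subgroup all of whose prime divisors exceed the degree is abelian. -/
theorem comm_of_large_primes (hχ : IsCharacter G χ) (hk : ker χ = ⊥) {H : Subgroup G}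
    (h : ∀ q : ℕ, q.Prime → q ∣ Nat.card H → charDegree χ < q) :
    ∀ x ∈ H, ∀ y ∈ H, x * y = y * x :=
  comm_of_forall_degree_one hχ hk fun θ hθ => by
    by_contra h1
    obtain ⟨q, hq, hd⟩ := Nat.exists_prime_and_dvd h1
    have := (Nat.le_of_dvd (irr_degree_pos θ) hd).trans (hθ.degree_le hχ)
    exact absurd (h q hq (hd.trans (irr_degree_dvd_card θ))) (not_lt.2 this)

theorem exists_multiplier {p : ℕ} (hp : p.Prime) (hχ : IsCharacter G χ) (hk : ker χ = ⊥)
    (hd : charDegree χ + 1 < p) (hpG : p ∣ Nat.card G) : ∃ (z : G) (j : ℕ), orderOf z = p ∧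
      j.Coprime (Nat.card G) ∧ χ (z ^ j) ≠ χ z ∧ ∀ g : G, ¬ p ∣ orderOf g → g ^ j = g := by
  have := Fact.mk hp
  obtain ⟨z, hz⟩ := exists_prime_orderOf_dvd_card' p hpG
  have hz1 : z ^ p ^ 1 = 1 := by rw [pow_one, ← hz, pow_orderOf_eq_one]
  obtain ⟨k, hk1, hk2⟩ : ∃ k : ℕ, k.Coprime p ∧ χ (z ^ k) ≠ χ z := by
    by_contra hn
    push Not at hn
    have := sub_one_le_of_rational hp hχ hz1 hn fun hm => by
      rw [hk, mem_bot] at hm
      rw [hm, orderOf_one] at hz
      exact hp.one_lt.ne hz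
    omega
  obtain ⟨j, h1, h2, h3⟩ := exists_coprime_card_modEq hp (Nat.card_pos (α := G)).ne' hk1
  refine ⟨z, j, hz, h1, by rwa [pow_eq_pow_of_modEq' (pow_ordProj_eq_one hp hz1) h2],
    fun g hg => ?_⟩
  rw [pow_eq_pow_of_modEq' (pow_ordCompl_eq_one hg) h3, pow_one]

/-- Brauer: a faithful irreducible character of small degree forces elements of order `p q`. -/
theorem exists_dvd_orderOf_pair {p q : ℕ} (hp : p.Prime) (hq : q.Prime) (ψ : IrrCharacter G)
    (hk : ker ψ.1 = ⊥) (hdp : charDegree ψ.1 + 1 < p) (hdq : charDegree ψ.1 + 1 < q)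
    (hpG : p ∣ Nat.card G) (hqG : q ∣ Nat.card G) : ∃ g : G, p ∣ orderOf g ∧ q ∣ orderOf g := by
  classical
  obtain ⟨z, j, -, hj, hz, hj'⟩ := exists_multiplier hp ψ.2.isCharacter hk hdp hpG
  obtain ⟨w, k, -, hk1, hw, hk'⟩ := exists_multiplier hq ψ.2.isCharacter hk hdq hqG
  by_contra hn
  push Not at hn
  have e : ψ.1 + (irrPow (hj.mul_left hk1) ψ).1 = (irrPow hj ψ).1 + (irrPow hk1 ψ).1 := by
    funext g
    simp only [Pi.add_apply, irrPow_val, powFun_apply]
    by_cases h : p ∣ orderOf g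
    · rw [mul_comm, pow_mul, hk' g (hn g h)]; ring
    · rw [pow_mul, hj' g h]
  have h1 := congrArg (fun f => ip f ψ.1) e
  have n1 : irrPow hj ψ ≠ ψ := fun h => hz (congrFun (congrArg Subtype.val h) z)
  have n2 : irrPow hk1 ψ ≠ ψ := fun h => hw (congrFun (congrArg Subtype.val h) w)
  simp only [ip_add_left, ip_irr_self, ip_irr_ne n1, ip_irr_ne n2] at h1
  rw [ip_irr] at h1
  split_ifs at h1 <;> norm_num at h1

/-- A central element of prime order `p` not dividing the degree can be factored out. -/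
theorem exists_irr_ker_isPGroup {p : ℕ} (hp : p.Prime) (ψ : IrrCharacter G) (hk : ker ψ.1 = ⊥)
    (hd : ¬ p ∣ charDegree ψ.1) {z : G} (hz : z ∈ Subgroup.center G) (ho : orderOf z = p) :
    ∃ φ : IrrCharacter G, charDegree φ.1 = charDegree ψ.1 ∧ z ∈ ker φ.1 ∧ IsPGroup p (ker φ.1) := by
  have hψ := ψ.2.isCharacter
  set N := Nat.card G with hN
  have hc : (p ^ (N.factorization p + 1)).Coprime (N / p ^ N.factorization p * charDegree ψ.1) :=
    (((Nat.coprime_ordCompl hp Nat.card_pos.ne').mul_right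
      ((Nat.Prime.coprime_iff_not_dvd hp).2 hd))).pow_left _
  obtain ⟨k, -, hk1⟩ := Nat.exists_mul_mod_eq_one_of_coprime hc.symm
    (Nat.one_lt_pow (Nat.succ_ne_zero _) hp.one_lt)
  set f : G →* ℂˣ := ((detHom ψ.1).toHomUnits ^ (N / p ^ N.factorization p * k))⁻¹ with hf
  have hfa : ∀ g, (f g : ℂ) = (detChar ψ.1 g ^ (N / p ^ N.factorization p * k))⁻¹ := fun g => by
    simp [hf]
  have hfp : ∀ g, f (g ^ p ^ N.factorization p) = 1 := fun g => Units.ext (by
    rw [hfa, ← detChar_pow, ← pow_mul, ← mul_assoc, Nat.ordProj_mul_ordCompl_eq_self, pow_mul,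
      pow_card_eq_one', one_pow, detChar_one, inv_one, Units.val_one])
  refine ⟨f • ψ, charDegree_lin_smul f ψ, ?_, fun g => ⟨N.factorization p, Subtype.ext ?_⟩⟩
  · obtain ⟨lam, h1, -⟩ := hψ.exists_monoidHom_of_le_center (center_le_irr_center ψ)
    have h2 : ψ.1 z = lam ⟨z, hz⟩ * ψ.1 1 := by simpa using h1 ⟨z, hz⟩ 1
    have h3 := hψ.detChar_of_apply_eq (monoidHom_norm_eq_one lam _) h2
    have h4 : lam ⟨z, hz⟩ ^ p ^ (N.factorization p + 1) = 1 := by
      rw [pow_succ', pow_mul, ← map_pow, show (⟨z, hz⟩ : Subgroup.center G) ^ p = 1 from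
        Subtype.ext (by rw [← ho]; exact pow_orderOf_eq_one z), map_one, one_pow]
    have h5 : lam ⟨z, hz⟩ ≠ 0 := ne_zero_of_pow_eq_one' (pow_ne_zero _ hp.ne_zero) h4
    rw [irr_mem_ker_iff, lin_smul_apply, lin_smul_apply, map_one, Units.val_one, one_mul, hfa, h3,
      ← pow_mul, show charDegree ψ.1 * (N / p ^ N.factorization p * k) =
        N / p ^ N.factorization p * charDegree ψ.1 * k by ring,
      ← Nat.div_add_mod (N / p ^ N.factorization p * charDegree ψ.1 * k)
        (p ^ (N.factorization p + 1)), hk1, pow_add, pow_mul, h4, one_pow, one_mul, pow_one, h2,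
      inv_mul_cancel_left₀ h5]
  · have h1 := (irr_mem_ker_iff _).1 ((ker (f • ψ).1).pow_mem g.2 (p ^ N.factorization p))
    rw [lin_smul_apply, lin_smul_apply, hfp, map_one, Units.val_one, one_mul, one_mul,
      ← irr_mem_ker_iff, hk, mem_bot] at h1
    exact h1

theorem exists_faithful_quotient {θ : G → ℂ} (hθ : IsCharacter G θ) (N : Subgroup G) [N.Normal]
    (hN : N = ker θ) : ∃ η : G ⧸ N → ℂ, IsCharacter (G ⧸ N) η ∧ ker η = ⊥ ∧
      θ = fun g : G => η (g : G ⧸ N) := by
  obtain ⟨η, h1, h2⟩ := exists_character_comp_mk_of_le_ker N hθ hN.le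
  refine ⟨η, h1, eq_bot_iff.2 fun x hx => ?_, h2⟩
  obtain ⟨g, rfl⟩ := QuotientGroup.mk'_surjective N x
  refine (QuotientGroup.eq_one_iff g).2 ?_
  rw [hN, h2]
  exact comap_ker_le_ker_comp (QuotientGroup.mk' N) η hx

theorem hall_large_aux (n : ℕ) (π : Set ℕ) (hπ : ∀ q ∈ π, n + 1 < q) (G : Type u) [Group G]
    [Finite G] : ∀ χ : G → ℂ, IsCharacter G χ → ker χ = ⊥ → charDegree χ ≤ n →
      ∃ H : Subgroup G, IsPiHall π H := by
  refine induction_on_card (P := fun G _ _ => ∀ χ : G → ℂ, IsCharacter G χ → ker χ = ⊥ →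
    charDegree χ ≤ n → ∃ H : Subgroup G, IsPiHall π H) (fun G _ _ ih χ hχ hk hn => ?_) G
  have hsub : ∀ M : Subgroup G, M ≠ ⊤ → ∃ H, IsPiHallOf π H M := fun M hM => by
    obtain ⟨H, hH⟩ := ih M (card_lt_of_ne_top hM) _ (hχ.res M)
      (by rw [hχ.ker_res, hk, bot_subgroupOf]) hn
    exact ⟨_, isPiHallOf_map_subtype_iff.2 hH⟩
  have hquo : ∀ φ : IrrCharacter G, charDegree φ.1 ≤ n → ker φ.1 ≠ ⊥ →
      ∃ K : Subgroup (G ⧸ ker φ.1), IsPiHall π K := fun φ hφ hne => by
    obtain ⟨η, h1, h2, h3⟩ := exists_faithful_quotient φ.2.isCharacter _ rfl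
    refine ih _ (card_quotient_lt hne) η h1 h2 ?_
    rwa [h3] at hφ
  by_contra hno
  push Not at hno
  obtain ⟨ψ, hψ, hψk⟩ : ∃ ψ : IrrCharacter G, ip χ ψ.1 ≠ 0 ∧ ker ψ.1 = ⊥ := by
    by_contra hn'
    push Not at hn'
    refine hno ⊤ (isPiHall_iff.2 ⟨fun q hq hd => ?_, index_top (G := G) ▸ isPiNat_one⟩)
    by_contra hqπ
    have := Fact.mk hq
    obtain ⟨x, hx⟩ := exists_prime_orderOf_dvd_card' q (card_top (G := G) ▸ hd : q ∣ Nat.card G)
    have hx1 : x ∈ ker χ := hχ.mem_ker_iff_forall_irr.2 fun ψ hψ => by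
      obtain ⟨K, hK⟩ := hquo ψ ((hχ.degree_le_of_ip_ne_zero ψ hψ).trans hn) (hn' ψ hψ)
      by_cases ht : K.comap (QuotientGroup.mk' (ker ψ.1)) = ⊤
      · have hKt : K = ⊤ := comap_injective (QuotientGroup.mk'_surjective _) (ht.trans (comap_top _).symm)
        refine mem_of_coprime_orderOf_index ?_
        rw [hx, hq.coprime_iff_not_dvd]
        intro hd'
        refine hqπ (isPiNat_card_of_isPiHall hK q hq ?_)
        rwa [hKt, card_top]
      · obtain ⟨H, hH⟩ := hsub _ ht
        exact absurd (isPiHall_of_isPiHallOf hH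
          (by rw [index_comap_mk']; exact isPiNat_index_of_isPiHall hK)) (hno H)
    rw [hk, mem_bot] at hx1
    rw [hx1, orderOf_one] at hx
    exact hq.one_lt.ne hx
  have hψn := (hχ.degree_le_of_ip_ne_zero ψ hψ).trans hn
  have hcomm : ∀ H : Subgroup G, IsPiNat π (Nat.card H) → ∀ x ∈ H, ∀ y ∈ H, x * y = y * x :=
    fun H hH => comm_of_large_primes hχ hk fun q hq hd => by have := hπ q (hH q hq hd); omega
  have hcen : ∀ y : G, (orderOf y).Prime → orderOf y ∈ π → centralizer ({y} : Set G) ≠ ⊤ := by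
    intro y hy hyπ ht
    have := Fact.mk hy
    obtain ⟨φ, h1, h2, h3⟩ := exists_irr_ker_isPGroup hy ψ hψk (fun hd => by
      have := Nat.le_of_dvd (irr_degree_pos ψ) hd
      have := hπ _ hyπ
      omega) (centralizer_eq_top_iff_subset.1 ht (Set.mem_singleton y)) rfl
    obtain ⟨K, hK⟩ := hquo φ (h1 ▸ hψn) fun hb => by
      rw [hb, mem_bot] at h2
      rw [h2, orderOf_one] at hy
      exact Nat.not_prime_one hy
    exact hno _ (isPiHall_comap hK (QuotientGroup.mk'_surjective _)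
      (by rw [QuotientGroup.ker_mk']; exact h3.isPiNat hyπ))
  obtain ⟨H, hH, hmax⟩ := Set.exists_max_image {H : Subgroup G | IsPiNat π (Nat.card H)}
    (fun H => Nat.card H) (Set.toFinite _) ⟨⊥, by rw [Set.mem_ofPred_eq, card_bot]; exact isPiNat_one⟩
  have hK : ∀ y ∈ H, (orderOf y).Prime → IsPiHallOf π H (centralizer {y}) := fun y hy hp => by
    obtain ⟨H', hH'⟩ := hsub _ (hcen y hp (hH _ hp (orderOf_dvd_natCard (⟨y, hy⟩ : H) |>
      (orderOf_mk y hy ▸ ·))))
    have hle : H ≤ centralizer {y} := fun x hx =>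
      mem_centralizer_singleton_iff.2 (hcomm H hH x hx y hy)
    have hc : Nat.card H = Nat.card H' := le_antisymm
      (Nat.le_of_dvd Nat.card_pos (card_dvd_card_of_isPiHallOf hH' hH hle))
      (hmax H' (isPiNat_card_of_isPiHallOf hH'))
    have hr : H.relIndex (centralizer {y}) = H'.relIndex (centralizer {y}) :=
      Nat.eq_of_mul_eq_mul_left (Nat.card_pos (α := H)) (by
        rw [card_mul_relIndex hle, hc, card_mul_relIndex (isPiHallOf_iff.1 hH').1])
    exact isPiHallOf_iff.2 ⟨hle, hH, hr ▸ isPiNat_relIndex_of_isPiHallOf hH'⟩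
  have hidx : ∀ p : ℕ, p.Prime → p ∣ Nat.card H → ¬ p ∣ H.index := fun p hp hd => by
    have := Fact.mk hp
    obtain ⟨y, hy⟩ := exists_prime_orderOf_dvd_card' p hd
    rw [← orderOf_coe] at hy
    have h1 := hK y y.2 (hy ▸ hp)
    obtain ⟨P, hP⟩ := (isPElt_of_orderOf_dvd (k := 1) (by rw [hy, pow_one]) :
      IsPElt p (y : G)).exists_mem_sylow
    have h2 : (P : Subgroup G) ≤ centralizer {(y : G)} := fun x hx =>
      mem_centralizer_singleton_iff.2 (hcomm P (P.isPGroup'.isPiNat (hH p hp hd)) x hx y hP)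
    rw [← relIndex_mul_index (isPiHallOf_iff.1 h1).1, hp.dvd_mul]
    rintro (h | h)
    · exact isPiNat_relIndex_of_isPiHallOf h1 p hp h (hH p hp hd)
    · exact not_dvd_index_of_sylow_le P h2 h
  refine hno H (isPiHall_iff.2 ⟨hH, isPiNat_compl_iff.2 fun r hr hrπ hd => ?_⟩)
  have hrH : ¬ r ∣ Nat.card H := fun h => hidx r hr h hd
  have hrG : r ∣ Nat.card G := hd.trans H.index_dvd_card
  have := Fact.mk hr
  obtain ⟨p, hp, hpH⟩ : ∃ p : ℕ, p.Prime ∧ p ∣ Nat.card H := by
    refine Nat.exists_prime_and_dvd fun h1 => ?_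
    obtain ⟨x, hx⟩ := exists_prime_orderOf_dvd_card' r hrG
    have := hmax (zpowers x) (by
      rw [Set.mem_ofPred_eq, Nat.card_zpowers, hx, ← pow_one r]; exact isPiNat_prime_pow hr hrπ 1)
    rw [Nat.card_zpowers, hx, h1] at this
    exact absurd hr.one_lt (not_lt.2 this)
  have := Fact.mk hp
  obtain ⟨g, hg1, hg2⟩ := exists_dvd_orderOf_pair hp hr ψ hψk
    (by have := hπ p (hH p hp hpH); omega) (by have := hπ r hrπ; omega)
    (hpH.trans H.card_subgroup_dvd_card) hrG
  have hx : orderOf (g ^ (orderOf g / p)) = p := orderOf_pow_orderOf_div (orderOf_pos g).ne' hg1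
  obtain ⟨P, hP⟩ := exists_sylow_le_of_not_dvd_index (hidx p hp hpH)
  obtain ⟨c, hc⟩ := (isPElt_of_orderOf_dvd (k := 1) (by rw [hx, pow_one]) :
    IsPElt p (g ^ (orderOf g / p))).exists_conj_mem_sylow P
  have h1 := hK _ (hP hc) (by rw [orderOf_conj', hx]; exact hp)
  have h2 : c * g * c⁻¹ ∈ centralizer {c * g ^ (orderOf g / p) * c⁻¹} := by
    rw [← conj_pow]
    exact mem_centralizer_singleton_iff.2 (Commute.self_pow _ _)
  have h3 := (orderOf_conj' g c ▸ hg2 : r ∣ orderOf (c * g * c⁻¹)).trans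
    (Subgroup.orderOf_dvd_natCard _ h2)
  rw [← card_mul_relIndex (isPiHallOf_iff.1 h1).1, hr.dvd_mul] at h3
  exact h3.elim hrH fun h => isPiNat_relIndex_of_isPiHallOf h1 r hr h hrπ

/-- Blichfeldt: a Hall subgroup for the primes exceeding `n + 1`. -/
theorem exists_hall_large (hχ : IsCharacter G χ) (hk : ker χ = ⊥) :
    ∃ A : Subgroup G, (∀ x ∈ A, ∀ y ∈ A, x * y = y * x) ∧
      (∀ q : ℕ, q.Prime → q ∣ Nat.card A → charDegree χ + 1 < q) ∧
      ∀ q : ℕ, q.Prime → q ∣ A.index → q ≤ charDegree χ + 1 := by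
  obtain ⟨H, hH⟩ := hall_large_aux (charDegree χ) {q | charDegree χ + 1 < q} (fun _ h => h) G χ hχ
    hk le_rfl
  exact ⟨H, comm_of_large_primes hχ hk fun q hq hd =>
    Nat.lt_of_succ_lt (isPiNat_card_of_isPiHall hH q hq hd), isPiNat_card_of_isPiHall hH,
    fun q hq hd => not_lt.1 (isPiNat_index_of_isPiHall hH q hq hd)⟩

theorem index_normalCore_dvd_factorial (K : Subgroup G) : K.normalCore.index ∣ K.index.factorial := by
  classical
  have := Fintype.ofFinite (G ⧸ K)
  rw [normalCore_eq_ker, index_ker, index_eq_card, Nat.card_eq_fintype_card (α := G ⧸ K),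
    ← Fintype.card_perm, ← Nat.card_eq_fintype_card]
  exact card_subgroup_dvd_card _

/-- In an M-group, a character of degree `n` is linear on a normal subgroup of index dividing
`n !`. -/
theorem exists_normal_index_dvd_factorial (hG : IsMGroup G) (n : ℕ) : ∀ χ : G → ℂ,
    IsCharacter G χ → charDegree χ = n →
      ∃ B : Subgroup G, B.Normal ∧ ⁅B, B⁆ ≤ ker χ ∧ B.index ∣ n.factorial := by
  induction n using Nat.strong_induction_on with
  | _ n ih =>
    intro χ hχ hn
    by_cases h0 : χ = 0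
    · exact ⟨⊤, inferInstance, fun x _ => by rw [h0]; exact fun _ => rfl, by simp⟩
    obtain ⟨ψ, hψ⟩ := hχ.exists_irr_ip_ne_zero h0
    have hd := hχ.degree_eq_sub_irr_add ψ hψ
    have hpos := irr_degree_pos ψ
    obtain ⟨B, hB, h1, h2⟩ := ih _ (by omega) _ (hχ.sub_irr ψ hψ) rfl
    obtain ⟨K, lam, hl, he⟩ := isMonomial_iff_degree_one.1 (hG ψ)
    have hKi : K.index = charDegree ψ.1 := by rw [← he, charDegree_ind lam.2.isCharacter, hl, mul_one]
    refine ⟨B ⊓ K.normalCore, inferInstance, ?_, ?_⟩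
    · have e : ker χ = ker (χ - ψ.1) ⊓ ker ψ.1 := by
        rw [← (hχ.sub_irr ψ hψ).ker_add ψ.2.isCharacter, sub_add_cancel]
      rw [e]
      refine le_inf ((commutator_mono inf_le_left inf_le_left).trans h1)
        ((commutator_mono inf_le_right inf_le_right).trans ?_)
      rw [← he]
      exact le_ker_ind_of_normal ((commutator_le_left _ _).trans K.normalCore_le)
        ((commutator_subgroupOf_le_commutator K.normalCore_le).trans
          ((irr_commutator_le_ker_iff lam).2 hl))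
    · rw [← hn, hd, ← relIndex_mul_index (inf_le_right : B ⊓ K.normalCore ≤ _), inf_relIndex_right]
      exact (mul_dvd_mul ((relIndex_dvd_index_of_normal B _).trans h2)
        (hKi ▸ index_normalCore_dvd_factorial K)).trans
        (Nat.factorial_mul_factorial_dvd_factorial_add _ _)

theorem ordProj_index_eq_relIndex {p : ℕ} [hp : Fact p.Prime] (A : Subgroup G) [A.Normal]
    (P : Sylow p G) : p ^ A.index.factorization p = A.relIndex P := by
  rw [← card_map_mk', ((isSylowIn_sylow P).map_top_of_surjective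
    (QuotientGroup.mk'_surjective A)).card_eq, card_top, index_eq_card]

/-- Jordan's theorem with the bound of Blichfeldt. -/
theorem jordan_bound (hχ : IsCharacter G χ) (hk : ker χ = ⊥) : ∃ A : Subgroup G, A.Normal ∧
    (∀ x ∈ A, ∀ y ∈ A, x * y = y * x) ∧ A.index ≤ (charDegree χ).factorial *
      12 ^ (charDegree χ * (Nat.primeCounting (charDegree χ + 1) + 1)) := by
  classical
  obtain ⟨A, hA, hA1, hA2⟩ := jordan_exists_normal hχ hk
  obtain ⟨H, hH1, hH2, hH3⟩ := exists_hall_large hχ hk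
  refine ⟨A, hA, hA1, ?_⟩
  set n := charDegree χ with hn
  have hsyl : ∀ p : ℕ, p.Prime → p ^ A.index.factorization p ≤
      p ^ n.factorial.factorization p * 12 ^ n := fun p hp => by
    have := Fact.mk hp
    obtain ⟨P⟩ := (inferInstance : Nonempty (Sylow p G))
    obtain ⟨B, -, h1, h2⟩ := exists_normal_index_dvd_factorial (isMGroup_of_isPGroup P.isPGroup') n
      _ (hχ.res P) rfl
    rw [hχ.ker_res, hk, bot_subgroupOf, le_bot_iff, commutator_eq_bot_iff_le_centralizer] at h1
    have h3 := hA2 (B.map (P : Subgroup G).subtype) (by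
      rintro _ ⟨x, hx, rfl⟩ _ ⟨y, hy, rfl⟩
      exact congrArg Subtype.val (h1 hy x hx))
    obtain ⟨k, hk'⟩ := P.isPGroup'.index B
    have h4 : B.index ≤ p ^ n.factorial.factorization p := by
      rw [hk'] at h2 ⊢
      exact Nat.pow_le_pow_right hp.pos
        ((hp.pow_dvd_iff_le_factorization n.factorial_ne_zero).1 h2)
    have h5 := relIndex_le_of_le_left (L := P) (inf_le_left : A ⊓ B.map (P : Subgroup G).subtype ≤ A)
      (relIndex_pos _ _).ne'
    rw [← relIndex_mul_relIndex _ _ _ inf_le_right (map_subtype_le B), inf_relIndex_right,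
      show (B.map (P : Subgroup G).subtype).relIndex P = B.index from
        congrArg index (comap_map_eq_self_of_injective (P : Subgroup G).subtype_injective B)] at h5
    rw [ordProj_index_eq_relIndex A P, mul_comm]
    exact h5.trans (Nat.mul_le_mul h3 h4)
  set m := (A ⊔ H).index with hm
  have hm0 : m ≠ 0 := index_ne_zero_of_finite
  have e1 : A.index = A.relIndex H * m := by
    rw [← relIndex_mul_index (le_sup_left : A ≤ A ⊔ H), relIndex_sup_left]
  have hmle : m ≤ ∏ p ∈ (n + 2).primesBelow, (p ^ n.factorial.factorization p * 12 ^ n) := by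
    rw [← Nat.prod_factorization_pow_eq_self hm0, Finsupp.prod]
    refine le_trans (Finset.prod_le_prod_of_subset_of_one_le' (t := (n + 2).primesBelow)
      (fun p hp => ?_) fun p hp _ => Nat.one_le_pow _ _ (Nat.prime_of_mem_primesBelow hp).pos)
      (Finset.prod_le_prod' fun p hp => ?_)
    · have hp' := Nat.prime_of_mem_primeFactors hp
      exact Nat.mem_primesBelow.2 ⟨Nat.lt_succ_of_le (hH3 p hp'
        ((Nat.dvd_of_mem_primeFactors hp).trans (index_dvd_of_le le_sup_right))), hp'⟩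
    · have hp' := Nat.prime_of_mem_primesBelow hp
      refine le_trans (Nat.pow_le_pow_right hp'.pos ?_) (hsyl p hp')
      exact (Nat.factorization_le_iff_dvd hm0 index_ne_zero_of_finite).2
        (index_dvd_of_le le_sup_left) p
  rw [Finset.prod_mul_distrib, Finset.prod_const, Nat.primesBelow_card_eq_primeCounting'] at hmle
  have hf : ∏ p ∈ (n + 2).primesBelow, p ^ n.factorial.factorization p ≤ n.factorial := by
    refine Nat.le_of_dvd n.factorial_pos (Finset.prod_dvd_of_isRelPrime (fun p hp q hq hne => ?_)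
      fun p _ => Nat.ordProj_dvd _ _)
    exact Nat.coprime_iff_isRelPrime.1 (Nat.coprime_pow_primes _ _
      (Nat.prime_of_mem_primesBelow hp) (Nat.prime_of_mem_primesBelow hq) hne)
  calc A.index = A.relIndex H * m := e1
    _ ≤ 12 ^ n * (n.factorial * (12 ^ n) ^ (n + 2).primeCounting') :=
      Nat.mul_le_mul (hA2 H hH1) (hmle.trans (Nat.mul_le_mul_right _ hf))
    _ = _ := by rw [Nat.primeCounting, mul_add, mul_one, pow_add, pow_mul]; ring

end LG
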