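import Cfsg.Agent.Lib.Block.OnePSL

/-!
# Modular representations of degree at most `(p - 1) / 2` with a Sylow subgroup of order `p`
-/

set_option autoImplicit false
set_option linter.unusedSectionVars false

namespace LG

open Cfsg CT GT BT Module Polynomial LinearMap

section JB
variable {k V : Type*} [Field k] [AddCommGroup V] [Module k V] [FiniteDimensional k V]

/-- `T` is a single nilpotent Jordan block with cyclic vector `v`. -/
structure JB (T : End k V) (v : V) : Prop where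
  nil : T ^ finrank k V = 0
  span : ⊤ ≤ Submodule.span k (Set.range fun i : Fin (finrank k V) => (T ^ (i : ℕ)) v)

namespace JB
variable {T : End k V} {v : V} (J : JB T v)
include J

theorem ext {f g : End k V} (h : ∀ i : ℕ, f ((T ^ i) v) = g ((T ^ i) v)) : f = g :=
  ext_on_range (top_le_iff.1 J.span) fun i => h i

theorem exists_aeval {c : End k V} (h : Commute T c) : ∃ q : k[X], c = aeval T q := by
  obtain ⟨a, ha⟩ := (Submodule.mem_span_range_iff_exists_fun k).1 (J.span (x := c v) trivial)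
  refine ⟨∑ i : Fin (finrank k V), monomial (i : ℕ) (a i), J.ext fun j => ?_⟩
  rw [← End.mul_apply, ← (h.pow_left j).eq, End.mul_apply, ← ha]
  simp [aeval_monomial, Algebra.algebraMap_eq_smul_one, ← End.mul_apply, Finset.sum_mul, ← pow_add,
    add_comm]

theorem exists_F : ∃ F : End k V, T * T * F - 2 • (T * F * T) + F * T * T = 2 • T ∧
    6 * trace k V (T * F) = -(finrank k V * (finrank k V ^ 2 - 1)) ∧
    ∀ q : k[X], trace k V (aeval T q * (T * F)) = q.coeff 0 * trace k V (T * F) := by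
  set l := finrank k V with hl
  let b := basisOfTopLeSpanOfCardEqFinrank _ J.span (Fintype.card_fin _)
  have hb : ∀ i, b i = (T ^ (i : ℕ)) v := fun i =>
    congrFun (coe_basisOfTopLeSpanOfCardEqFinrank _ J.span _) i
  have h0 : ∀ i, l ≤ i → (T ^ i) v = 0 := fun i hi => by rw [pow_eq_zero_of_le hi J.nil]; rfl
  let F := b.constr k fun i => ((i : ℕ) * ((i : ℕ) - l) : k) • (T ^ ((i : ℕ) - 1)) v
  have hF : ∀ i : ℕ, F ((T ^ i) v) = (i * (i - l) : k) • (T ^ (i - 1)) v := fun i => by
    rcases lt_trichotomy i l with h | rfl | h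
    · exact (congrArg F (hb ⟨i, h⟩).symm).trans (b.constr_basis k _ _)
    · simp [h0 l le_rfl]
    · simp [h0 i h.le, h0 (i - 1) (by omega)]
  have hT : ∀ i : ℕ, T ((T ^ i) v) = (T ^ (i + 1)) v := fun i => by rw [pow_succ']; rfl
  have hTF : ∀ i : ℕ, T (F ((T ^ i) v)) = (i * (i - l) : k) • (T ^ i) v := fun i => by
    rw [hF, map_smul, hT]
    rcases i with _ | i <;> simp
  refine ⟨F, J.ext fun i => ?_, ?_, fun q => ?_⟩
  · simp only [LinearMap.add_apply, LinearMap.sub_apply, LinearMap.smul_apply, End.mul_apply, hT, hTF, map_smul]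
    rw [hF, Nat.add_sub_cancel]
    push_cast
    module
  · have key : ∀ n : ℕ, 6 * ∑ i ∈ Finset.range n, (i * (i - l) : k) =
        (n - 1) * n * (2 * n - 1) - 3 * l * n * (n - 1) := fun n => by
      induction n with
      | zero => simp
      | succ n ih => rw [Finset.sum_range_succ, mul_add, ih]; push_cast; ring
    rw [trace_eq_matrix_trace k b, Matrix.trace, Finset.sum_congr rfl
      (g := fun i : Fin l => ((i : ℕ) * ((i : ℕ) - l) : k)) fun i _ => by
        rw [Matrix.diag, toMatrix_apply, End.mul_apply, hb, hTF, ← hb]; simp,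
      Fin.sum_univ_eq_sum_range (fun i => (i * (i - l) : k)), key]
    ring
  · induction q using Polynomial.induction_on' with
    | add p q hp hq => simp [add_mul, hp, hq]
    | monomial n a =>
      rcases n with _ | n
      · simp [Algebra.algebraMap_eq_smul_one]
      rw [aeval_monomial, Algebra.algebraMap_eq_smul_one, smul_mul_assoc, smul_mul_assoc, map_smul,
        coeff_monomial, if_neg n.succ_ne_zero, zero_mul, one_mul, trace_eq_matrix_trace k b,
        Matrix.trace, Finset.sum_eq_zero fun i _ => ?_, smul_zero]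
      rw [Matrix.diag, toMatrix_apply, End.mul_apply, End.mul_apply, hb, hTF, map_smul,
        ← End.mul_apply, ← pow_add]
      by_cases h : n + 1 + i < l
      · rw [← hb ⟨_, h⟩]
        simp [Finsupp.single_apply, Fin.ext_iff]
      · simp [h0 _ (not_lt.1 h)]

theorem commute_of_commute {w : k[X]} (hw : w.coeff 0 ≠ 0) {c : End k V}
    (h : Commute c (T * aeval T w)) : Commute c T := by
  let S := (Subalgebra.centralizer k {c}).comap (aeval T)
  have hS : ∀ q, q ∈ S ↔ Commute c (aeval T q) := fun q => by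
    simp [S, Subalgebra.mem_centralizer_iff, commute_iff_eq]
  have key : ∀ i s, s + i = finrank k V + 1 → 0 < s → ∀ q, X ^ s * q ∈ S := fun i => by
    induction i with
    | zero => intro s hs _ q; simp [hS, pow_eq_zero_of_le (show finrank k V ≤ s by omega) J.nil]
    | succ i ih =>
      intro s hs h0 q
      have h1 : (X * w) ^ s ∈ S := pow_mem ((hS _).2 (by simpa using h)) s
      have h2 := ih (s + 1) (by omega) (by omega)
      have h3 : X ^ s ∈ S := by
        have := S.smul_mem (sub_mem h1 (h2 (w ^ s).divX)) ((w ^ s).coeff 0)⁻¹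
        rwa [show (X * w) ^ s - X ^ (s + 1) * (w ^ s).divX = (w ^ s).coeff 0 • X ^ s by
          rw [smul_eq_C_mul]; linear_combination -X ^ s * X_mul_divX_add (w ^ s),
          inv_smul_smul₀ (by rw [coeff_zero_eq_eval_zero] at hw ⊢; simp [hw])] at this
      rw [← X_mul_divX_add q, mul_add, ← mul_assoc, ← pow_succ, mul_comm _ (C _), ← smul_eq_C_mul]
      exact add_mem (h2 _) (S.smul_mem h3 _)
  simpa [hS] using key (finrank k V) 1 (add_comm _ _) one_pos 1

end JB
end JB

theorem sum_eq_sum_fixedPoints {P Ω W : Type*} [Group P] [Fintype P] [MulAction P Ω] [Fintype Ω]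
    [AddCommMonoid W] (hP : (Nat.card P).Prime) (Φ : Ω → W) (h : ∀ q, ∑ t : P, Φ (t • q) = 0)
    [DecidablePred (· ∈ MulAction.fixedPoints P Ω)] :
    ∑ q, Φ q = ∑ q with q ∈ MulAction.fixedPoints P Ω, Φ q := by
  classical
  have := Fact.mk hP
  rw [← Finset.sum_filter_add_sum_filter_not _ (· ∈ MulAction.fixedPoints P Ω),
    ← Finset.sum_fiberwise (Finset.univ.filter fun q => ¬ q ∈ MulAction.fixedPoints P Ω)
      (Quotient.mk (MulAction.orbitRel P Ω)),
    Finset.sum_eq_zero (s := (Finset.univ : Finset (Quotient _))) fun ω _ => ?_, add_zero]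
  rcases Finset.eq_empty_or_nonempty (Finset.filter (fun q => Quotient.mk (MulAction.orbitRel P Ω) q = ω)
    (Finset.univ.filter fun q => ¬ q ∈ MulAction.fixedPoints P Ω)) with h1 | ⟨q, hq⟩
  · rw [h1, Finset.sum_empty]
  simp only [Finset.mem_filter, Finset.mem_univ, true_and] at hq
  obtain ⟨hq, rfl⟩ := hq
  have h1 := (MulAction.stabilizer P q).eq_bot_or_eq_top_of_prime_card.resolve_right
    fun h => hq fun t => h.ge (Subgroup.mem_top t)
  refine (Finset.sum_bij (fun t _ => t • q) (fun t _ => ?_) (fun s _ t _ h => ?_)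
    (fun x hx => ?_) fun _ _ => rfl).symm.trans (h q)
  · simp only [Finset.mem_filter, Finset.mem_univ, true_and]
    exact ⟨fun h => hq (by rwa [(inv_smul_smul t q).symm.trans (h t⁻¹)]), Quotient.sound ⟨t, rfl⟩⟩
  · exact (inv_mul_eq_one.1 (h1.le (show (t⁻¹ * s) • q = q by
      rw [mul_smul, h, inv_smul_smul]))).symm
  · obtain ⟨t, ht⟩ := Quotient.exact (Finset.mem_filter.1 hx).2
    exact ⟨t, Finset.mem_univ _, ht⟩

variable {p : ℕ} [hp : Fact p.Prime] {G : Type*} [Group G] [Finite G]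

theorem exists_transfer {A : Type*} [CommGroup A] [Fintype A] {ι : A →* G} (H : PrimeSyl p ι)
    (W : Type*) [AddCommMonoid W] : ∃ S S₀ : Finset G, ¬ p ∣ S₀.card ∧
      (∀ g ∈ S₀, g ∈ Subgroup.normalizer (ι.range : Set G)) ∧
      ∀ φ : G → W, (∀ g u, φ (g * ι u) = φ g) → (∀ h, ∑ g ∈ S, φ (h * g) = ∑ g ∈ S, φ g) ∧
        ((∀ g, ∑ u, φ (ι u * g) = 0) → ∑ g ∈ S, φ g = ∑ g ∈ S₀, φ g) := by
  classical
  have := Fintype.ofFinite (G ⧸ ι.range)
  have := Fintype.ofFinite ι.range
  have hi : ∀ s : Finset (G ⧸ ι.range), Set.InjOn Quotient.out (s : Set (G ⧸ ι.range)) :=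
    fun _ => Quotient.out_injective.injOn
  refine ⟨Finset.univ.image (Quotient.out : G ⧸ ι.range → G), (Finset.univ.filter
    (· ∈ MulAction.fixedPoints ι.range (G ⧸ ι.range))).image Quotient.out, fun h => ?_,
    fun g hg => ?_, fun φ hφ => ?_⟩
  · have h1 := H.syl.isPGroup.card_modEq_card_fixedPoints (G ⧸ ι.range)
    rw [Finset.card_image_of_injOn (hi _), ← Nat.subtype_card _ fun _ => Finset.mem_filter_univ _]
      at h
    exact H.syl.not_dvd (by rw [Subgroup.relIndex_top_right]; exact (h1.dvd_iff dvd_rfl).2 h)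
  · obtain ⟨q, hq, rfl⟩ := Finset.mem_image.1 hg
    exact Sylow.mem_fixedPoints_mul_left_cosets_iff_mem_normalizer.1
      (by rw [QuotientGroup.out_eq']; exact (Finset.mem_filter.1 hq).2)
  have h1 : ∀ h (q : G ⧸ ι.range), φ (h • q).out = φ (h * q.out) := fun h q => by
    obtain ⟨⟨_, u, rfl⟩, hu⟩ := QuotientGroup.mk_out_eq_mul ι.range (h * q.out)
    rw [← hφ (h * q.out) u, ← hu, ← smul_eq_mul, ← MulAction.Quotient.smul_coe,
      QuotientGroup.out_eq']
  simp only [Finset.sum_image (hi _)]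
  refine ⟨fun h => ?_, fun h => sum_eq_sum_fixedPoints (Ω := G ⧸ ι.range)
    (H.card_range.symm ▸ hp.out) _ fun q => ?_⟩
  · simp only [← h1]
    exact Equiv.sum_comp (MulAction.toPerm h) fun q : G ⧸ ι.range => φ q.out
  · rw [← h q.out, ← Equiv.sum_comp (MonoidHom.ofInjective H.inj).toEquiv]
    exact Finset.sum_congr rfl fun u _ => h1 (ι u) q

theorem sum_zmod_val {M : Type*} [AddCommMonoid M] (n : ℕ) [NeZero n] (f : ℕ → M) :
    ∑ t : ZMod n, f t.val = ∑ i ∈ Finset.range n, f i := by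
  obtain ⟨m, rfl⟩ := Nat.exists_eq_succ_of_ne_zero (NeZero.ne n)
  exact Fin.sum_univ_eq_sum_range f _

open Multiplicative

variable {k V : Type*} [Field k] [CharP k p] [IsAlgClosed k] [AddCommGroup V] [Module k V]
  [FiniteDimensional k V]

/-- The conjugation action on endomorphisms. -/
def ad (ρ : Representation k G V) : G →* End k (End k V) := ρ.linHom ρ

theorem ad_apply (ρ : Representation k G V) (g : G) (f : End k V) :
    ad ρ g f = ρ g * f * ρ g⁻¹ := rfl

theorem ad_mul (ρ : Representation k G V) (g : G) (f f' : End k V) :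
    ad ρ g (f * f') = ad ρ g f * ad ρ g f' := by
  simp only [ad_apply, mul_assoc, ← mul_assoc (ρ g⁻¹), ← map_mul, inv_mul_cancel, map_one, one_mul]

theorem trace_ad (ρ : Representation k G V) (g : G) (f : End k V) :
    trace k V (ad ρ g f) = trace k V f := by
  rw [ad_apply, trace_mul_cycle, ← map_mul, inv_mul_cancel, map_one, one_mul]

theorem ad_rep (ρ : Representation k G V) (g h : G) : ad ρ g (ρ h) = ρ (g * h * g⁻¹) := by
  rw [ad_apply, map_mul, map_mul]

theorem ad_eq_iff (ρ : Representation k G V) {g : G} {f : End k V} :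
    ad ρ g f = f ↔ Commute (ρ g) f :=
  ⟨fun h => by
    rw [commute_iff_eq, ← congrArg (· * ρ g) h, ad_apply, mul_assoc, ← map_mul, inv_mul_cancel,
      map_one, mul_one], fun h => by
    rw [ad_apply, h.eq, mul_assoc, ← map_mul, mul_inv_cancel, map_one, mul_one]⟩

theorem sub_one_pow_finrank (ρ : Representation k G V) {g : G} (hg : g ^ p = 1) :
    (ρ g - 1) ^ finrank k V = 0 := by
  have h : IsNilpotent (ρ g - 1) := ⟨p, by
    have := congrArg (aeval (ρ g)) (sub_pow_char (p := p) (X : k[X]) 1)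
    simp only [map_pow, map_sub, aeval_X, map_one, one_pow] at this
    rw [this, ← map_pow, hg, map_one, sub_self]⟩
  simpa [h.charpoly_eq_X_pow_finrank] using (ρ g - 1).aeval_self_charpoly

include hp in
theorem exists_inv {n : ℕ} (h : (n : k) ≠ 0) : ∃ m : ℕ, (m : k) * n = 1 :=
  ⟨n ^ (p - 2), mul_right_cancel₀ h (by
    rw [Nat.cast_pow, ← pow_succ, ← pow_succ, one_mul, Nat.sub_add_cancel hp.out.two_le]
    exact map_natCast (frobenius k p) n)⟩

/-- An absolutely irreducible representation of degree at most `(p - 1) / 2`. -/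
structure MS (ι : Multiplicative (ZMod p) →* G) (ρ : Representation k G V) : Prop where
  syl : PrimeSyl p ι
  schur : ∀ f : End k V, (∀ g, Commute (ρ g) f) → ∃ c : k, f = c • 1
  dim : 2 * finrank k V + 1 ≤ p
  ne : ρ (ι (ofAdd 1)) ≠ 1
  cen : cenReg p ι ≤ Subgroup.center G
  ker : ρ.ker ≤ Subgroup.centralizer (ι.range : Set G)

namespace MS
variable {ι : Multiplicative (ZMod p) →* G} {ρ : Representation k G V} (S : MS ι ρ)

local notation "x" => ι (ofAdd 1)
local notation "T" => ρ x - 1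
local notation "a" => ad ρ x - 1
local notation "N" => Subgroup.normalizer (MonoidHom.range ι : Set G)

theorem eq_pow (t : ZMod p) : ι (ofAdd t) = x ^ t.val := by
  rw [← map_pow, ← ofAdd_nsmul, nsmul_one, ZMod.natCast_zmod_val]

theorem pow_eq (u : Multiplicative (ZMod p)) : ι u ^ p = 1 := by
  rw [← map_pow, ← ofAdd_toAdd u, ← ofAdd_nsmul]; simp

theorem ad_of_fix {f : End k V} (h : ad ρ x f = f) (u : Multiplicative (ZMod p)) :
    ad ρ (ι u) f = f := by
  rw [← ofAdd_toAdd u, eq_pow, map_pow, End.pow_apply, Function.iterate_fixed h]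

include S

theorem norm_eq (f : End k V) : ∑ u, ad ρ (ι u) f = 0 := by
  have h1 : a ^ (p - 1) = 0 := by
    have h2 := commute_mulLeft_right (R := k) T (ρ x⁻¹)
    have h3 := commute_mulLeft_right (R := k) T (ρ x⁻¹ - 1)
    rw [show a = mulLeft k T * mulRight k (ρ x⁻¹) + mulRight k (ρ x⁻¹ - 1) from
      LinearMap.ext fun f => by simp [ad_apply, sub_mul, mul_sub, mul_assoc]]
    refine Commute.add_pow_eq_zero_of_add_le_succ_of_pow_eq_zero (h3.mul_left ?_)
      (m := finrank k V) (n := finrank k V) ?_ ?_ (by have := S.dim; omega)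
    · exact LinearMap.ext fun f => by simp [sub_mul, mul_sub]
    · rw [h2.mul_pow, pow_mulLeft, sub_one_pow_finrank ρ (pow_eq _)]; simp
    · rw [pow_mulRight, sub_one_pow_finrank ρ (by rw [inv_pow, pow_eq, inv_one])]; simp
  have h2 := congrArg (aeval (ad ρ x)) (cyclotomic_mul_prime_eq_pow_of_not_dvd k (p := p) (n := 1)
    (by simpa using hp.out.one_lt.ne'))
  rw [one_mul, cyclotomic_prime, cyclotomic_one] at h2
  simp only [map_sum, map_pow, aeval_X, map_sub, map_one, h1] at h2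
  rw [← LinearMap.sum_apply, ← Equiv.sum_comp ofAdd,
    Finset.sum_congr rfl fun t _ => by rw [eq_pow, map_pow],
    sum_zmod_val p fun i => ad ρ x ^ i, h2, LinearMap.zero_apply]

theorem natCast_ne {n : ℕ} (h0 : 0 < n) (h : n ≤ finrank k V + 1) : (n : k) ≠ 0 := fun h1 => by
  have := Nat.le_of_dvd h0 ((CharP.cast_eq_zero_iff k p n).1 h1)
  have := S.dim
  have := hp.out.two_le
  omega

theorem two_le : 2 ≤ finrank k V := by
  by_contra h
  exact S.ne (sub_eq_zero.1 ((pow_one _).symm.trans (pow_eq_zero_of_le (show _ ≤ 1 by omega)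
    (sub_one_pow_finrank ρ (pow_eq _)))))

theorem two_ne : (2 : k) ≠ 0 := by
  exact_mod_cast S.natCast_ne (n := 2) two_pos (by have := S.two_le; omega)

theorem exists_jb : ∃ v, JB T v := by
  have H := S.syl
  have hT := sub_one_pow_finrank ρ (pow_eq (ι := ι) (ofAdd 1))
  have : Nontrivial (End k V) := ⟨_, _, S.ne⟩
  obtain ⟨j, hj⟩ := Nat.exists_eq_succ_of_ne_zero (pos_nilpotencyClass_iff.2 ⟨_, hT⟩).ne'
  obtain ⟨h1, h2⟩ := nilpotencyClass_eq_succ_iff.1 hj
  have hj' : j < finrank k V := not_le.1 fun h => h2 (pow_eq_zero_of_le h hT)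
  obtain ⟨g, hg, h3, -, h4⟩ := H.exists_gen
  obtain ⟨μ, v, hv, h5⟩ : ∃ (μ : k) (v : V), ρ g v = μ • v ∧ (T ^ j) v ≠ 0 := by
    by_contra! h
    refine h2 (ker_eq_top.1 (top_le_iff.1 ((End.isSemisimple_of_squarefree_aeval_eq_zero
      (separable_X_pow_sub_C' p _ (1 : k) h3 one_ne_zero).squarefree (f := ρ g) (by
        rw [map_sub, map_pow, aeval_X, ← map_pow, pow_orderOf_eq_one]; simp)).iSup_eigenspace_eq_top.ge.trans (iSup_le fun μ v hv => ?_))))
    exact h μ v (End.mem_eigenspace_iff.1 hv)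
  refine ⟨v, hT, ?_⟩
  set W := Submodule.span k (Set.range fun i : Fin (finrank k V) => (T ^ (i : ℕ)) v)
  have hW : ∀ i : ℕ, (T ^ i) v ∈ W := fun i => by
    by_cases hi : i < finrank k V
    · exact Submodule.subset_span ⟨⟨i, hi⟩, rfl⟩
    · simp [pow_eq_zero_of_le (not_lt.1 hi) hT]
  have h6 : ∀ w ∈ W, T w ∈ W := fun w hw => (Submodule.span_le (p := W.comap T)).2 (by
    rintro _ ⟨i, rfl⟩
    have := hW (i + 1)
    rwa [pow_succ'] at this) hw
  have h7 : ∀ u, ∀ w ∈ W, ρ (ι u) w ∈ W := fun u w hw => by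
    rw [← ofAdd_toAdd u, eq_pow, map_pow]
    exact End.pow_apply_mem_of_forall_mem _ (fun w hw => by simpa using add_mem (h6 w hw) hw) w hw
  have h8 : ∀ w ∈ W, ρ g w ∈ W := fun w hw => (Submodule.span_le (p := W.comap (ρ g))).2 (by
    rintro _ ⟨i, rfl⟩
    have : SemiconjBy (ρ g) T (ρ (ι (conjA H.inj ⟨g, hg⟩ (ofAdd 1))) - 1) := by
      rw [conjA_spec, SemiconjBy, mul_sub, sub_mul, ← map_mul, ← map_mul]; simp
    change (ρ g * T ^ (i : ℕ)) v ∈ W
    rw [(this.pow_right i).eq, End.mul_apply, hv]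
    exact End.pow_apply_mem_of_forall_mem _ (fun w hw => sub_mem (h7 _ w hw) hw) _
      (W.smul_mem _ (by simpa using hW 0))) hw
  have h9 : ∀ n ∈ N, ∀ w ∈ W, ρ n w ∈ W := fun n hn w hw => by
    obtain ⟨i, c, hc, rfl⟩ := h4 n hn
    obtain ⟨u, y, hy, rfl⟩ := H.exists_eq_mul hc
    obtain ⟨c, hc⟩ := S.schur (ρ y) fun g => Commute.map (Subgroup.mem_center_iff.1 (S.cen hy) g) ρ
    rw [map_mul, map_mul, map_pow, hc]
    exact End.pow_apply_mem_of_forall_mem _ h8 _ (h7 _ _ (W.smul_mem _ hw))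
  obtain ⟨l, hl⟩ := Projective.exists_dual_eq_one k h5
  let f : End k V := ∑ i ∈ Finset.range (j + 1), T ^ i * l.smulRight v * T ^ (j - i)
  have hf : ad ρ x f = f := by
    have := congrArg (· (l.smulRight v)) ((commute_mulLeft_right (R := k) T T).mul_geom_sum₂ (j + 1))
    simp only [pow_mulLeft, pow_mulRight, h1, End.mul_apply, LinearMap.sub_apply, mulLeft_apply,
      mulRight_apply, LinearMap.sum_apply, Nat.add_sub_cancel, zero_mul, mul_zero, sub_self,
      ← mul_assoc, sub_eq_zero] at this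
    have := Commute.add_left this (Commute.one_left f)
    rw [sub_add_cancel] at this
    exact (ad_eq_iff ρ).2 this
  obtain ⟨S₁, S₀, e1, e2, e3⟩ := exists_transfer H (End k V)
  obtain ⟨e4, e5⟩ := e3 (fun g => ad ρ g f) fun g u => by rw [map_mul, End.mul_apply, ad_of_fix hf]
  obtain ⟨c, hc⟩ := S.schur (∑ g ∈ S₁, ad ρ g f) fun h => (ad_eq_iff ρ).1 (by
    simpa only [map_sum, map_mul, End.mul_apply] using e4 h)
  rw [e5 fun g => by simpa only [map_mul, End.mul_apply] using S.norm_eq _] at hc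
  have hc0 : c ≠ 0 := by
    rintro rfl
    have := congrArg (trace k V) hc
    simp only [map_sum, trace_ad, f, zero_smul, map_zero] at this
    rw [Finset.sum_congr (s₁ := Finset.range (j + 1)) rfl (g := fun _ => 1) fun i hi => by
      rw [trace_mul_cycle, ← pow_add, Nat.sub_add_cancel (Nat.lt_succ_iff.1 (Finset.mem_range.1 hi)),
        show T ^ j * l.smulRight v = l.smulRight ((T ^ j) v) from LinearMap.ext fun w => by simp,
        trace_smulRight, hl]] at this
    simp only [Finset.sum_const, Finset.card_range, nsmul_eq_mul, mul_one, mul_eq_zero] at this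
    exact this.elim (mt (CharP.cast_eq_zero_iff k p _).1 e1) (S.natCast_ne j.succ_pos (by omega))
  intro w _
  rw [← W.smul_mem_iff hc0, show c • w = (c • (1 : End k V)) w from rfl, ← hc, LinearMap.sum_apply]
  refine W.sum_mem fun n hn => h9 n (e2 n hn) _ ?_
  simp only [f, comp_apply, LinearMap.sum_apply, End.mul_apply, smulRight_apply, map_smul]
  exact W.sum_mem fun i _ => W.smul_mem _ (hW i)

theorem exists_AF : ∃ A F : End k V, ad ρ x A = A ∧ a (a F) = A ∧ trace k V (A * F) ≠ 0 ∧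
    trace k V A = 0 ∧ (∀ n ∈ N, ∃ c : ℕ, ad ρ n A = (c : k) • A) ∧
    (∀ c, Commute c A → Commute c (ρ x)) ∧
    ∀ c, ad ρ x c = c → trace k V c = 0 → trace k V (c * c) = 0 := by
  have H := S.syl
  obtain ⟨v, J⟩ := S.exists_jb
  obtain ⟨F, h1, h2, h3⟩ := J.exists_F
  have hl := S.two_le
  have h20 := S.two_ne
  have hnil : ∀ q : k[X], trace k V (T * aeval T q) = 0 := fun q =>
    (isNilpotent_trace_of_isNilpotent ((Commute.isNilpotent_mul_right (by
      simpa using (commute_X q).map (aeval T)) ⟨_, J.nil⟩))).eq_zero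
  let φ := ZMod.castHom (dvd_refl p) k
  have hφ : ∀ t : ZMod p, (t.val : k) = φ t := fun t => by
    rw [← map_natCast φ, ZMod.natCast_zmod_val]
  let α : k[X] := ∑ t : ZMod p, (φ t)⁻¹ • (X + 1) ^ t.val
  have hα : aeval T α = ∑ t : ZMod p, (φ t)⁻¹ • ρ (ι (ofAdd t)) := by
    simp only [α, map_sum, map_smul, map_pow, map_add, aeval_X, map_one, sub_add_cancel]
    exact Finset.sum_congr rfl fun t _ => by rw [eq_pow t, map_pow]
  have hα0 : α.coeff 0 = 0 := by
    have := Equiv.sum_comp (Equiv.neg _) fun t : ZMod p => (φ t)⁻¹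
    simp only [Equiv.neg_apply, map_neg, inv_neg, Finset.sum_neg_distrib] at this
    simp only [α, finsetSum_coeff, coeff_smul, coeff_X_add_one_pow, Nat.choose_zero_right,
      Nat.cast_one, smul_eq_mul, mul_one]
    exact mul_left_cancel₀ h20 (by linear_combination -this)
  have hα1 : α.divX.coeff 0 = -1 := by
    simp only [α, coeff_divX, finsetSum_coeff, coeff_smul, coeff_X_add_one_pow, zero_add,
      Nat.choose_one_right, smul_eq_mul, hφ]
    rw [Fintype.sum_eq_add_sum_subtype_ne _ 0, Finset.sum_congr rfl fun t _ =>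
      inv_mul_cancel₀ ((map_ne_zero φ).2 t.2)]
    simp [Nat.cast_sub hp.out.one_le]
  have hA : aeval T α = T * aeval T α.divX := by
    conv_lhs => rw [← X_mul_divX_add α]
    simp [hα0]
  have hq : ∀ q : k[X], ad ρ x (aeval T q) = aeval T q := fun q => (ad_eq_iff ρ).2 (by
    simpa using (Commute.all (X + 1) q).map (aeval T))
  have hU : ad ρ x (ρ x) = ρ x := (ad_eq_iff ρ).2 (Commute.refl _)
  refine ⟨aeval T α, aeval T (C 2⁻¹ * α.divX) * (F * ρ x * ρ x), hq _, ?_, ?_, hA ▸ hnil _,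
    fun n hn => ?_, fun c hc => ?_, fun c hc hc' => ?_⟩
  · have h4 : ∀ (q : k[X]) (m : End k V), a (aeval T q * m) = aeval T q * a m := fun q m => by
      simp only [LinearMap.sub_apply, End.one_apply, ad_mul, hq, mul_sub]
    have h5 : ∀ m : End k V, a (m * ρ x) = ρ x * m - m * ρ x := fun m => by
      simp only [LinearMap.sub_apply, End.one_apply, ad_apply, mul_assoc, ← map_mul,
        mul_inv_cancel, map_one, mul_one]
    rw [h4, h4, h5, ← mul_assoc, ← sub_mul, h5, hA, show ρ x * (ρ x * F - F * ρ x) -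
      (ρ x * F - F * ρ x) * ρ x = T * T * F - 2 • (T * F * T) + F * T * T by noncomm_ring, h1,
      ← Nat.cast_smul_eq_nsmul k]
    simpa [Algebra.algebraMap_eq_smul_one, smul_smul, h20] using
      ((commute_X α.divX).map (aeval T)).eq.symm
  · rw [← mul_assoc, mul_assoc F, ← mul_assoc, trace_mul_comm, show ρ x * ρ x *
      (aeval T α * aeval T (C 2⁻¹ * α.divX) * F) = aeval T ((X + 1) * (X + 1) * α.divX *
        (C 2⁻¹ * α.divX)) * (T * F) from ?_, h3]
    · simp only [mul_coeff_zero, hα1, coeff_add, coeff_X_zero, coeff_one_zero, coeff_C_zero]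
      refine mul_ne_zero (by simpa) fun h => ?_
      obtain ⟨m, hm⟩ : ∃ m, finrank k V = m + 1 := ⟨finrank k V - 1, by omega⟩
      refine mul_ne_zero (S.natCast_ne (n := m) (by omega) (by omega)) (mul_ne_zero
        (S.natCast_ne (n := m + 1) (by omega) (by omega))
        (S.natCast_ne (n := m + 2) (by omega) (by omega))) ?_
      rw [h, hm] at h2
      push_cast at h2 ⊢
      linear_combination h2
    · have := congrArg (aeval T) (show (X + 1) * (X + 1) * (X * α.divX * (C 2⁻¹ * α.divX)) =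
        (X + 1) * (X + 1) * α.divX * (C 2⁻¹ * α.divX) * X by ring)
      simp only [map_mul _ _ X, map_mul _ (_ * _) (_ * _ * _), map_mul _ (X + 1), map_mul _ (X * _),
        map_mul _ X, map_add, aeval_X, map_one, sub_add_cancel] at this
      rw [hA, ← mul_assoc, this, mul_assoc]
  · let c := toAdd (conjA H.inj ⟨n, hn⟩ (ofAdd 1))
    have hc : ∀ t, n * ι (ofAdd t) * n⁻¹ = ι (ofAdd (c * t)) := fun t => by
      rw [← conjA_spec H.inj ⟨n, hn⟩, ← ZMod.natCast_zmod_val t, ← nsmul_one, ofAdd_nsmul, map_pow,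
        mul_smul_comm, mul_one, ofAdd_nsmul]; rfl
    have hc0 : c ≠ 0 := fun h => S.ne (by
      have := hc 1
      rw [h, zero_mul, ofAdd_zero, map_one ι, conj_eq_one_iff] at this
      rw [this, map_one])
    refine ⟨c.val, ?_⟩
    rw [hα, map_sum, hφ, ← Equiv.sum_comp (Equiv.mulLeft₀ c hc0) fun t => (φ t)⁻¹ • ρ (ι (ofAdd t)),
      Finset.smul_sum]
    refine Finset.sum_congr rfl fun t _ => ?_
    rw [map_smul, ad_rep, hc, smul_smul]
    simp only [Equiv.mulLeft₀_apply, map_mul φ, mul_inv,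
      mul_inv_cancel_left₀ ((map_ne_zero φ).2 hc0)]
  · simpa using (J.commute_of_commute (w := α.divX) (by simp [hα1]) (hA ▸ hc)).add_right
      (Commute.one_right c)
  · obtain ⟨q, rfl⟩ := J.exists_aeval (((ad_eq_iff ρ).1 hc).sub_left (Commute.one_left c))
    rw [← X_mul_divX_add q] at hc' ⊢
    simp only [map_add, map_mul, aeval_X, hnil, aeval_C, Algebra.algebraMap_eq_smul_one, map_smul,
      trace_one, zero_add, smul_eq_mul, mul_eq_zero] at hc'
    rw [hc'.resolve_right (S.natCast_ne (by omega) (by omega)), C_0, add_zero, ← map_mul, mul_assoc,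
      map_mul, aeval_X, hnil]

theorem exists_X {A F : End k V} (h1 : ad ρ x A = A) (h2 : a (a F) = A)
    (h3 : trace k V (A * F) ≠ 0) (h4 : ∀ n ∈ N, ∃ c : ℕ, ad ρ n A = (c : k) • A)
    (h5 : ∀ m, trace k V (a (a (a m)) * F) = 0) : ∃ X : AddSubgroup (End k V), A ∈ X ∧
    (∀ g, ∀ m ∈ X, ad ρ g m ∈ X) ∧ ∀ m ∈ X, a m = 0 → ∃ c : ℕ, m = (c : k) • A := by
  obtain ⟨s, s1, s2⟩ : ∃ s : k →+ k, s 1 = 1 ∧ ∀ c, ∃ n : ℕ, s c = n := by
    let := ZMod.algebra k p
    obtain ⟨l, hl⟩ := Projective.exists_dual_eq_one (ZMod p) (one_ne_zero' k)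
    exact ⟨(algebraMap (ZMod p) k : ZMod p →+ k).comp l, by simp [hl], fun c => ⟨(l c).val, by
      rw [← map_natCast (algebraMap (ZMod p) k), ZMod.natCast_zmod_val]; rfl⟩⟩
  let l : End k V →+ k := s.comp ((trace k V (A * F))⁻¹ • trace k V ∘ₗ mulRight k F : End k V →ₗ[k] k)
  have hl : ∀ m, l m = s ((trace k V (A * F))⁻¹ * trace k V (m * F)) := fun m => rfl
  let π : End k V →+ End k V := ((smulAddHom k _).flip A).comp l + ((smulAddHom k _).flip (a F)).comp
    (l.comp (a : End k (End k V))) + ((smulAddHom k _).flip F).comp (l.comp (a * a : End k (End k V)))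
  have hπ : ∀ m, π m = l m • A + l (a m) • a F + l (a (a m)) • F := fun m => rfl
  have h6 : a A = 0 := sub_eq_zero.2 h1
  have h7 : ∀ m, π (ad ρ x m) = ad ρ x (π m) := fun m => by
    have : π (a m) = a (π m) := by
      rw [hπ, hπ, hl (a (a (a m))), h5]
      simp only [map_add, map_smul, h2, h6, mul_zero, map_zero, smul_zero, zero_smul, add_zero,
        zero_add]
    rwa [LinearMap.sub_apply, LinearMap.sub_apply, map_sub, End.one_apply, End.one_apply,
      sub_left_inj] at this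
  have h8 : ∀ u m, π (ad ρ (ι u) m) = ad ρ (ι u) (π m) := fun u m => by
    rw [← ofAdd_toAdd u, eq_pow, map_pow, End.pow_apply, End.pow_apply]
    exact (Function.Commute.iterate_right h7 _) m
  obtain ⟨S₁, S₀, e1, e2, e3⟩ := exists_transfer S.syl (End k V)
  have e4 := fun m => e3 (fun g => ad ρ g (π (ad ρ g⁻¹ m))) fun g u => by
    rw [mul_inv_rev, ← map_inv ι, map_mul, map_mul, End.mul_apply, End.mul_apply, h8,
      ← End.mul_apply (ad ρ (ι u)), ← map_mul, ← map_mul, mul_inv_cancel, map_one, map_one,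
      End.one_apply]
  have e5 : ∀ m, ad ρ x m = m → ∑ g ∈ S₁, ad ρ g (π (ad ρ g⁻¹ m)) =
      ∑ g ∈ S₀, l (ad ρ g⁻¹ m) • ad ρ g A := fun m hm => by
    rw [(e4 m).2 fun g => ?_]
    · refine Finset.sum_congr rfl fun g hg => ?_
      have : a (ad ρ g⁻¹ m) = 0 := by
        have := ad_of_fix hm (conjA S.syl.inj ⟨g, e2 g hg⟩ (ofAdd 1))
        rw [conjA_spec, map_mul, map_mul] at this
        rw [LinearMap.sub_apply, End.one_apply, sub_eq_zero]
        conv_rhs => rw [← this, ← End.mul_apply, ← mul_assoc, ← mul_assoc, ← map_mul, inv_mul_cancel,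
          map_one, one_mul, End.mul_apply]
      simp [hπ, this]
    · rw [← S.norm_eq (ad ρ g (π (ad ρ g⁻¹ m)))]
      refine Finset.sum_congr rfl fun u _ => ?_
      rw [mul_inv_rev, ← map_inv ι, map_mul, map_mul, End.mul_apply, End.mul_apply, ad_of_fix hm]
  have e6 : (S₀.card : k) ≠ 0 := mt (CharP.cast_eq_zero_iff k p _).1 e1
  obtain ⟨X, hX⟩ : ∃ X : AddSubgroup (End k V), ∀ m, m ∈ X ↔
      ∑ g ∈ S₁, ad ρ g (π (ad ρ g⁻¹ m)) = (S₀.card : k) • m :=
    ⟨AddMonoidHom.eqLocus (∑ g ∈ S₁, (ad ρ g : End k V →+ End k V).comp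
      (π.comp (ad ρ g⁻¹ : End k V →+ End k V))) (smulAddHom k _ (S₀.card : k)), fun m =>
      Iff.of_eq (congrArg (· = _) (AddMonoidHom.finsetSum_apply _ _ m))⟩
  refine ⟨X, ?_, fun h m hm => ?_, fun m hm hm' => ?_⟩ <;> rw [hX] at *
  · rw [e5 A h1, Nat.cast_smul_eq_nsmul, ← Finset.sum_const]
    refine Finset.sum_congr rfl fun g hg => ?_
    obtain ⟨c, hc⟩ := h4 g⁻¹ (inv_mem (e2 g hg))
    rw [hc, Nat.cast_smul_eq_nsmul, map_nsmul, hl, inv_mul_cancel₀ h3, s1, nsmul_one, ← map_smul,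
      ← hc, ← End.mul_apply, ← map_mul, mul_inv_cancel, map_one, End.one_apply]
  · rw [← (e4 _).1 h, ← map_smul, ← hm, map_sum]
    refine Finset.sum_congr rfl fun g _ => ?_
    rw [← End.mul_apply (ad ρ _⁻¹), ← map_mul, mul_inv_rev, inv_mul_cancel_right, map_mul,
      End.mul_apply]
  · rw [e5 m (sub_eq_zero.1 hm')] at hm
    obtain ⟨c, hc⟩ := exists_inv (p := p) e6
    choose! d hd using h4
    choose t ht using s2
    refine ⟨c * ∑ g ∈ S₀, t ((trace k V (A * F))⁻¹ * trace k V (ad ρ g⁻¹ m * F)) * d g,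
      (show m = (c : k) • (S₀.card : k) • m by rw [← mul_smul, hc, one_smul]).trans ?_⟩
    rw [← hm, Nat.cast_mul, mul_smul, Nat.cast_sum, Finset.sum_smul]
    exact congrArg _ (Finset.sum_congr rfl fun g hg => by
      rw [hd g (e2 g hg), hl, ht, Nat.cast_mul, mul_smul])

theorem index_le : Subgroup.index N ≤ p + 1 := by
  have H := S.syl
  obtain ⟨A, F, h1, h2, h3, h4, h5, h6, h7⟩ := S.exists_AF
  have hB : ∀ g m m', trace k V (ad ρ g m * ad ρ g m') = trace k V (m * m') := fun g m m' => by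
    rw [← ad_mul, trace_ad]
  have K : ∀ m m', trace k V (a m * a m') + trace k V (a m * m') + trace k V (m * a m') = 0 :=
    fun m m' => by
      simp only [LinearMap.sub_apply, End.one_apply, mul_sub, sub_mul, map_sub, hB]
      ring
  have hA : a A = 0 := sub_eq_zero.2 h1
  have K0 : ∀ m, trace k V (a m * A) = 0 := fun m => by simpa [hA] using K m A
  have K1 : ∀ m, trace k V (a m * a F) = -trace k V (m * A) := fun m => by
    have := K m (a F)
    rw [h2] at this
    linear_combination this - K0 m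
  have K3 : ∀ m, trace k V (a (a m) * F) = trace k V (m * A) := fun m => by
    linear_combination K (a m) F - K1 (a m) - K1 m + K0 m
  obtain ⟨X, e1, e2, e3⟩ := S.exists_X h1 h2 h3 h5 fun m => by rw [K3, K0]
  have e4 : ∀ m ∈ X, a m ∈ X := fun m hm => sub_mem (e2 _ m hm) hm
  have e5 : ∀ (c : ℕ), ∀ m ∈ X, (c : k) • m ∈ X := fun c m hm => by
    rw [Nat.cast_smul_eq_nsmul]; exact nsmul_mem hm c
  have e6 : ∀ m ∈ X, a (a (a m)) = 0 := fun m hm => by
    have : ∀ j : ℕ, ∀ m ∈ X, (a ^ j) (a (a (a m))) = 0 → a (a (a m)) = 0 := fun j => by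
      induction j with
      | zero => exact fun m _ h => h
      | succ j ih =>
        intro m hm h
        obtain ⟨c, hc⟩ := e3 _ (e4 _ (e4 _ (e4 _ hm))) (ih _ (e4 _ hm) h)
        have := K3 (a m)
        rw [K0, hc, smul_mul_assoc, map_smul, smul_eq_mul] at this
        rw [hc, (mul_eq_zero.1 this).resolve_right h3, zero_smul]
    exact this _ m hm (by rw [sub_one_pow_finrank (p := p) (ad ρ) (pow_eq _)]; rfl)
  have hx := H.dvd_orderOf (u := ofAdd 1) (by simp)
  have hxN : x ∈ N := Subgroup.le_normalizer ⟨_, rfl⟩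
  have e7 : ∀ h (c : k), ad ρ h A = c • A → h ∈ N := fun h c hc => by
    have f1 : Commute (ρ (h⁻¹ * x * h⁻¹⁻¹)) (ad ρ h⁻¹ A) := by
      rw [← ad_rep, commute_iff_eq, ← ad_mul, ← ad_mul, ((ad_eq_iff ρ).1 h1).eq]
    have f2 := f1.smul_right c
    rw [← map_smul, ← hc, ← End.mul_apply, ← map_mul, inv_mul_cancel, map_one (ad ρ)] at f2
    have f3 := S.ker (show h⁻¹ * x * h⁻¹⁻¹ * x * (h⁻¹ * x * h⁻¹⁻¹)⁻¹ * x⁻¹ ∈ _ by
      rw [MonoidHom.mem_ker, map_mul, map_mul, map_mul, (h6 _ f2).eq, mul_assoc (ρ x), ← map_mul,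
        mul_inv_cancel, map_one ρ, mul_one, ← map_mul, mul_inv_cancel, map_one ρ])
    have f4 := mul_mem (Subgroup.centralizer_le_normalizer _ f3) hxN
    rw [inv_mul_cancel_right] at f4
    exact inv_mem_iff.1 (H.mem_normalizer_of_conj hx hxN (H.mem_normalizer_of_conj hx hxN f4))
  have e8 : ∀ g ∉ N, ∃ c : ℕ, a (a ((c : k) • ad ρ g A)) = A := fun g hg => by
    have hb := e2 g A e1
    obtain ⟨z, hz⟩ := e3 _ (e4 _ (e4 _ hb)) (e6 _ hb)
    obtain ⟨c, hc⟩ := exists_inv (p := p) (k := k) (n := z) fun h => by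
      rw [h, zero_smul] at hz
      obtain ⟨y, hy⟩ := e3 _ (e4 _ hb) hz
      have f1 := h7 (ad ρ g A - (y : k) • a F) (sub_eq_zero.1 (show a _ = 0 by
        rw [map_sub, map_smul, h2, hy, sub_self])) (by simp [trace_ad, h4])
      have f2 := K (ad ρ g A) F
      have f3 := K3 (ad ρ g A)
      have f4 := K0 (a F)
      have f5 := K1 F
      rw [K1, hy] at f2
      rw [h2] at f4
      simp only [mul_sub, sub_mul, map_sub, hB, smul_mul_assoc, mul_smul_comm, map_smul,
        smul_eq_mul, hz, zero_mul, map_zero, trace_mul_comm k (a F) (ad ρ g A),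
        trace_mul_comm k F A] at f1 f2 f3 f5
      have : (y : k) ^ 2 * trace k V (A * F) = 0 := by
        linear_combination f1 - f4 + 2 * y * f2 - 2 * y * f3 - y ^ 2 * f5
      rw [pow_eq_zero_iff two_ne_zero |>.1 ((mul_eq_zero.1 this).resolve_right h3), zero_smul] at hy
      obtain ⟨c, hc⟩ := e3 _ hb hy
      exact hg (e7 g c hc)
    exact ⟨c, by rw [map_smul, map_smul, hz, smul_smul, hc, one_smul]⟩
  have e9 : ∀ g ∉ N, ∀ g₀ ∉ N, ∃ u, (ι u * g₀)⁻¹ * g ∈ N := fun g hg g₀ hg₀ => by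
    obtain ⟨c, hc⟩ := e8 g hg
    obtain ⟨c₀, hc₀⟩ := e8 g₀ hg₀
    have hb := e5 c _ (e2 g A e1)
    have hb₀ := e5 c₀ _ (e2 g₀ A e1)
    obtain ⟨y, hy⟩ := e3 _ (e4 _ (sub_mem hb hb₀)) (by rw [map_sub, map_sub, hc, hc₀, sub_self])
    have f1 : ∀ i : ℕ, a (ad ρ (x ^ i) ((c₀ : k) • ad ρ g₀ A)) =
        a ((c₀ : k) • ad ρ g₀ A) + (i : k) • A := fun i => by
      rw [← End.mul_apply, map_pow, ← (((Commute.refl _).sub_right (Commute.one_right _)).pow_left
        i).eq, End.mul_apply]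
      induction i with
      | zero => simp
      | succ i ih =>
        rw [pow_succ', End.mul_apply, ih, map_add, map_smul _ (i : k), h1,
          sub_eq_iff_eq_add.1 (show ad ρ x _ - a _ = A from hc₀), Nat.cast_succ, add_smul, one_smul]
        abel
    obtain ⟨w, hw⟩ := e3 _ (sub_mem hb (e2 (x ^ y) _ hb₀)) (by
      rw [map_sub, f1, ← hy, map_sub]; abel)
    have f2 := K3 (ad ρ (x ^ y) ((c₀ : k) • ad ρ g₀ A))
    rw [f1, map_add, hc₀, map_smul, hA, smul_zero, add_zero] at f2
    have f4 := K0 (a F)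
    rw [h2] at f4
    have f3 := congrArg (fun m => trace k V (m * m)) (sub_eq_iff_eq_add.1 hw)
    simp only [mul_add, add_mul, map_add, hB, smul_mul_assoc, mul_smul_comm, map_smul, f4,
      smul_eq_mul, mul_zero, trace_mul_comm k A (ad ρ _ _)] at f3 f2
    have f5 : (w : k) = 0 := (mul_eq_zero.1 (mul_left_cancel₀ S.two_ne
      (show 2 * (w * trace k V (A * F)) = 2 * 0 by linear_combination 2 * w * f2 - f3))).resolve_right h3
    rw [f5, zero_smul, sub_eq_zero] at hw
    obtain ⟨d, hd⟩ := exists_inv (p := p) (k := k) (n := c) fun h => h3 (by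
      rw [← hc, h, zero_smul, map_zero, map_zero, zero_mul, map_zero])
    refine ⟨ofAdd y, e7 _ (d * c₀) ?_⟩
    rw [← nsmul_one, ofAdd_nsmul, map_pow, map_mul, End.mul_apply, ← one_smul k (ad ρ g A), ← hd,
      mul_smul, hw, map_smul, mul_smul, map_smul, map_smul, ← End.mul_apply, ← End.mul_apply, mul_assoc,
      ← map_mul, ← map_mul, inv_mul_cancel, map_one (ad ρ), End.one_apply]
  by_cases h : ∀ g, g ∈ N
  · rw [(Subgroup.eq_top_iff' _).2 h, Subgroup.index_top]; omega
  obtain ⟨g₀, hg₀⟩ := not_forall.1 h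
  refine (Nat.card_le_card_of_surjective (fun o : Option (Multiplicative (ZMod p)) =>
    ((o.elim 1 fun u => ι u * g₀ : G) : G ⧸ N)) fun q => ?_).trans (by simp)
  obtain ⟨g, rfl⟩ := QuotientGroup.mk_surjective q
  by_cases hg : g ∈ N
  · exact ⟨none, QuotientGroup.eq.2 (by simpa)⟩
  · obtain ⟨u, hu⟩ := e9 g hg g₀ hg₀
    exact ⟨some u, QuotientGroup.eq.2 hu⟩

end MS

end LG
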