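import Cfsg.Agent.Lib.Char.SymSq
import Cfsg.Agent.Lib.Char.Induce

/-!
# Finite subgroups of `PGL₂(ℂ)`: counting poles
-/

set_option autoImplicit false

namespace LG

open Cfsg CT MulAction
open scoped ComplexConjugate LinearAlgebra.Projectivization

theorem ip_ne_zero_of_eigen {H V : Type*} [Group H] [Finite H] [AddCommGroup V] [Module ℂ V]
    [FiniteDimensional ℂ V] (ρ : Representation ℂ H V) (θ : H →* ℂ) {v : V} (hv : v ≠ 0)
    (h : ∀ g, ρ g v = θ g • v) : ip ρ.character (fun g => θ g) ≠ 0 := by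
  have := Fintype.ofFinite H
  let σ : Representation ℂ H V :=
    { toFun := fun g => conj (θ g) • ρ g
      map_one' := by simp
      map_mul' := fun a b => by simp [smul_smul, mul_comm] }
  have h1 : ip σ.character (fun _ => 1) ≠ 0 := (ip_character_one_ne_zero_iff σ).2 ⟨v, hv, fun g => by
    change conj (θ g) • ρ g v = v
    rw [h, smul_smul, ← monoidHom_apply_inv, ← map_mul, inv_mul_cancel, map_one, one_smul]⟩
  convert h1 using 1
  simp only [ip_def, map_one, mul_one]
  congr 1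
  refine Finset.sum_congr rfl fun g _ => ?_
  change _ = LinearMap.trace ℂ V (conj (θ g) • ρ g)
  rw [map_smul, smul_eq_mul, mul_comm]; rfl

theorem poles_arith {Ω : Type*} [Fintype Ω] (o n : Ω → ℕ) {N : ℕ} (hN : N ≠ 1)
    (h : ∀ ω, n ω * o ω = N) (hn : ∀ ω, 2 ≤ n ω) (ho : ∀ ω, 3 ≤ o ω)
    (hs : ∑ ω, o ω + 2 * N = Fintype.card Ω * N + 2) : N = 12 ∨ N = 24 ∨ N = 60 := by
  have hc : ∀ ω, 2 * o ω = N ∨ 3 * o ω = N ∨ 4 * o ω = N ∨ 5 * o ω = N ∨ 6 * o ω ≤ N := fun ω => by
    have h1 := h ω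
    have h2 := hn ω
    rcases (by omega : n ω = 2 ∨ n ω = 3 ∨ n ω = 4 ∨ n ω = 5 ∨ 6 ≤ n ω) with e | e | e | e | e
    iterate 4 rw [e] at h1; omega
    have := Nat.mul_le_mul_right (o ω) e
    omega
  have h1 : 2 * ∑ ω, o ω ≤ Fintype.card Ω * N := by
    rw [Finset.mul_sum, ← Finset.card_univ, ← smul_eq_mul]
    exact Finset.sum_le_card_nsmul _ _ _ fun ω _ => by have := hc ω; omega
  have h2 : Fintype.card Ω * 3 ≤ ∑ ω, o ω := by
    rw [← Finset.card_univ, ← smul_eq_mul]
    exact Finset.card_nsmul_le_sum _ _ _ fun ω _ => ho ω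
  rcases (by omega : Fintype.card Ω = 0 ∨ Fintype.card Ω = 1 ∨ Fintype.card Ω = 2 ∨
    Fintype.card Ω = 3 ∨ 4 ≤ Fintype.card Ω) with e | e | e | e | e
  iterate 3 rw [e] at h1 h2 hs; omega
  · let f := (Fintype.equivFinOfCardEq e).symm
    rw [← f.sum_comp, Fin.sum_univ_three, e] at hs
    have a0 := hc (f 0); have a1 := hc (f 1); have a2 := hc (f 2)
    have b0 := ho (f 0); have b1 := ho (f 1); have b2 := ho (f 2)
    omega
  · have := Nat.mul_le_mul_right N e
    omega

theorem poles_count' {G X : Type*} [Group G] [Finite G] [MulAction G X] [Finite X]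
    (Z : Subgroup G) (hZ : ∀ z ∈ Z, ∀ x : X, z • x = x)
    (h2 : ∀ g ∉ Z, Nat.card (fixedBy X g) = 2) (hx : ∀ x : X, ∃ g ∉ Z, g • x = x)
    (h3 : ∀ x : X, 3 ≤ (stabilizer G x).index) (hne : Z ≠ ⊤) :
    Z.index = 12 ∨ Z.index = 24 ∨ Z.index = 60 := by
  classical
  have := Fintype.ofFinite G
  have := Fintype.ofFinite X
  have := Fintype.ofFinite (Quotient (orbitRel G X))
  have hB := sum_card_fixedBy_eq_card_orbits_mul_card_group G X
  have hX : Fintype.card X = ∑ ω : Quotient (orbitRel G X), (stabilizer G ω.out).index := by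
    rw [Fintype.card_congr (selfEquivSigmaOrbitsQuotientStabilizer G X), Fintype.card_sigma]
    exact Finset.sum_congr rfl fun ω _ => by rw [Subgroup.index, Nat.card_eq_fintype_card]
  have hle : ∀ x : X, Z ≤ stabilizer G x := fun x z hz => hZ z hz x
  refine poles_arith (fun ω : Quotient (orbitRel G X) => (stabilizer G ω.out).index)
    (fun ω => Z.relIndex (stabilizer G ω.out)) (mt Subgroup.index_eq_one.1 hne)
    (fun ω => Subgroup.relIndex_mul_index (hle _)) (fun ω => ?_) (fun ω => h3 _) ?_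
  · obtain ⟨g, hg, hgx⟩ := hx ω.out
    have h0 : Z.relIndex (stabilizer G ω.out) ≠ 0 := Subgroup.index_ne_zero_of_finite
    have h1 : Z.relIndex (stabilizer G ω.out) ≠ 1 := fun h =>
      hg (Subgroup.relIndex_eq_one.1 h hgx)
    omega
  · have hs : ∑ g : G, Fintype.card (fixedBy X g) + 2 * Nat.card Z =
        Nat.card Z * Fintype.card X + 2 * Fintype.card G := by
      have e1 : ∀ g : G, Fintype.card (fixedBy X g) + (if g ∈ Z then 2 else 0) =
          (if g ∈ Z then Fintype.card X else 0) + 2 := fun g => by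
        split_ifs with hg
        · congr 1
          exact Fintype.card_congr (Equiv.subtypeUnivEquiv (hZ g hg))
        · rw [← Nat.card_eq_fintype_card, h2 g hg]
      have e2 := Finset.sum_congr (rfl : (Finset.univ : Finset G) = _) fun g _ => e1 g
      have e3 : (Finset.univ.filter (· ∈ Z)).card = Nat.card Z := by
        rw [Nat.card_eq_fintype_card, Fintype.card_subtype]
      simp only [Finset.sum_add_distrib, ← Finset.sum_filter, Finset.sum_const, e3, smul_eq_mul,
        Finset.card_univ] at e2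
      omega
    rw [hB, ← Nat.card_eq_fintype_card (α := G), ← Z.card_mul_index, hX] at hs
    refine Nat.eq_of_mul_eq_mul_left (Nat.card_pos (α := Z)) ?_
    linarith

theorem poles_count {G Y : Type*} [Group G] [Finite G] [MulAction G Y]
    (Z : Subgroup G) [hN : Z.Normal] (hZ : ∀ z ∈ Z, ∀ x : Y, z • x = x)
    (h2 : ∀ g ∉ Z, Nat.card (fixedBy Y g) = 2)
    (h3 : ∀ x : Y, 3 ≤ (stabilizer G x).index) (hne : Z ≠ ⊤) :
    Z.index = 12 ∨ Z.index = 24 ∨ Z.index = 60 := by
  let X : SubMulAction G Y :=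
    { carrier := {x | ∃ g ∉ Z, g • x = x}
      smul_mem' := fun a x ⟨g, hg, hx⟩ => ⟨a * g * a⁻¹,
        fun h => hg (by simpa [mul_assoc] using hN.conj_mem _ h a⁻¹), by simp [mul_smul, hx]⟩ }
  have : Finite X := by
    refine Set.Finite.subset (Set.finite_iUnion (ι := {g : G // g ∉ Z})
      (f := fun g => fixedBy Y g.1) fun g => ?_) fun x ⟨g, hg, hx⟩ => Set.mem_iUnion.2 ⟨⟨g, hg⟩, hx⟩
    exact Nat.finite_of_card_ne_zero (by rw [h2 g.1 g.2]; norm_num)
  refine poles_count' (X := X) Z (fun z hz x => Subtype.ext (hZ z hz x)) (fun g hg => ?_)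
    (fun ⟨x, g, hg, hx⟩ => ⟨g, hg, Subtype.ext hx⟩) (fun x => ?_) hne
  · rw [← h2 g hg]
    exact Nat.card_congr ⟨fun x => ⟨x.1.1, congrArg Subtype.val x.2⟩,
      fun y => ⟨⟨y.1, g, hg, y.2⟩, Subtype.ext y.2⟩, fun _ => rfl, fun _ => rfl⟩
  · rw [SubMulAction.stabilizer_of_subMul]
    exact h3 _

variable {G V : Type*} [Group G] [Finite G] [AddCommGroup V] [Module ℂ V] [FiniteDimensional ℂ V]
  [DistribMulAction G V] [SMulCommClass G ℂ V]

omit [Finite G] [FiniteDimensional ℂ V] in
theorem smul_mk_eq_iff (g : G) {v : V} (hv : v ≠ 0) :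
    g • Projectivization.mk ℂ v hv = Projectivization.mk ℂ v hv ↔ ∃ c : ℂ, g • v = c • v := by
  rw [Projectivization.smul_mk, Projectivization.mk_eq_mk_iff']
  exact exists_congr fun c => eq_comm

theorem card_fixedBy_proj (ρ : Representation ℂ G V) (hρ : ∀ g v, g • v = ρ g v)
    (hV : Module.finrank ℂ V = 2) {g : G} (hg : ∀ c : ℂ, ρ g ≠ c • 1) :
    Nat.card (fixedBy (ℙ ℂ V) g) = 2 := by
  obtain ⟨b, ε, -, hb⟩ := exists_eigenbasis (ρ g) (orderOf_pos g).ne'
    (by rw [← map_pow, pow_orderOf_eq_one, map_one])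
  let b' := b.reindex (finCongr hV)
  let ε' : Fin 2 → ℂ := fun i => ε ((finCongr hV).symm i)
  have hb' : ∀ i, ρ g (b' i) = ε' i • b' i := fun i => by simp only [b', ε', b.reindex_apply, hb]
  have hne : ε' 0 ≠ ε' 1 := fun h => hg (ε' 0) (b'.ext fun i => by
    fin_cases i <;> simp [hb', h])
  have : fixedBy (ℙ ℂ V) g = {Projectivization.mk ℂ (b' 0) (b'.ne_zero 0),
      Projectivization.mk ℂ (b' 1) (b'.ne_zero 1)} := by
    ext x
    induction x using Projectivization.ind with | h v hv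
    rw [mem_fixedBy, smul_mk_eq_iff, Set.mem_insert_iff, Set.mem_singleton_iff,
      Projectivization.mk_eq_mk_iff', Projectivization.mk_eq_mk_iff', hρ]
    constructor
    · rintro ⟨c, hc⟩
      have hv' := b'.sum_repr v
      rw [Fin.sum_univ_two] at hv'
      have key : ∀ i, (ε' i - c) * b'.repr v i = 0 := fun i => by
        have := congrArg (fun w => b'.repr w i) hc
        rw [← hv'] at this
        fin_cases i <;> simp [hb', smul_smul] at this ⊢ <;> grind
      by_cases h0 : ε' 0 = c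
      · have := (mul_eq_zero.1 (key 1)).resolve_left (sub_ne_zero.2 (h0 ▸ hne.symm))
        exact Or.inl ⟨_, by rwa [this, zero_smul, add_zero] at hv'⟩
      · have := (mul_eq_zero.1 (key 0)).resolve_left (sub_ne_zero.2 h0)
        exact Or.inr ⟨_, by rwa [this, zero_smul, zero_add] at hv'⟩
    · rintro (⟨c, rfl⟩ | ⟨c, rfl⟩) <;> exact ⟨_, by rw [map_smul, hb', smul_comm]⟩
  rw [this, Nat.card_coe_set_eq, Set.ncard_pair]
  rw [Ne, Projectivization.mk_eq_mk_iff']
  rintro ⟨c, hc⟩
  have := congrArg (fun w => b'.repr w 0) hc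
  simp at this

/-- The stabilizer of a line carries a linear constituent of the restriction. -/
theorem exists_liesOver_stabilizer (ρ : Representation ℂ G V) (hρ : ∀ g v, g • v = ρ g v)
    (x : ℙ ℂ V) : ∃ θ : stabilizer G x →* ℂ, LiesOver _ ρ.character fun g => θ g := by
  induction x using Projectivization.ind with | h v hv
  have h : ∀ g : stabilizer G (Projectivization.mk ℂ v hv), ∃ c : ℂ, ρ g v = c • v := fun g => by
    rw [← hρ]; exact (smul_mk_eq_iff _ hv).1 g.2
  choose c hc using h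
  refine ⟨⟨⟨c, smul_left_injective ℂ hv ?_⟩, fun a b => smul_left_injective ℂ hv ?_⟩,
    ip_ne_zero_of_eigen (ρ.comp (Subgroup.subtype _)) _ hv hc⟩
  · simp [← hc]
  · simp only [← hc, mul_comm (c a), mul_smul, ← map_smul, Subgroup.coe_mul, map_mul,
      Module.End.mul_apply]

end LG
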