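import Cfsg.Agent.Lib.Lin.ZsHalf
import Cfsg.Agent.Lib.Grp.TwoOrb
import Cfsg.Agent.Lib.Grp.ZsigSmall2
import Mathlib.Analysis.Fourier.FiniteAbelian.PontryaginDuality

/-!
# Linear `p'`-groups with two orbits on the nonzero vectors: orbit lengths
-/

set_option autoImplicit false
set_option linter.unusedSectionVars false
set_option linter.style.haveILetI false

namespace LG

open Cfsg CT GT BT Subgroup Module MulAction
open scoped commutatorElement

variable {p : ℕ} [hp : Fact p.Prime] {K : Type*} [Group K] [Finite K]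
variable {V : Type*} [AddCommGroup V] [Module (ZMod p) V] [Module.Finite (ZMod p) V]

theorem srg_param {a b s t : ℤ} (ha : a ≠ 0) (hb : b ≠ 0) (h1 : a + a * s + b * t = 0)
    (h2 : a ^ 2 + a * s ^ 2 + b * t ^ 2 = (1 + a + b) * a) : (s - t) ^ 2 = 1 + a + b := by
  have h3 : b * s ^ 2 + a * (1 + s) ^ 2 = b * (b + 1) :=
    mul_left_cancel₀ ha (by linear_combination b * h2 - (b * t - a - a * s) * h1)
  exact mul_left_cancel₀ (pow_ne_zero 2 hb)
    (by linear_combination (a + b) * h3 - (2 * (a + b) * s + 2 * a - (a + a * s + b * t)) * h1)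

theorem srg_dvd {a b n : ℕ} {s t : ℤ} (ha : a ≠ 0) (hb : b ≠ 0) (hn : p ^ n = 1 + a + b)
    (h1 : a + a * s + b * t = 0)
    (h2 : (a : ℤ) ^ 2 + a * s ^ 2 + b * t ^ 2 = (1 + a + b) * a) :
    ∃ m, n = 2 * m ∧ (p ^ m - 1 ∣ a ∨ p ^ m + 1 ∣ a) := by
  have h3 := srg_param (Nat.cast_ne_zero.2 ha) (Nat.cast_ne_zero.2 hb) h1 h2
  have h4 : (s - t).natAbs ^ 2 = p ^ n := by
    rw [hn]
    zify
    rw [sq_abs, h3]
  obtain ⟨m, -, hm⟩ := (Nat.dvd_prime_pow hp.out).1 (h4 ▸ dvd_pow_self (s - t).natAbs two_ne_zero)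
  rw [hm, ← pow_mul] at h4
  obtain rfl := Nat.pow_right_injective hp.out.two_le h4
  refine ⟨m, mul_comm _ _, ?_⟩
  have h5 : 1 < p ^ m := by
    rw [pow_mul] at hn
    by_contra h
    have : p ^ m = 1 := le_antisymm (not_lt.1 h) (Nat.one_le_pow _ _ hp.out.pos)
    rw [this] at hn
    omega
  generalize p ^ m = q at *
  have h6 : (1 : ℤ) < q := by exact_mod_cast h5
  rcases Int.natAbs_eq_iff.1 hm with h | h
  · refine Or.inl (Int.natCast_dvd_natCast.1 ⟨q - s, mul_left_cancel₀ (a := (q : ℤ) + 1)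
      (by omega) ?_⟩)
    rw [Nat.cast_sub h5.le]
    rw [h] at h3
    push_cast
    linear_combination h1 + b * h + (s - q) * h3
  · refine Or.inr (Int.natCast_dvd_natCast.1 ⟨q + s, mul_left_cancel₀ (a := (q : ℤ) - 1)
      (by omega) ?_⟩)
    rw [h] at h3
    push_cast
    linear_combination -h1 - b * h - (s + q) * h3

/-- The action on additive characters. -/
@[reducible] noncomputable def dualAct (ρ : Representation (ZMod p) K V) :
    MulAction K (AddChar V ℂ) where
  smul g ψ := ψ.compAddMonoidHom (ρ g⁻¹).toAddMonoidHom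
  one_smul ψ := AddChar.ext _ _ fun v => by
    change ψ (ρ 1⁻¹ v) = _
    simp
  mul_smul g h ψ := AddChar.ext _ _ fun v => by
    change ψ (ρ (g * h)⁻¹ v) = ψ (ρ h⁻¹ (ρ g⁻¹ v))
    simp

/-- A `p'`-group acting faithfully with two orbits on the nonzero vectors. -/
structure R3 (ρ : Representation (ZMod p) K V) [MulAction K V] (v₁ v₂ : V) : Prop
    extends TwoOrb K (0 : V) v₁ v₂ where
  smul : ∀ (g : K) (v : V), g • v = ρ g v
  inj : Function.Injective ρ
  cop : ¬ p ∣ Nat.card K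

namespace R3

variable {ρ : Representation (ZMod p) K V} [MulAction K V] {v₁ v₂ : V} (T : R3 ρ v₁ v₂)
include T

theorem symm : R3 ρ v₂ v₁ := ⟨T.toTwoOrb.symm, T.smul, T.inj, T.cop⟩

theorem pow_eq : p ^ finrank (ZMod p) V =
    1 + (stabilizer K v₁).index + (stabilizer K v₂).index := by
  haveI : Finite V := Module.finite_of_finite (ZMod p)
  rw [← T.card_eq, Module.natCard_eq_pow_finrank (K := ZMod p), Nat.card_zmod]

theorem eq_bot_of_normal {N : Subgroup K} [hN : N.Normal] {v : V} (hv : v ≠ 0)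
    (h : ∀ g ∈ N, ρ g v = v) : N = ⊥ := by
  let A : Subrepresentation ρ := ⟨Representation.invariants (ρ.comp N.subtype),
    fun g w hw => invariants_apply_mem ρ _ g hw⟩
  obtain ⟨B, hAB⟩ := exists_isCompl_subrep T.cop A
  have hA : v ∈ A.toSubmodule := fun g => h g g.2
  by_contra h0
  obtain ⟨w, hw, hw0⟩ := (Submodule.ne_bot_iff B.toSubmodule).1 fun e =>
    h0 (eq_bot_iff.2 fun g hg => T.inj (by
      rw [map_one]
      refine end_ext_of_isCompl hAB (fun w hw => hw ⟨g, hg⟩) fun w hw => ?_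
      rw [e, Submodule.mem_bot] at hw
      simp [hw]))
  have h1 := Submodule.disjoint_def.1 hAB.disjoint
  have key : ∀ (C : Subrepresentation ρ) {x y : V}, x ∈ C.toSubmodule → y ∈ orbit K x →
      y ∈ C.toSubmodule := by
    rintro C x _ hx ⟨g, rfl⟩
    simpa only [T.smul] using C.apply_mem_toSubmodule g hx
  have h2 : v + w ≠ 0 := fun e => hw0 (h1 w (by
    rw [← neg_eq_iff_add_eq_zero] at e
    exact e ▸ neg_mem hA) hw)
  rcases T.three hv hw0 h2 with h3 | h3 | h3
  · exact hw0 (h1 w (key A hA h3) hw)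
  · exact hw0 (h1 w ((Submodule.add_mem_iff_right _ hA).1 (key A hA h3)) hw)
  · exact hv (h1 v hA ((Submodule.add_mem_iff_left _ hw).1 (key B hw h3)))

theorem exists_irr : ∃ χ : IrrCharacter K, ker χ.1 = ⊥ ∧ charDegree χ.1 ≤ finrank (ZMod p) V := by
  haveI := nontrivial_of_ne _ _ T.ne₁
  obtain ⟨χ, h1, v, hv, h2⟩ := exists_irr_fix ρ T.cop
  exact ⟨χ, T.eq_bot_of_normal hv h2, h1⟩

theorem exists_irr_half {z : K} (hz : z ∈ center K) (h : ∀ c : ZMod p, ρ z ≠ c • 1) :
    ∃ χ : IrrCharacter K, ker χ.1 = ⊥ ∧ 2 * charDegree χ.1 ≤ finrank (ZMod p) V := by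
  haveI := nontrivial_of_ne _ _ T.ne₁
  obtain ⟨χ, h1, v, hv, h2⟩ := exists_irr_of_not_scalar ρ T.cop hz h
  exact ⟨χ, T.eq_bot_of_normal hv h2, h1⟩

theorem le_two_mul : p ^ finrank (ZMod p) V ≤ 2 * Nat.card K + 1 := by
  have h1 := Nat.le_of_dvd Nat.card_pos (stabilizer K v₁).index_dvd_card
  have h2 := Nat.le_of_dvd Nat.card_pos (stabilizer K v₂).index_dvd_card
  have := T.pow_eq
  omega

theorem le_three_mul (hab : (stabilizer K v₁).index ≠ (stabilizer K v₂).index) :
    2 * p ^ finrank (ZMod p) V ≤ 3 * Nat.card K + 2 := by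
  have h1 := (stabilizer K v₁).index_mul_card
  have h2 := (stabilizer K v₂).index_mul_card
  have h3 := Nat.card_pos (α := stabilizer K v₁)
  have h4 := Nat.card_pos (α := stabilizer K v₂)
  rw [T.pow_eq]
  generalize (stabilizer K v₁).index = a at *
  generalize (stabilizer K v₂).index = b at *
  generalize Nat.card (stabilizer K v₁) = s at *
  generalize Nat.card (stabilizer K v₂) = t at *
  have h5 := Nat.le_mul_of_pos_right a h3
  have h6 := Nat.le_mul_of_pos_right b h4
  by_cases h7 : 2 ≤ s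
  · have := Nat.mul_le_mul_left a h7
    omega
  by_cases h8 : 2 ≤ t
  · have := Nat.mul_le_mul_left b h8
    omega
  obtain rfl : s = 1 := by omega
  obtain rfl : t = 1 := by omega
  omega

theorem stabilizer_smul {c : ZMod p} (hc : c ≠ 0) (v : V) :
    stabilizer K (c • v) = stabilizer K v := by
  ext g
  rw [mem_stabilizer_iff, mem_stabilizer_iff, T.smul, T.smul, map_smul,
    (smul_right_injective V hc).eq_iff]

theorem smul_mem_orbit (hab : (stabilizer K v₁).index ≠ (stabilizer K v₂).index) {c : ZMod p}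
    (hc : c ≠ 0) {v : V} (hv : v ∈ orbit K v₁) : c • v ∈ orbit K v₁ :=
  (T.cover _ (smul_ne_zero hc (T.ne_of_mem T.ne₁ hv))).resolve_right fun h => hab (by
    rw [← index_stabilizer_eq_of_mem h, T.stabilizer_smul hc, index_stabilizer_eq_of_mem hv])

theorem exists_dual : letI := dualAct ρ
    ∃ ψ₁ ψ₂ : AddChar V ℂ, TwoOrb K 0 ψ₁ ψ₂ ∧
      (stabilizer K ψ₁).index = (stabilizer K v₁).index ∧
      (stabilizer K ψ₂).index = (stabilizer K v₂).index := by
  classical
  letI := dualAct ρ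
  haveI : Finite V := Module.finite_of_finite (ZMod p)
  haveI := Fintype.ofFinite V
  have hs : ∀ (g : K) (ψ : AddChar V ℂ) v, (g • ψ) v = ψ (ρ g⁻¹ v) := fun _ _ _ => rfl
  have hc : Nat.card (AddChar V ℂ) = Nat.card V := by simp
  obtain ⟨ψ₁, ψ₂, D⟩ := exists_twoOrb (K := K) (x₀ := (0 : AddChar V ℂ)) (fun g => rfl) (by
    rw [← T.card_quotient]
    refine card_orbits_eq_of_card_fixed_eq fun g => card_fixed_eq_of_matrix _ hc
      (AddChar.linearIndependent V ℂ) _ _ (MulAction.bijective g) (MulAction.bijective g)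
      fun ψ v => ?_
    rw [hs, T.smul, ← Module.End.mul_apply, ← map_mul, inv_mul_cancel, map_one,
      Module.End.one_apply])
  have h1 : ∀ v : V, v ≠ 0 → (stabilizer K ψ₁).index ≤ (stabilizer K v).index ∨
      (stabilizer K ψ₂).index ≤ (stabilizer K v).index := fun v hv => by
    haveI := Fintype.ofFinite (stabilizer K v)
    have h2 : (∑ s : stabilizer K v, ρ s) v ≠ 0 := by
      rw [LinearMap.sum_apply, Finset.sum_congr rfl fun (s : stabilizer K v) _ =>
        (T.smul s v).symm.trans s.2, Finset.sum_const, Finset.card_univ,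
        ← Nat.card_eq_fintype_card, ← Nat.cast_smul_eq_nsmul (ZMod p)]
      exact smul_ne_zero (natCast_card_ne_zero T.cop _) hv
    obtain ⟨ψ, hψ⟩ := AddChar.exists_apply_ne_zero.2 h2
    let φ := ψ.compAddMonoidHom (∑ s : stabilizer K v, ρ s).toAddMonoidHom
    have h3 : (stabilizer K φ).index ≤ (stabilizer K v).index := index_antitone fun g hg =>
      AddChar.ext _ _ fun w => congrArg ψ (by
        change (∑ s : stabilizer K v, ρ s) (ρ g⁻¹ w) = (∑ s : stabilizer K v, ρ s) w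
        rw [← Module.End.mul_apply, Finset.sum_mul]
        exact LinearMap.congr_fun (Fintype.sum_equiv
          (Equiv.mulRight (⟨g⁻¹, inv_mem hg⟩ : stabilizer K v)) _ _
          fun x => (map_mul ρ _ _).symm) w)
    exact (D.index_eq (x := φ) fun e => hψ (DFunLike.congr_fun e v)).imp
      (fun e => e.ge.trans h3) fun e => e.ge.trans h3
  have h2 : ∀ ψ : AddChar V ℂ, ψ ≠ 0 → (stabilizer K v₁).index ≤ (stabilizer K ψ).index ∨
      (stabilizer K v₂).index ≤ (stabilizer K ψ).index := fun ψ hψ => by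
    haveI := Fintype.ofFinite (stabilizer K ψ)
    obtain ⟨w, hw⟩ := DFunLike.ne_iff.1 hψ
    have h3 := natCast_card_ne_zero (L := ZMod p) T.cop (stabilizer K ψ)
    obtain ⟨w, rfl⟩ : ∃ u : V, Nat.card (stabilizer K ψ) • u = w :=
      ⟨(Nat.card (stabilizer K ψ) : ZMod p)⁻¹ • w, by
        rw [← Nat.cast_smul_eq_nsmul (ZMod p), smul_inv_smul₀ h3]⟩
    have h4 : (∑ s : stabilizer K ψ, ρ s) w ≠ 0 := fun e => hw (by
      have h5 := congrArg ψ e
      have h6 : ∀ (S : Finset (stabilizer K ψ)), ψ (∑ s ∈ S, ρ s w) = ψ w ^ S.card := fun S => by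
        refine S.induction_on (by simp) fun s S hsS ih => ?_
        rw [Finset.sum_insert hsS, AddChar.map_add_eq_mul, ih, Finset.card_insert_of_notMem hsS,
          pow_succ', ← DFunLike.congr_fun (inv_mem s.2) w, hs, inv_inv]
      rw [LinearMap.sum_apply, h6] at h5
      rw [AddChar.map_nsmul_eq_pow, Nat.card_eq_fintype_card]
      simpa using h5)
    have h5 : (stabilizer K ((∑ s : stabilizer K ψ, ρ s) w)).index ≤ (stabilizer K ψ).index :=
      index_antitone fun g hg => (T.smul _ _).trans (sum_apply_fixed ρ _ w hg)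
    exact (T.index_eq h4).imp (fun e => e.ge.trans h5) fun e => e.ge.trans h5
  have h3 := D.card_eq
  rw [hc, T.card_eq] at h3
  have h4 := h1 _ T.ne₁
  have h5 := h1 _ T.ne₂
  have h6 := h2 _ D.ne₁
  have h7 := h2 _ D.ne₂
  by_cases h8 : (stabilizer K ψ₁).index = (stabilizer K v₁).index
  · exact ⟨ψ₁, ψ₂, D, h8, by omega⟩
  · exact ⟨ψ₂, ψ₁, D.symm, by omega, by omega⟩

theorem exists_dvd (hab : (stabilizer K v₁).index ≠ (stabilizer K v₂).index) :
    ∃ m, finrank (ZMod p) V = 2 * m ∧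
      (p ^ m - 1 ∣ (stabilizer K v₁).index ∨ p ^ m + 1 ∣ (stabilizer K v₁).index) := by
  classical
  letI := dualAct ρ
  haveI : Finite V := Module.finite_of_finite (ZMod p)
  haveI := Fintype.ofFinite V
  obtain ⟨ψ₁, ψ₂, D, h1, h2⟩ := T.exists_dual
  let O : Finset V := Finset.univ.filter (· ∈ orbit K v₁)
  have hO : O.card = (stabilizer K v₁).index := by
    rw [index_stabilizer, Set.ncard_eq_toFinset_card']
    congr 1
    ext
    simp [O]
  have hm : ∀ v, v ∈ O ↔ v ∈ orbit K v₁ := by simp [O]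
  let θ : AddChar V ℂ → ℂ := fun ψ => ∑ v ∈ O, ψ v
  have hθ : ∀ (g : K) ψ, θ (g • ψ) = θ ψ := fun g ψ =>
    Finset.sum_equiv (toPerm g⁻¹) (fun v => by
      rw [hm, hm, toPerm_apply, ← orbit_eq_iff, ← orbit_eq_iff, orbit_smul]) fun v _ => congrArg ψ (T.smul _ _).symm
  have hsc : ∀ c : ZMod p, c ≠ 0 → ∀ f : V → ℂ, ∑ v ∈ O, f (c • v) = ∑ v ∈ O, f v :=
    fun c hc f => Finset.sum_equiv (toPerm (Units.mk0 c hc)) (fun v => by
      rw [hm, hm]
      refine ⟨T.smul_mem_orbit hab hc, fun h => ?_⟩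
      simpa [Units.smul_def, inv_smul_smul₀ hc] using T.smul_mem_orbit hab (inv_ne_zero hc) h)
      fun _ _ => rfl
  have hint : ∀ ψ, ∃ s : ℤ, θ ψ = s := fun ψ => by
    have h3 : ∀ v, ∃ s : ℤ, ∑ c : ZMod p, ψ (c • v) = s := fun v => by
      have := (ψ.compAddMonoidHom (LinearMap.toSpanSingleton (ZMod p) V v).toAddMonoidHom).sum_eq_ite
      split_ifs at this
      exacts [⟨Fintype.card (ZMod p), by simpa using this⟩, ⟨0, by simpa using this⟩]
    choose s hs using h3
    have h4 : ((p - 1 : ℕ) : ℂ) * θ ψ = ∑ v ∈ O, (s v - 1 : ℤ) := by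
      have h5 : ∑ c ∈ Finset.univ.erase (0 : ZMod p), ∑ v ∈ O, ψ (c • v) =
          ((p - 1 : ℕ) : ℂ) * θ ψ := by
        rw [Finset.sum_congr rfl fun c hc => hsc c (Finset.ne_of_mem_erase hc) ψ]
        simp [θ]
      rw [← h5, Finset.sum_comm]
      push_cast
      refine Finset.sum_congr rfl fun v _ => ?_
      rw [← hs, Finset.sum_erase_eq_sub (Finset.mem_univ _)]
      simp
    have h5 : ((p - 1 : ℕ) : ℂ) ≠ 0 := Nat.cast_ne_zero.2 (by have := hp.out.two_le; omega)
    refine exists_int_of_isIntegral_of_rat (IsIntegral.sum _ fun v _ =>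
      IsIntegral.of_pow hp.out.pos ?_) (q := (∑ v ∈ O, (s v - 1 : ℤ) : ℤ) / (p - 1 : ℕ)) ?_
    · rw [← AddChar.map_nsmul_eq_pow, ← Nat.cast_smul_eq_nsmul (ZMod p), ZMod.natCast_self,
        zero_smul, AddChar.map_zero_eq_one]
      exact isIntegral_one
    · rw [Rat.cast_div, Rat.cast_intCast, Rat.cast_natCast, ← h4, mul_div_cancel_left₀ _ h5]
  obtain ⟨s, hs⟩ := hint ψ₁
  obtain ⟨t, ht⟩ := hint ψ₂
  have h0 : θ 0 = (stabilizer K v₁).index := by simp [θ, hO]
  have h3 := D.sum_eq θ hθ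
  have h4 := D.sum_eq (fun ψ => θ ψ ^ 2) fun g ψ => by simp only [hθ]
  have hne : ∀ v ∈ O, v ≠ 0 := fun v hv => T.ne_of_mem T.ne₁ ((hm v).1 hv)
  rw [Finset.sum_comm, Finset.sum_eq_zero fun v hv =>
    AddChar.sum_apply_eq_zero_iff_ne_zero.2 (hne v hv), h0, hs, ht, h1, h2] at h3
  have h5 : ∑ ψ, θ ψ ^ 2 = Nat.card V * O.card := by
    simp only [θ, sq, Finset.sum_mul_sum, ← AddChar.map_add_eq_mul]
    rw [Finset.sum_comm, ← nsmul_eq_mul', ← Finset.sum_const]
    refine Finset.sum_congr rfl fun v hv => ?_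
    rw [Finset.sum_comm]
    simp only [AddChar.sum_apply_eq_ite, ← neg_eq_iff_add_eq_zero, Finset.sum_ite_eq]
    rw [if_pos ((hm _).2 (by simpa using T.smul_mem_orbit hab (c := -1) (by simp) ((hm _).1 hv))),
      Nat.card_eq_fintype_card]
  simp only [h5, h0, hs, ht, h1, h2, hO, T.card_eq] at h4
  refine srg_dvd (s := s) (t := t) index_ne_zero_of_finite index_ne_zero_of_finite T.pow_eq ?_ ?_
  · have : ((stabilizer K v₁).index + (stabilizer K v₁).index * s +
        (stabilizer K v₂).index * t : ℂ) = 0 := by simpa using h3.symm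
    exact_mod_cast this
  · have : (((stabilizer K v₁).index : ℂ) ^ 2 + (stabilizer K v₁).index * s ^ 2 +
        (stabilizer K v₂).index * t ^ 2) = (1 + (stabilizer K v₁).index +
          (stabilizer K v₂).index) * (stabilizer K v₁).index := by simpa using h4.symm
    exact_mod_cast this

end R3

end LG
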