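import Cfsg.Agent.Lib.Lin.RankThree

/-!
# Linear `p'`-groups with two orbits on the nonzero vectors: class numbers, dimension `≠ 4`
-/

set_option autoImplicit false
set_option linter.unusedSectionVars false
set_option linter.style.haveILetI false

namespace LG

open Cfsg CT GT BT Subgroup Module MulAction
open scoped commutatorElement

theorem pow_le_of_pow_succ_le {a p j c : ℕ} (h11 : 11 ≤ p) (ha : a ≤ p)
    (h : p ^ (j + 1) ≤ (p - 1) * c + 1) : a ^ j ≤ c := by
  refine (Nat.pow_le_pow_left ha j).trans (not_lt.1 fun h1 => ?_)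
  obtain ⟨q, rfl⟩ := Nat.exists_eq_add_of_le' (show 1 ≤ p by omega)
  rw [Nat.add_sub_cancel, pow_succ] at h
  nlinarith [Nat.mul_le_mul_left q h1]

theorem two_mul_sq_lt (j : ℕ) : 2 * (j + 3) ^ 2 < 11 ^ (j + 2) := by
  induction j with
  | zero => norm_num
  | succ j ih => rw [show j + 1 + 2 = j + 2 + 1 by ring, pow_succ 11]; nlinarith

theorem mul_sq_lt_pow (j : ℕ) : (120 * (j + 3)) ^ 2 < 11 ^ (2 * j + 5) ∧
    (4 * (j + 3) + 1) ^ 4 < 11 ^ (2 * j + 5) := by
  induction j with
  | zero => norm_num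
  | succ j ih =>
    rw [show 2 * (j + 1) + 5 = 2 * j + 5 + 2 by ring, pow_add 11 _ 2]
    have h1 := Nat.pow_le_pow_left (show 4 * (j + 1 + 3) + 1 ≤ 2 * (4 * (j + 3) + 1) by omega) 4
    rw [mul_pow] at h1
    exact ⟨by nlinarith [ih.1], by omega⟩

variable {p : ℕ} [hp : Fact p.Prime] {K : Type*} [Group K] [Finite K]
variable {V : Type*} [AddCommGroup V] [Module (ZMod p) V] [Module.Finite (ZMod p) V]

theorem card_sylow_eq_of_not_sq {r : ℕ} [hr : Fact r.Prime] (R : Sylow r K) (h1 : r ∣ Nat.card K)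
    (h2 : ¬ r ^ 2 ∣ Nat.card R) : Nat.card R = r := by
  obtain ⟨j, hj⟩ := IsPGroup.iff_card.1 R.isPGroup'
  have h3 := R.dvd_card_of_dvd_card h1
  rw [hj] at h2 h3 ⊢
  rcases j with _ | _ | j
  · exact absurd (Nat.dvd_one.1 h3) hr.out.one_lt.ne'
  · exact pow_one r
  · exact absurd (pow_dvd_pow r (by omega)) h2

namespace R3

variable {ρ : Representation (ZMod p) K V} [MulAction K V] {v₁ v₂ : V} (T : R3 ρ v₁ v₂)
  (h11 : 11 ≤ p) (hk : 2 * Nat.card (ConjClasses K) ≤ p - 1)
include T h11 hk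

theorem pow_le' {a j c : ℕ} (ha : a ≤ p) (hn : finrank (ZMod p) V = j + 1)
    (h : Nat.card K ≤ Nat.card (ConjClasses K) * c) : a ^ j ≤ c := by
  refine pow_le_of_pow_succ_le h11 ha (hn ▸ T.le_two_mul.trans ?_)
  nlinarith [Nat.mul_le_mul_right c hk]

theorem pow_le {j c : ℕ} (hn : finrank (ZMod p) V = j + 1)
    (h : Nat.card K ≤ Nat.card (ConjClasses K) * c) : 11 ^ j ≤ c :=
  T.pow_le' h11 hk h11 hn h

theorem false_of_two (hn : finrank (ZMod p) V = 2) : False := by
  classical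
  obtain ⟨χ, hχk, hd⟩ := T.exists_irr
  have hχ := irr_isCharacter χ
  have hA : ∀ A : Subgroup K, ⁅A, A⁆ = ⊥ → ¬ A.index ≤ 2 := fun A hA h => by
    have h1 := T.pow_le h11 hk hn ((card_le_card_conjClasses_mul_sq (A := A) fun a ha b hb =>
      commutatorElement_eq_one_iff_mul_comm.1 (mem_bot.1
        (hA ▸ commutator_mem_commutator ha hb))).trans
      (Nat.mul_le_mul_left _ (Nat.pow_le_pow_left h 2)))
    omega
  have h2 : charDegree χ.1 = 2 := by
    have h1 := irr_degree_pos χ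
    have h3 : charDegree χ.1 ≠ 1 := fun h => hA ⊤ (le_bot_iff.1
      (hχk ▸ commutator_le_ker_of_degree_one hχ h)) (by simp)
    omega
  have hpr : IsPrimitiveChar χ.1 := fun H hH θ hθ h => by
    have h1 := charDegree_ind hθ
    rw [h, h2] at h1
    have h3 : H.index ≠ 1 := by rwa [Ne, index_eq_one]
    have h4 : H.index = 2 := ((Nat.dvd_prime Nat.prime_two).1 ⟨_, h1⟩).resolve_left h3
    rw [h4] at h1
    haveI := normal_of_index_eq_two h4
    refine hA H (le_bot_iff.1 ?_) h4.le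
    rw [← hχk, ← h]
    refine le_ker_ind_of_normal (commutator_le_left H H) (le_trans ?_
      (commutator_le_ker_of_degree_one hθ (by omega)))
    rw [← map_subtype_commutator, subgroupOf, comap_map_eq_self_of_injective H.subtype_injective]
  haveI := Fintype.ofFinite K
  have hm := Cfsg.Agent.S4473.result χ (hχ.ker_eq_bot_iff.1 hχk) h2 fun H hH θ hθ h =>
    hpr H hH θ hθ (by rw [h, indFun_eq_ind])
  have hZ := (Subgroup.center K).card_mul_index
  have hz := Nat.card_pos (α := Subgroup.center K)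
  have hs : ∀ (s : Finset (IrrCharacter K)) (m : ℕ), ∑ χ ∈ s, charDegree χ.1 ^ 2 = m →
      (m = 60 → 4 ≤ s.card) ∧ (m = 12 ∨ m = 24 → 3 ≤ s.card) := fun s m hs => by
    by_cases h : s.card ≤ 3
    · obtain ⟨a, b, c, h1, h3⟩ := exists_sq_add_sq s (fun χ => charDegree χ.1) h
      have := sq_add_sq_cases (hs.symm.trans h1)
      omega
    · omega
  have h3 : ∀ c, (center K).index ≤ 3 * c → ((center K).index = 12 ∨ (center K).index = 24) →
      11 ^ 1 ≤ c := fun c hc hm => by
    have h1 := card_conjClasses_ge_of_center (K := K) (c := 3) (c₁ := 3) fun s h =>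
      have := (hs s _ h).2 hm; ⟨this, fun _ => this⟩
    refine T.pow_le h11 hk hn (hZ.ge.trans ?_)
    nlinarith [Nat.mul_le_mul_left (Nat.card (center K)) hc,
      Nat.mul_le_mul_right c (show 3 * Nat.card (center K) ≤ Nat.card (ConjClasses K) by omega)]
  rcases hm with hm | hm | hm
  · exact absurd (h3 4 hm.le (Or.inl hm)) (by norm_num)
  · exact absurd (h3 8 hm.le (Or.inr hm)) (by norm_num)
  have h1 := card_conjClasses_ge_of_center (K := K) (c := 4) (c₁ := 4) fun s h =>
    have := (hs s _ h).1 hm; ⟨this, fun _ => this⟩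
  have h4 := T.le_two_mul
  rw [hn, ← hZ, hm] at h4
  have h5 : p ≤ 14 := by
    by_contra h
    obtain ⟨q, rfl⟩ := Nat.exists_eq_add_of_le' (show 15 ≤ p by omega)
    have : 8 * Nat.card (center K) ≤ q + 14 := by omega
    nlinarith
  have h6 : Nat.card (center K) = 1 := by omega
  have h7 : p = 11 := by
    rw [h6] at h4
    nlinarith
  have h8 := T.pow_eq
  rw [hn, h7] at h8
  rw [h6, hm] at hZ
  have h9 : ∀ v : V, (stabilizer K v).index ≤ 60 := fun v =>
    (Nat.le_of_dvd Nat.card_pos (index_dvd_card _)).trans hZ.ge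
  obtain ⟨t, ht⟩ := exists_prime_orderOf_dvd_card' (G := K) 2 (hZ ▸ by norm_num)
  have ht1 : t ≠ 1 := fun e => by simp [e] at ht
  have htt : t * t = 1 := by rw [← sq, ← ht, pow_orderOf_eq_one]
  have h10 : ρ t = -1 := LinearMap.ext fun w => by
    rw [LinearMap.neg_apply, Module.End.one_apply, eq_neg_iff_add_eq_zero]
    by_contra h
    have h12 := (stabilizer K (ρ t w + w)).card_mul_index
    have h13 : (stabilizer K (ρ t w + w)).index = 60 := by
      have := T.index_eq h
      have := h9 v₁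
      have := h9 v₂
      omega
    rw [h13, ← hZ, mul_left_inj' (by norm_num), card_eq_one] at h12
    refine ht1 (mem_bot.1 (h12 ▸ mem_stabilizer_iff.2 ?_))
    rw [T.smul, map_add, ← Module.End.mul_apply, ← map_mul, htt, map_one, add_comm]
    rfl
  exact ht1 (mem_bot.1 (card_eq_one.1 h6 ▸ mem_center_iff.2 fun g =>
    T.inj (by simp [h10])))

theorem false_of_zs (hn : 3 ≤ finrank (ZMod p) V) (h : ∀ r e, Zs p r (finrank (ZMod p) V) →
    r ^ e ∣ p ^ finrank (ZMod p) V - 1 → r ^ e ∣ Nat.card K) : False := by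
  obtain ⟨j, hj⟩ := Nat.exists_eq_add_of_le' hn
  have hnn : ∀ (r : ℕ) [Fact r.Prime], Zs p r (finrank (ZMod p) V) → ∀ R : Sylow r K,
      ¬ (R : Subgroup K).Normal := fun r _ Z R hN => by
    obtain ⟨x, hx, h1⟩ := Z.exists_index_le T.inj (by simpa using h r 1 Z (by simpa using Z.dvd))
      R hN
    have h2 := T.pow_le h11 hk (j := j + 2) hj ((card_le_card_conjClasses_mul_sq
      (Z.comm_centralizer T.inj hx)).trans (Nat.mul_le_mul_left _ (Nat.pow_le_pow_left h1 2)))
    have := two_mul_sq_lt j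
    rw [hj] at h2
    omega
  have key := eq_of_zsigmondy_small hp.out (by omega) hn fun r hr h1 h2 => by
    haveI := Fact.mk hr
    have Z : Zs p r (finrank (ZMod p) V) := ⟨hr, by omega, h1, h2⟩
    obtain ⟨R⟩ : Nonempty (Sylow r K) := inferInstance
    have h3 := mt (Z.sylow_normal T.inj T.cop (by simpa using h r 1 Z (by simpa)) R) (hnn r Z R)
    rw [not_or] at h3
    refine ⟨?_, fun e => h3.1 (h r 2 Z e)⟩
    obtain ⟨t, ht⟩ := Z.dvd_sub_one
    have h4 := Z.lt
    rcases t with _ | _ | _ | t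
    · omega
    · omega
    · omega
    · have := Nat.mul_le_mul_left (finrank (ZMod p) V) (show 3 ≤ t + 1 + 1 + 1 by omega)
      omega
  obtain ⟨h6, h17⟩ := key
  obtain rfl : p = 17 := by omega
  haveI : Fact (Nat.Prime 13) := ⟨by norm_num⟩
  have Z : Zs 17 13 (finrank (ZMod 17) V) := by
    rw [h6]
    exact ⟨by norm_num, by norm_num, by norm_num, fun j h1 h2 => by interval_cases j <;> norm_num⟩
  obtain ⟨R⟩ : Nonempty (Sylow 13 K) := inferInstance
  have h1 : 13 ∣ Nat.card K := by simpa using h 13 1 Z (by simpa using Z.dvd)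
  obtain ⟨χ, hχk, hd⟩ := T.exists_irr
  have h2 := (card_le_of_sylow_prime hχk (by norm_num) R (card_sylow_eq_of_not_sq R h1 fun e =>
    hnn _ Z R (Z.sylow_normal T.inj T.cop h1 R (Or.inl (e.trans (card_subgroup_dvd_card _)))))
    (hnn _ Z R) (by omega)).2
  exact absurd (T.pow_le h11 hk (j := 5) h6 h2) (by norm_num)

theorem false_of_fix {r m d : ℕ} [Fact r.Prime] (Z : Zs p r m) (hV : finrank (ZMod p) V = 2 * m)
    (hm : 3 ≤ m) (hd : ∀ v : V, v ≠ 0 → r ^ (d + 1) ∣ (stabilizer K v).index) (R : Sylow r K)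
    {z : K} (hz : orderOf z = r) (hRz : (R : Subgroup K) ≤ centralizer ({z} : Set K)) {v : V}
    (hv : v ≠ 0) (hzv : ρ z v = v) (h : 1 ≤ d ∨ 2 * m + 1 < r) : False := by
  classical
  obtain ⟨h1, h2⟩ := Z.map_pow_eq' hV T.inj hz
  obtain ⟨hW, -⟩ := Z.finrank_ker hV h1 h2 hv hzv
  set W := LinearMap.ker (ρ z - 1)
  have hmem : ∀ w, w ∈ W ↔ ρ z w = w := fun w => by simp [W, sub_eq_zero]
  let N := normalizer (zpowers z : Set K)
  let A : Subrepresentation (ρ.comp N.subtype) := ⟨W, fun g w hw => by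
    have h3 : (g : K)⁻¹ * z * g ∈ stabilizer K w := zpowers_le.2
      ((T.smul _ _).trans ((hmem w).1 hw)) ((mem_normalizer_iff''.1 g.2 z).1 (mem_zpowers z))
    rw [hmem]
    change ρ z (ρ g w) = ρ g w
    conv_rhs => rw [← mem_stabilizer_iff.1 h3, T.smul]
    simp [← Module.End.mul_apply, ← map_mul, mul_assoc]⟩
  let σ := A.toRepresentation.asGroupHom
  let τ : Representation (ZMod p) σ.range W := (Units.coeHom _).comp σ.range.subtype
  have hτ : Function.Injective τ := Units.val_injective.comp Subtype.val_injective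
  haveI : Finite σ.range := Finite.of_surjective _ σ.rangeRestrict_surjective
  have hτσ : ∀ (g : N) (w : W), (τ (σ.rangeRestrict g) w : V) = ρ g w := fun _ _ => rfl
  have hcop : ¬ p ∣ Nat.card σ.range := fun e =>
    T.cop ((e.trans (card_range_dvd σ)).trans (card_subgroup_dvd_card N))
  have horb : ∀ u ∈ W, ∀ u' ∈ W, u' ≠ 0 → u' ∈ orbit K u → ∃ g : N, ρ g u = u' := by
    rintro u hu _ hu' h0 ⟨g, rfl⟩
    have hze : IsPElt r z := ⟨1, hz.trans (pow_one r).symm⟩
    obtain ⟨P, hP, hzP⟩ := exists_isSylowIn_ge (H := stabilizer K (g • u)) hze.isPGroup_zpowers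
      (zpowers_le.2 ((T.smul _ _).trans ((hmem _).1 hu')))
    haveI := Z.isCyclic_of_fix hV T.inj hP.isPGroup h0 fun t ht =>
      (T.smul _ _).symm.trans (hP.le ht)
    obtain ⟨s, hs, h3⟩ := hP.exists_conj_mem (hze.conj g) (by
      rw [mem_stabilizer_iff, mul_smul, inv_smul_smul, mul_smul, T.smul z, (hmem u).1 hu])
    have h4 : zpowers (s * g * z * (s * g)⁻¹) = zpowers z := eq_of_card_eq_of_isCyclic
      (zpowers_le.2 (by simpa [mul_assoc] using h3)) hzP (by
        rw [Nat.card_zpowers, Nat.card_zpowers, ← orderOf_eq_of_isConj (isConj_iff.2 ⟨_, rfl⟩)])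
    refine ⟨⟨s * g, mem_normalizer_fintype ?_⟩, by rw [← T.smul, mul_smul]; exact hs⟩
    rintro _ ⟨k, rfl⟩
    rw [← conj_zpow, ← h4]
    exact zpow_mem (mem_zpowers _) k
  have hcard : p ^ m ≤ 2 * Nat.card σ.range + 1 := by
    have h3 : ∀ x : V, ∃ u : W, ∀ u' : W, u' ≠ 0 → u'.1 ∈ orbit K x →
        ∃ g : σ.range, τ g u = u' := fun x => by
      by_cases e : ∃ u : W, u.1 ∈ orbit K x
      · obtain ⟨u, hu⟩ := e
        refine ⟨u, fun u' h0 hu' => ?_⟩
        obtain ⟨g, hg⟩ := horb u u.2 u' u'.2 (by simpa using h0) (orbit_eq_iff.2 hu ▸ hu')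
        exact ⟨σ.rangeRestrict g, Subtype.ext hg⟩
      · exact ⟨0, fun u' _ hu' => absurd ⟨u', hu'⟩ e⟩
    obtain ⟨u₁, h4⟩ := h3 v₁
    obtain ⟨u₂, h5⟩ := h3 v₂
    have h6 := Nat.card_le_card_of_surjective (α := Option (σ.range ⊕ σ.range))
      (fun x => x.elim (0 : W) (Sum.elim (τ · u₁) (τ · u₂))) fun w => by
        by_cases e : w = 0
        · exact ⟨none, e.symm⟩
        rcases T.cover w (by simpa using e) with h7 | h7
        · exact (h4 w e h7).elim fun g hg => ⟨some (Sum.inl g), hg⟩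
        · exact (h5 w e h7).elim fun g hg => ⟨some (Sum.inr g), hg⟩
    rw [Module.natCard_eq_pow_finrank (K := ZMod p), Nat.card_zmod, hW, Finite.card_option,
      Nat.card_sum] at h6
    omega
  have hdvd : r ^ (d + 1) ∣ Nat.card σ.range := by
    have h3 := (hd v hv).trans (index_dvd_of_le (inf_le_left (b := N)))
    rw [← relIndex_mul_index (inf_le_right : _ ⊓ N ≤ N), inf_relIndex_right] at h3
    have h4 : ¬ r ∣ N.index := fun e => R.not_dvd_index (e.trans (index_dvd_of_le
      (hRz.trans (centralizer_zpowers z ▸ centralizer_le_normalizer _))))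
    refine (((Nat.Prime.coprime_iff_not_dvd Z.prime).2 h4).pow_left _).dvd_of_dvd_mul_right h3
      |>.trans (index_ker σ ▸ index_dvd_of_le fun g hg => ?_)
    have h5 := hτσ g ⟨v, (hmem v).2 hzv⟩
    rw [show σ.rangeRestrict g = 1 from Subtype.ext hg, map_one] at h5
    exact (T.smul _ _).trans h5.symm
  have hr : r ∣ Nat.card σ.range := (dvd_pow_self r (by omega)).trans hdvd
  obtain ⟨Q⟩ : Nonempty (Sylow r σ.range) := inferInstance
  have Z' : Zs p r (finrank (ZMod p) W) := hW ▸ Z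
  obtain ⟨x, hx, h3⟩ := Z'.exists_index_le hτ hr Q (Z'.sylow_normal hτ hcop hr Q
    (h.imp (fun e => (pow_dvd_pow r (by omega)).trans hdvd) fun e => hW ▸ e))
  haveI := Fintype.ofFinite (centralizer ({x} : Set σ.range))
  have h4 := Z'.card_le_mul (Z'.map_pow_eq hτ hx).1 (Z'.map_pow_eq hτ hx).2 ρ W.injective_subtype
    (Finset.univ.image fun c : centralizer ({x} : Set σ.range) => τ c) fun y hy => by
      obtain ⟨c, -, rfl⟩ := Finset.mem_image.1 hy
      obtain ⟨g, hg⟩ := σ.rangeRestrict_surjective c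
      refine ⟨?_, g, fun w => by rw [← hg]; rfl⟩
      rw [← map_mul, ← map_mul, mem_centralizer_singleton_iff.1 c.2]
  rw [Finset.card_image_of_injective _ fun a b e => Subtype.ext (hτ e), Finset.card_univ,
    ← Nat.card_eq_fintype_card, hV] at h4
  rw [← (centralizer ({x} : Set σ.range)).index_mul_card] at hcard
  rw [hW] at h3
  obtain ⟨j, rfl⟩ := Nat.exists_eq_add_of_le' hm
  refine (two_mul_sq_lt j).not_ge (pow_le_of_pow_succ_le h11 h11 (hcard.trans ?_))
  nlinarith [Nat.mul_le_mul h3 h4, Nat.mul_le_mul_right (2 * (j + 3) ^ 2) hk]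

theorem false_of_half {m : ℕ} (hV : finrank (ZMod p) V = 2 * m) (hm : 3 ≤ m)
    (hd : ∀ v : V, v ≠ 0 → p ^ m - 1 ∣ (stabilizer K v).index) : False := by
  obtain ⟨χ, hχk, hχd⟩ := T.exists_irr
  have hχ := irr_isCharacter χ
  have hK := (hd _ T.ne₁).trans (index_dvd_card _)
  rw [hV] at hχd
  have key := eq_of_zsigmondy_small' hp.out h11 hm fun r hr h1 h2 => by
    haveI := Fact.mk hr
    have Z : Zs p r m := ⟨hr, by omega, h1, h2⟩
    obtain ⟨R⟩ : Nonempty (Sylow r K) := inferInstance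
    obtain ⟨t, ht⟩ := Z.dvd_sub_one
    have h4 := Z.lt
    have h5 : r = m + 1 ∨ r = 2 * m + 1 ∨ 3 * m + 1 ≤ r := by
      rcases t with _ | _ | _ | t
      · omega
      · omega
      · omega
      · have := Nat.mul_le_mul_left m (show 3 ≤ t + 1 + 1 + 1 by omega)
        omega
    by_cases hf : ∀ z ∈ (R : Subgroup K), orderOf z = r →
        (R : Subgroup K) ≤ centralizer ({z} : Set K) → ∀ v, ρ z v = v → v = 0
    swap
    · push Not at hf
      obtain ⟨z, -, hz, hRz, v, hzv, hv⟩ := hf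
      have h6 : ¬ r ^ 2 ∣ p ^ m - 1 := fun e => T.false_of_fix h11 hk Z hV hm (d := 1)
        (fun v hv => e.trans (hd v hv)) R hz hRz hv hzv (Or.inl le_rfl)
      have h7 : ¬ 2 * m + 1 < r := fun e => T.false_of_fix h11 hk Z hV hm (d := 0)
        (fun v hv => by simpa using h1.trans (hd v hv)) R hz hRz hv hzv (Or.inr e)
      rcases h5 with h5 | h5 | h5
      exacts [Or.inl ⟨h5, fun e => h6 ((pow_dvd_pow r (by omega)).trans e)⟩, Or.inr ⟨h5, h6⟩,
        absurd (by omega) h7]
    have hR := R.ne_bot_of_dvd_card (h1.trans hK)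
    obtain ⟨hc, hU, hf'⟩ := Z.unifCent_of_fpf hV T.inj T.cop hm R hR hf
    obtain ⟨j, rfl⟩ := Nat.exists_eq_add_of_le' hm
    have hnn : ¬ (R : Subgroup K).Normal := fun hN => by
      obtain ⟨y, hy, hyo, -⟩ := exists_central_orderOf R.isPGroup' hR
      obtain ⟨A, hA, h6⟩ := Z.exists_comm_of_fpf hV T.inj T.cop hχ hχk hχd hyo
        (normal_of_le_isCyclic (zpowers_le.2 hy)) (hf' y hy hyo)
      exact (mul_sq_lt_pow j).1.not_ge (T.pow_le h11 hk (by omega)
        ((card_le_card_conjClasses_mul_sq hA).trans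
          (Nat.mul_le_mul_left _ (Nat.pow_le_pow_left h6 2))))
    have h6 : ∀ e, r ^ e ∣ Nat.card K → r ^ e ≤ (2 * (j + 3)) ^ 2 + 1 := fun e he =>
      (Nat.le_of_dvd Nat.card_pos (R.pow_dvd_card_of_pow_dvd_card he)).trans
        ((not_lt.1 fun h => hnn (UnifCent.normal_of_faithful K hU hχ hχk h)).trans
          (Nat.succ_le_succ (Nat.pow_le_pow_left hχd 2)))
    rcases h5 with h5 | h5 | h5
    · refine Or.inl ⟨h5, fun e => ?_⟩
      have := h6 3 (e.trans hK)
      rw [h5] at this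
      nlinarith [Nat.zero_le (j ^ 3)]
    · refine Or.inr ⟨h5, fun e => ?_⟩
      have := h6 2 (e.trans hK)
      rw [h5] at this
      nlinarith
    obtain ⟨h7, h8⟩ := card_le_of_sylow_prime hχk (by omega) R (card_sylow_eq_of_not_sq R
      (h1.trans hK) fun e => by
        have := (Nat.pow_le_pow_left h5 2).trans (h6 2 (e.trans (card_subgroup_dvd_card _)))
        nlinarith) hnn (by omega)
    exact absurd (T.pow_le h11 hk (by omega) (h8.trans (Nat.mul_le_mul_left _
      (Nat.pow_le_pow_left (by omega) 4)))) (mul_sq_lt_pow j).2.not_ge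
  obtain ⟨rfl, rfl⟩ := key
  have := (prime_le_card_conjClasses_mul hχ hχk (r := 307) (by norm_num)
    (dvd_trans (by norm_num) hK)).trans (Nat.mul_le_mul_left _ hχd)
  omega

end R3

end LG
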