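import Cfsg.Agent.Lib.Lin.RankThree2
import Mathlib.LinearAlgebra.Matrix.GeneralLinearGroup.Card

/-!
# Linear `p'`-groups with two orbits on the nonzero vectors: dimension four and the conclusion
-/

set_option autoImplicit false
set_option linter.unusedSectionVars false
set_option linter.style.haveILetI false

namespace LG

open Cfsg CT GT BT Subgroup Module MulAction
open scoped commutatorElement

variable {p : ℕ} [hp : Fact p.Prime] {K : Type*} [Group K] [Finite K]
variable {V : Type*} [AddCommGroup V] [Module (ZMod p) V] [Module.Finite (ZMod p) V]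

theorem sq_dvd_card_centralizer {r : ℕ} [hr : Fact r.Prime] (h : r ^ 2 ∣ Nat.card K) {x : K}
    (hx : IsPElt r x) : r ^ 2 ∣ Nat.card (centralizer ({x} : Set K)) := by
  obtain ⟨R, hR⟩ := hx.isPGroup_zpowers.exists_le_sylow
  have hxR : x ∈ (R : Subgroup K) := hR (mem_zpowers x)
  obtain ⟨z, hz, hzo, hRz⟩ := exists_central_orderOf R.isPGroup'
    (R.ne_bot_of_dvd_card ((dvd_pow_self r two_ne_zero).trans h))
  by_cases h1 : x ∈ zpowers z
  · refine (R.pow_dvd_card_of_pow_dvd_card h).trans (card_dvd_of_le fun y hy => ?_)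
    exact mem_centralizer_singleton_iff.2
      (commute_of_mem_zpowers h1 (mem_centralizer_singleton_iff.1 (hRz hy)).symm).symm
  refine dvd_trans ?_ (card_dvd_of_le (inf_le_left (b := (R : Subgroup K))))
  obtain ⟨k, hk⟩ := IsPGroup.iff_card.1 (R.isPGroup'.to_le
    (inf_le_right (a := centralizer ({x} : Set K))))
  have h2 : zpowers z < centralizer ({x} : Set K) ⊓ R := lt_of_le_of_ne (zpowers_le.2
    ⟨mem_centralizer_singleton_iff.2 (mem_centralizer_singleton_iff.1 (hRz hxR)).symm, hz⟩)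
    fun e => h1 (e ▸ ⟨mem_centralizer_singleton_iff.2 rfl, hxR⟩)
  have h3 := card_lt_of_lt h2
  rw [hk, Nat.card_zpowers, hzo] at h3
  rw [hk]
  refine pow_dvd_pow r ?_
  by_contra h4
  exact h3.not_ge ((Nat.pow_le_pow_right hr.out.pos (by omega)).trans_eq (pow_one r))

theorem card_centralizer_ne_mul {Z : Subgroup K} (hZ : Z ≤ center K) {r : ℕ} [hr : Fact r.Prime]
    (h1 : ¬ r ∣ Nat.card Z) (h2 : r ^ 2 ∣ Nat.card K) (g : K) :
    Nat.card (centralizer ({g} : Set K)) ≠ Nat.card Z * r := fun h => by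
  have hZC : Z ≤ centralizer ({g} : Set K) := hZ.trans (center_le_centralizer _)
  have hg : g ∈ centralizer ({g} : Set K) := mem_centralizer_singleton_iff.2 rfl
  haveI : Z.Normal := ⟨fun n hn g => by
    rwa [mem_center_iff.1 (hZ hn), mul_inv_cancel_right]⟩
  have h3 : Z.relIndex (centralizer ({g} : Set K)) = r :=
    mul_left_cancel₀ Nat.card_pos.ne' ((card_mul_relIndex hZC).trans h)
  have h4 : g ^ r ∈ Z := h3 ▸ pow_relIndex_mem Z hg
  have h5 : IsPElt r (g ^ Nat.card Z) := isPElt_of_pow_eq_one (k := 1) (by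
    rw [pow_one, ← pow_mul, ← h]
    exact congrArg Subtype.val (pow_card_eq_one' (x := (⟨g, hg⟩ : centralizer ({g} : Set K)))))
  have h6 : centralizer ({g ^ Nat.card Z} : Set K) ≤ centralizer ({g} : Set K) := fun c hc => by
    have h7 : ∀ x, c ∈ centralizer ({x} : Set K) ↔ x ∈ centralizer ({c} : Set K) := fun x => by
      rw [mem_centralizer_singleton_iff, mem_centralizer_singleton_iff, eq_comm]
    rw [h7] at hc ⊢
    have h8 := Nat.gcd_eq_gcd_ab r (Nat.card Z)
    rw [(hr.out.coprime_iff_not_dvd.2 h1).gcd_eq_one] at h8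
    rw [← zpow_one g, show (1 : ℤ) = _ from h8, zpow_add, zpow_mul, zpow_mul, zpow_natCast,
      zpow_natCast]
    exact mul_mem (zpow_mem (hZ.trans (center_le_centralizer {c}) h4) _) (zpow_mem hc _)
  have h7 := (sq_dvd_card_centralizer h2 h5).trans (card_dvd_of_le h6)
  rw [h, sq] at h7
  exact h1 (Nat.dvd_of_mul_dvd_mul_right hr.out.pos h7)

theorem weighted_num {z t j k N M : ℕ} (hz : 0 < z) (hj0 : 0 < j) (hj : j ≤ t)
    (hk : 2 * k ≤ z * t) (hN : z * t ≤ 4 * N + z) (hM : 100 * z ≤ M)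
    (h : (1 : ℚ) ≤ k * ((z * j : ℕ) : ℚ)⁻¹ + z * ((M : ℚ)⁻¹ - ((z * j : ℕ) : ℚ)⁻¹) +
      N * (((z * t : ℕ) : ℚ)⁻¹ - ((z * j : ℕ) : ℚ)⁻¹)) :
    (1 : ℚ) ≤ t / 2 / j - 1 / j + (t - 1) / 4 * (1 / t - 1 / j) + 1 / 100 := by
  have hz' : (0 : ℚ) < z := by positivity
  have hj' : (0 : ℚ) < j := by positivity
  have hM' : (0 : ℚ) < M := Nat.cast_pos.2 (by omega)
  have ht' : (0 : ℚ) < t := Nat.cast_pos.2 (by omega)
  have h1 : (k : ℚ) / z ≤ t / 2 := by
    rw [div_le_div_iff₀ hz' two_pos]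
    exact_mod_cast (by linarith : k * 2 ≤ t * z)
  have h2 : ((t : ℚ) - 1) / 4 ≤ N / z := by
    rw [div_le_div_iff₀ four_pos hz']
    have : (z : ℚ) * t ≤ 4 * N + z := by exact_mod_cast hN
    linarith
  have h3 : (z : ℚ) / M ≤ 1 / 100 := by
    rw [div_le_div_iff₀ hM' (by norm_num)]
    exact_mod_cast (by linarith : z * 100 ≤ 1 * M)
  have h4 : (1 : ℚ) / t - 1 / j ≤ 0 := sub_nonpos.2 (by gcongr)
  have h5 : k * ((z * j : ℕ) : ℚ)⁻¹ + z * ((M : ℚ)⁻¹ - ((z * j : ℕ) : ℚ)⁻¹) +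
      N * (((z * t : ℕ) : ℚ)⁻¹ - ((z * j : ℕ) : ℚ)⁻¹) =
      k / z / j - 1 / j + N / z * (1 / t - 1 / j) + z / M := by
    push_cast
    field_simp
    ring
  have h6 := mul_le_mul_of_nonpos_right h2 h4
  have h7 := div_le_div_of_nonneg_right h1 hj'.le
  linarith

variable (p V) in
/-- Scalar matrices. -/
noncomputable def scalHom : (ZMod p)ˣ →* (Module.End (ZMod p) V)ˣ :=
  Units.map (algebraMap (ZMod p) (Module.End (ZMod p) V)).toMonoidHom

/-- The elements acting as scalars. -/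
noncomputable def scalK (ρ : Representation (ZMod p) K V) : Subgroup K :=
  (scalHom p V).range.comap ρ.asGroupHom

/-- The scalars induced by the group. -/
noncomputable def scalU (ρ : Representation (ZMod p) K V) : Subgroup (ZMod p)ˣ :=
  ρ.asGroupHom.range.comap (scalHom p V)

theorem scalHom_eq_iff {ρ : Representation (ZMod p) K V} {c : (ZMod p)ˣ} {g : K} :
    scalHom p V c = ρ.asGroupHom g ↔ ρ g = (c : ZMod p) • 1 := by
  rw [Units.ext_iff, eq_comm, ← Algebra.algebraMap_eq_smul_one]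
  rfl

theorem mem_scalK {ρ : Representation (ZMod p) K V} {g : K} :
    g ∈ scalK ρ ↔ ∃ c : (ZMod p)ˣ, ρ g = (c : ZMod p) • 1 :=
  exists_congr fun _ => scalHom_eq_iff

theorem mem_scalU {ρ : Representation (ZMod p) K V} {c : (ZMod p)ˣ} :
    c ∈ scalU ρ ↔ ∃ g, ρ g = (c : ZMod p) • 1 :=
  exists_congr fun _ => eq_comm.trans scalHom_eq_iff

theorem scalHom_injective [Nontrivial V] : Function.Injective (scalHom p V) :=
  Units.map_injective (algebraMap (ZMod p) (Module.End (ZMod p) V)).injective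

theorem index_scalK_dvd [Nontrivial V] (ρ : Representation (ZMod p) K V) {n : ℕ}
    (hn : finrank (ZMod p) V = n) :
    (p - 1) * (scalK ρ).index ∣ ∏ i : Fin n, (p ^ n - p ^ (i : ℕ)) := by
  haveI : (scalHom p V).range.Normal := ⟨by
    rintro _ ⟨c, rfl⟩ g
    refine ⟨c, eq_mul_inv_of_mul_eq (Units.ext ?_)⟩
    exact Algebra.commutes (c : ZMod p) g.1⟩
  have h1 := Matrix.card_GL_field (𝔽 := ZMod p) n
  rw [ZMod.card, ← Nat.card_congr (Units.mapEquiv (LinearMap.toMatrixAlgEquiv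
    (Module.finBasisOfFinrankEq (ZMod p) V hn)).toMulEquiv).toEquiv,
    ← (scalHom p V).range.card_mul_index, ← Nat.card_congr
      (MonoidHom.ofInjective scalHom_injective).toEquiv, Nat.card_eq_fintype_card,
    ZMod.card_units] at h1
  rw [← h1, scalK, index_comap]
  exact Nat.mul_dvd_mul_left _ (relIndex_dvd_index_of_normal _ _)

namespace R3

variable {ρ : Representation (ZMod p) K V} [MulAction K V] {v₁ v₂ : V} (T : R3 ρ v₁ v₂)
include T

theorem scalK_le : scalK ρ ≤ center K := fun g hg => mem_center_iff.2 fun x => T.inj (by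
  obtain ⟨c, hc⟩ := mem_scalK.1 hg
  simp [hc])

theorem card_scalK_mul : Nat.card (scalK ρ) * (scalU ρ).index = p - 1 := by
  haveI := nontrivial_of_ne _ _ T.ne₁
  have h : Function.Injective ρ.asGroupHom := fun a b e => T.inj (congrArg Units.val e)
  rw [← card_map_of_injective h, scalK, map_comap_eq, inf_comm, ← map_comap_eq,
    card_map_of_injective scalHom_injective, ← scalU, card_mul_index, Nat.card_eq_fintype_card,
    ZMod.card_units]

theorem exists_weighted (hab : (stabilizer K v₁).index ≠ (stabilizer K v₂).index) {D : ℕ}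
    (hD0 : 0 < D) (hD : ∀ g ∉ scalK ρ, D ≤ Nat.card (centralizer ({g} : Set K)))
    (S₂ : Finset (ConjClasses K)) (h₂ : ∀ c ∈ S₂, ∃ x, ConjClasses.mk x = c ∧ x ≠ 1 ∧
      (orderOf x).Coprime (p - 1) ∧ 5 ≤ Nat.card (centralizer ({x} : Set K))) :
    ∃ N : ℕ, p - 1 ≤ finrank (ZMod p) V * N + Nat.card (scalK ρ) ∧
      (1 : ℚ) ≤ Nat.card (ConjClasses K) * (D : ℚ)⁻¹ +
        Nat.card (scalK ρ) * ((Nat.card K : ℚ)⁻¹ - (D : ℚ)⁻¹) +
        N * (((p - 1 : ℕ) : ℚ)⁻¹ - (D : ℚ)⁻¹) + S₂.card * (((5 : ℕ) : ℚ)⁻¹ - (D : ℚ)⁻¹) := by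
  classical
  haveI := Fintype.ofFinite (ConjClasses K)
  haveI := Fintype.ofFinite (scalK ρ)
  obtain ⟨s, hs⟩ := IsCyclic.exists_monoid_generator (α := (ZMod p)ˣ)
  have hso : orderOf s = p - 1 := by
    rw [orderOf_eq_card_of_forall_mem_powers hs, Nat.card_eq_fintype_card, ZMod.card_units]
  obtain ⟨h, hh⟩ := T.smul_mem_orbit hab s.ne_zero (mem_orbit_self v₁)
  replace hh : ρ h v₁ = (s : ZMod p) • v₁ := (T.smul _ _).symm.trans hh
  have hj : ∀ j : ℕ, ρ (h ^ j) v₁ = ((s ^ j : (ZMod p)ˣ) : ZMod p) • v₁ := fun j => by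
    induction j with
    | zero => simp
    | succ j ih => rw [pow_succ, map_mul, Module.End.mul_apply, hh, map_smul, ih, smul_smul,
        pow_succ', Units.val_mul]
  have hj' : ∀ j : ℕ, h ^ j = 1 → s ^ j = 1 := fun j e => Units.ext
    (smul_left_injective _ T.ne₁ (by simpa [e] using (hj j).symm))
  let S₀ := Finset.univ.image fun g : scalK ρ => ConjClasses.mk (g : K)
  let S₁ := Finset.univ.filter fun c => ∃ j : ℕ, s ^ j ∉ scalU ρ ∧ ConjClasses.mk (h ^ j) = c
  have hc : ∀ g ∈ scalK ρ, ∀ x, ConjClasses.mk x = ConjClasses.mk g → x = g := fun g hg x e => by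
    obtain ⟨c, rfl⟩ := isConj_iff.1 (ConjClasses.mk_eq_mk_iff_isConj.1 e.symm)
    rw [mem_center_iff.1 (T.scalK_le hg), mul_inv_cancel_right]
  have h0 : S₀.card = Nat.card (scalK ρ) := by
    rw [Finset.card_image_of_injective _ fun a b e => Subtype.ext (hc _ b.2 _ e),
      Nat.card_eq_fintype_card, Finset.card_univ]
  refine ⟨S₁.card, ?_, h0 ▸ one_le_weighted (S₀ := S₀) ?_ ?_ ?_ Nat.card_pos
    (by have := hp.out.two_le; omega) (by norm_num) hD0 ?_ ?_ ?_ fun c hc => ?_⟩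
  · have h1 := card_le_mul_of_eigen ρ T.ne₁
      ((Finset.univ.filter (· ∉ scalU ρ)).image Units.val) S₁ fun c hc => by
        obtain ⟨u, hu, rfl⟩ := Finset.mem_image.1 hc
        obtain ⟨j, rfl⟩ := hs u
        exact ⟨h ^ j, Finset.mem_filter.2 ⟨Finset.mem_univ _, j, (Finset.mem_filter.1 hu).2, rfl⟩,
          hj j⟩
    have h2 := Finset.card_filter_add_card_filter_not (s := Finset.univ) (· ∈ scalU ρ)
    rw [Finset.card_univ, ZMod.card_units, ← Fintype.card_subtype, ← Nat.card_eq_fintype_card] at h2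
    rw [Finset.card_image_of_injective _ Units.val_injective] at h1
    have h3 := (scalU ρ).card_mul_index
    rw [Nat.card_eq_fintype_card (α := (ZMod p)ˣ), ZMod.card_units, ← T.card_scalK_mul,
      mul_left_inj' index_ne_zero_of_finite] at h3
    omega
  · refine Finset.disjoint_left.2 fun c h1 h2 => ?_
    obtain ⟨g, -, rfl⟩ := Finset.mem_image.1 h1
    obtain ⟨j, h3, h4⟩ := (Finset.mem_filter.1 h2).2
    obtain ⟨u, hu⟩ := mem_scalK.1 g.2
    have h5 := hj j
    rw [hc _ g.2 _ h4, hu] at h5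
    exact h3 (mem_scalU.2 ⟨g, hu.trans (by rw [smul_left_injective _ T.ne₁ h5])⟩)
  · refine Finset.disjoint_left.2 fun c h1 h2 => ?_
    obtain ⟨g, -, rfl⟩ := Finset.mem_image.1 h1
    obtain ⟨x, h3, h4, h5, -⟩ := h₂ _ h2
    obtain rfl := hc _ g.2 _ h3
    exact h4 (orderOf_eq_one_iff.1 (h5.eq_one_of_dvd
      ((orderOf_dvd_natCard _ g.2).trans ⟨_, T.card_scalK_mul.symm⟩)))
  · refine Finset.disjoint_left.2 fun c h1 h2 => ?_
    obtain ⟨j, h3, rfl⟩ := (Finset.mem_filter.1 h1).2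
    obtain ⟨x, h4, -, h5, -⟩ := h₂ _ h2
    rw [orderOf_eq_of_isConj (ConjClasses.mk_eq_mk_iff_isConj.1 h4)] at h5
    have h6 := hj' (j * orderOf (h ^ j)) (by rw [pow_mul, pow_orderOf_eq_one])
    rw [pow_mul] at h6
    refine h3 (orderOf_eq_one_iff.1 (Nat.eq_one_of_dvd_coprimes h5 (orderOf_dvd_of_pow_eq_one h6)
      (hso ▸ orderOf_pow_dvd j)) ▸ one_mem _)
  · intro c h1
    obtain ⟨g, -, rfl⟩ := Finset.mem_image.1 h1
    rw [clCent_mk, centralizer_eq_top_iff_subset.2 (Set.singleton_subset_iff.2 (T.scalK_le g.2)),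
      card_top]
  · intro c h1
    obtain ⟨j, -, rfl⟩ := (Finset.mem_filter.1 h1).2
    rw [clCent_mk, ← hso]
    refine (Nat.le_of_dvd (orderOf_pos h) (orderOf_dvd_of_pow_eq_one
      (hj' _ (pow_orderOf_eq_one h)))).trans (Nat.le_of_dvd Nat.card_pos (orderOf_dvd_natCard _ ?_))
    exact mem_centralizer_singleton_iff.2 (Commute.self_pow h j)
  · intro c h1
    obtain ⟨x, rfl, -, -, h2⟩ := h₂ c h1
    rwa [clCent_mk]
  · obtain ⟨g, rfl⟩ := ConjClasses.exists_rep c
    rw [clCent_mk]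
    exact hD g fun e => hc (Finset.mem_image.2 ⟨⟨g, e⟩, Finset.mem_univ _, rfl⟩)

theorem exists_card_centralizer {g : K} (hg : g ∉ scalK ρ) :
    ∃ j, 2 ≤ j ∧ Nat.card (centralizer ({g} : Set K)) = Nat.card (scalK ρ) * j := by
  have h := T.scalK_le.trans (center_le_centralizer {g})
  refine ⟨_, ?_, (card_mul_relIndex h).symm⟩
  have h1 := mt relIndex_eq_one.1 fun e => hg (e (mem_centralizer_singleton_iff.2 rfl))
  have h2 : (scalK ρ).relIndex (centralizer ({g} : Set K)) ≠ 0 := index_ne_zero_of_finite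
  omega

variable (h11 : 11 ≤ p) (hk : 2 * Nat.card (ConjClasses K) ≤ p - 1)
include h11 hk

theorem index_scalU_ge (hV : finrank (ZMod p) V = 4)
    (hab : (stabilizer K v₁).index ≠ (stabilizer K v₂).index) (hd : p ^ 2 - 1 ∣ Nat.card K) :
    10 ≤ (scalU ρ).index ∧ (Nat.card (scalK ρ) % 2 = 1 → 13 ≤ (scalU ρ).index) ∧ 23 ≤ p := by
  classical
  have hzt := T.card_scalK_mul
  have hz : 0 < Nat.card (scalK ρ) := Nat.card_pos
  have hK := T.le_two_mul
  rw [hV] at hK
  have hM : 100 * Nat.card (scalK ρ) ≤ Nat.card K := by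
    have h1 := Nat.le_mul_of_pos_right (Nat.card (scalK ρ))
      (Nat.pos_of_ne_zero (index_ne_zero_of_finite (H := scalU ρ)))
    have h2 : 11 ^ 3 * p ≤ p ^ 4 := Nat.mul_le_mul_right p (Nat.pow_le_pow_left h11 3)
    omega
  have h4 : 2 ^ 2 ∣ Nat.card K := by
    refine dvd_trans ?_ hd
    obtain ⟨j, rfl⟩ := hp.out.odd_of_ne_two (by omega)
    exact ⟨j ^ 2 + j, by rw [Nat.sub_eq_iff_eq_add (Nat.one_le_pow _ _ (by omega))]; ring⟩
  have h2t : 2 ≤ (scalU ρ).index := by
    have h1 := card_le_mul_card_conjClasses (B := scalK ρ) (j := 1) fun b hb => by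
      rw [centralizer_eq_top_iff_subset.2 (Set.singleton_subset_iff.2 (T.scalK_le hb)), index_top]
    by_contra h
    have := Nat.mul_le_mul_left (Nat.card (scalK ρ)) (show (scalU ρ).index ≤ 1 by omega)
    omega
  have key : ∀ j, 0 < j → j ≤ (scalU ρ).index → (∀ g ∉ scalK ρ,
      Nat.card (scalK ρ) * j ≤ Nat.card (centralizer ({g} : Set K))) →
      (1 : ℚ) ≤ (scalU ρ).index / 2 / j - 1 / j + ((scalU ρ).index - 1) / 4 *
        (1 / (scalU ρ).index - 1 / j) + 1 / 100 := fun j h1 h2 h3 => by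
    obtain ⟨N, h5, h6⟩ := T.exists_weighted hab (Nat.mul_pos hz h1) h3 ∅ (by simp)
    rw [← hzt] at h5 h6 hk
    exact weighted_num hz h1 h2 hk (hV ▸ h5) hM (by simpa using h6)
  have h10 : 10 ≤ (scalU ρ).index := by
    have h1 := key 2 two_pos h2t fun g hg => by
      obtain ⟨j, h1, h2⟩ := T.exists_card_centralizer hg
      exact h2 ▸ Nat.mul_le_mul_left _ h1
    by_contra h
    generalize (scalU ρ).index = t at *
    have : t < 10 := by omega
    interval_cases t <;> norm_num at h1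
  have hodd : Nat.card (scalK ρ) % 2 = 1 → ∀ g ∉ scalK ρ,
      Nat.card (scalK ρ) * 3 ≤ Nat.card (centralizer ({g} : Set K)) := fun ho g hg => by
    obtain ⟨j, h1, h2⟩ := T.exists_card_centralizer hg
    have h3 := card_centralizer_ne_mul T.scalK_le (r := 2) (by omega) h4 g
    rw [h2] at h3 ⊢
    exact Nat.mul_le_mul_left _ (lt_of_le_of_ne h1 fun e => h3 (e ▸ rfl))
  have h13 : Nat.card (scalK ρ) % 2 = 1 → 13 ≤ (scalU ρ).index := fun ho => by
    have h1 := key 3 three_pos (by omega) (hodd ho)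
    by_contra h
    generalize (scalU ρ).index = t at *
    have : t < 13 := by omega
    interval_cases t <;> norm_num at h1
  refine ⟨h10, h13, not_lt.1 fun h23 => ?_⟩
  have hz1 : Nat.card (scalK ρ) = 1 := by
    by_contra h
    have h1 := Nat.mul_le_mul (show 2 ≤ Nat.card (scalK ρ) by omega) h10
    have h2 := hp.out
    have : 21 ≤ p := by omega
    interval_cases p <;> norm_num at h2
  have h9 : (p = 17 ∨ p = 19) ∧ 3 ^ 2 ∣ Nat.card K := by
    have h1 := h13 (by omega)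
    have h2 := hp.out
    have : 14 ≤ p := by rw [hz1] at hzt; omega
    interval_cases p <;> norm_num at h2
    exacts [⟨Or.inl rfl, dvd_trans (by norm_num) hd⟩, ⟨Or.inr rfl, dvd_trans (by norm_num) hd⟩]
  haveI : Fact (Nat.Prime 3) := ⟨by norm_num⟩
  haveI : Fact (Nat.Prime 5) := ⟨by norm_num⟩
  have h5 : ∀ g ∉ scalK ρ, 4 ≤ Nat.card (centralizer ({g} : Set K)) := fun g hg => by
    have h1 := hodd (by omega) g hg
    have h3 := card_centralizer_ne_mul T.scalK_le (r := 3) (by omega) h9.2 g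
    omega
  obtain ⟨x, h6, h7, h8⟩ : ∃ x : K, x ≠ 1 ∧ (orderOf x).Coprime (p - 1) ∧
      5 ≤ Nat.card (centralizer ({x} : Set K)) := by
    rcases h9.1 with rfl | rfl
    · obtain ⟨x, hx⟩ := exists_prime_orderOf_dvd_card' (G := K) 3 (dvd_trans (by norm_num) hd)
      refine ⟨x, fun e => by simp [e] at hx, by rw [hx]; norm_num, le_trans (by norm_num)
        (Nat.le_of_dvd Nat.card_pos (sq_dvd_card_centralizer h9.2 ⟨1, hx⟩))⟩
    · obtain ⟨x, hx⟩ := exists_prime_orderOf_dvd_card' (G := K) 5 (dvd_trans (by norm_num) hd)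
      refine ⟨x, fun e => by simp [e] at hx, by rw [hx]; norm_num, hx ▸ Nat.le_of_dvd Nat.card_pos
        (orderOf_dvd_natCard _ (mem_centralizer_singleton_iff.2 rfl))⟩
  obtain ⟨N, h1, h2⟩ := T.exists_weighted hab four_pos h5 {ConjClasses.mk x} fun c hc =>
    ⟨x, (Finset.mem_singleton.1 hc).symm, h6, h7, h8⟩
  rw [hz1, hV] at h1
  rw [hz1] at h2 hM
  have h3 : (Nat.card K : ℚ)⁻¹ ≤ 100⁻¹ := by
    gcongr
    exact_mod_cast hM
  rcases h9.1 with rfl | rfl
  · have h11 : (Nat.card (ConjClasses K) : ℚ) ≤ 8 := by exact_mod_cast (by omega)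
    have h12 : (4 : ℚ) ≤ N := by exact_mod_cast (by omega)
    norm_num at h2 h3
    linarith
  · have h11 : (Nat.card (ConjClasses K) : ℚ) ≤ 9 := by exact_mod_cast (by omega)
    have h12 : (5 : ℚ) ≤ N := by exact_mod_cast (by omega)
    norm_num at h2 h3
    linarith

theorem false_of_four (hV : finrank (ZMod p) V = 4)
    (hab : (stabilizer K v₁).index ≠ (stabilizer K v₂).index)
    (h₁ : p ^ 2 - 1 ∣ (stabilizer K v₁).index) (h₂ : p ^ 2 - 1 ∣ (stabilizer K v₂).index) :
    False := by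
  haveI := nontrivial_of_ne _ _ T.ne₁
  obtain ⟨h10, h13, h23⟩ := T.index_scalU_ge h11 hk hV hab (h₁.trans (index_dvd_card _))
  have hA : ¬ ∃ A : Subgroup K, (∀ a ∈ A, ∀ b ∈ A, a * b = b * a) ∧ A.index ≤ 60 := by
    rintro ⟨A, hA, h⟩
    exact absurd (T.pow_le' h11 hk h23 hV ((card_le_card_conjClasses_mul_sq hA).trans
      (Nat.mul_le_mul_left _ (Nat.pow_le_pow_left h 2)))) (by norm_num)
  have hZ : center K = scalK ρ := le_antisymm (fun z hz => by
    by_contra h
    obtain ⟨χ, h1, h2⟩ := T.exists_irr_half hz fun c hc => by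
      refine h (mem_scalK.2 ⟨Units.mk0 c fun e => T.ne₁ ?_, hc⟩)
      rw [← inv_smul_smul z v₁, T.smul z, hc, e, T.smul]
      simp
    exact hA (exists_comm_of_degree_le_two h1 (by omega))) T.scalK_le
  obtain ⟨χ, h1, h2⟩ := T.exists_irr
  rcases cases_of_degree_le_four h1 (hV ▸ h2) with h | ⟨B, h3, h4⟩ | h
  · exact hA h
  · have h5 := Nat.mul_le_mul h3 (card_le_mul_card_conjClasses h4)
    have h6 := T.le_three_mul hab
    have h7 : 23 ^ 3 * p ≤ p ^ 4 := Nat.mul_le_mul_right p (Nat.pow_le_pow_left h23 3)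
    rw [index_mul_card] at h5
    rw [hV] at h6
    omega
  have hzt := T.card_scalK_mul
  have hz : 0 < Nat.card (scalK ρ) := Nat.card_pos
  have h3 : ∀ {v : V} {u : ℕ}, (stabilizer K v).index = (p ^ 2 - 1) * u →
      (scalU ρ).index * (p + 1) * u ∣ (scalK ρ).index := fun {v u} e => by
    refine Nat.dvd_of_mul_dvd_mul_left hz ?_
    rw [card_mul_index, ← mul_assoc, ← mul_assoc, hzt, mul_comm (p - 1), ← Nat.sq_sub_sq, one_pow,
      ← e]
    exact index_dvd_card _
  obtain ⟨u, hu⟩ := h₁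
  obtain ⟨v, hv⟩ := h₂
  have hp1 : 1 < p ^ 2 := Nat.one_lt_pow two_ne_zero hp.out.one_lt
  refine rank_three_enum hp.out h23 (Dvd.intro_left _ hzt) h10 (fun e => h13 ?_) ?_ (hZ ▸ h) ?_
    (h3 hu) (h3 hv)
  · rwa [← hzt, Nat.mul_div_cancel _ (by omega)] at e
  · have h4 := T.pow_eq
    rw [hV, hu, hv, show p ^ 4 = p ^ 2 * p ^ 2 by ring] at h4
    obtain ⟨q, hq⟩ := Nat.exists_eq_add_of_le' hp1.le
    rw [hq] at h4 hp1 ⊢
    rw [Nat.add_sub_cancel] at h4
    exact Nat.eq_of_mul_eq_mul_left (show 0 < q by omega) (by linarith)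
  · have h4 := index_scalK_dvd ρ hV
    have h5 : ∏ i : Fin 4, (p ^ 4 - p ^ (i : ℕ)) =
        (p - 1) * (p ^ 6 * ((p ^ 2 - 1) * (p ^ 3 - 1) * (p ^ 4 - 1))) := by
      have h6 : ∀ i j, p ^ (i + j) - p ^ i = p ^ i * (p ^ j - 1) := fun i j => by
        rw [Nat.mul_sub_one, pow_add]
      rw [Fin.prod_univ_four]
      change (p ^ (0 + 4) - p ^ 0) * (p ^ (1 + 3) - p ^ 1) * (p ^ (2 + 2) - p ^ 2) *
        (p ^ (3 + 1) - p ^ 3) = _
      rw [h6, h6, h6, h6, pow_one]
      ring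
    rw [h5] at h4
    refine Nat.Coprime.dvd_of_dvd_mul_left (Nat.Coprime.pow_right _ (Nat.Coprime.symm ?_))
      (Nat.dvd_of_mul_dvd_mul_left (by omega) h4)
    exact hp.out.coprime_iff_not_dvd.2 fun e => T.cop (e.trans (index_dvd_card _))

theorem false_of_two_le (hn : 2 ≤ finrank (ZMod p) V) : False := by
  rcases hn.eq_or_lt with h2 | h3
  · exact T.false_of_two h11 hk h2.symm
  have he := T.pow_eq
  by_cases hab : (stabilizer K v₁).index = (stabilizer K v₂).index
  · refine T.false_of_zs h11 hk h3 fun r e Z h => dvd_trans ?_ (stabilizer K v₁).index_dvd_card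
    rw [show p ^ finrank (ZMod p) V - 1 = 2 * (stabilizer K v₁).index by omega] at h
    have := Z.lt
    exact (((Nat.coprime_primes Z.prime Nat.prime_two).2 (by omega)).pow_left e).dvd_of_dvd_mul_left h
  obtain ⟨m, hm, h⟩ := T.exists_dvd hab
  have h1 : (stabilizer K v₁).index + (stabilizer K v₂).index = (p ^ m + 1) * (p ^ m - 1) := by
    rw [← Nat.sq_sub_sq, ← pow_mul, mul_comm m, ← hm]
    omega
  rcases h with h | h
  · have h2 := (Nat.dvd_add_right h).1 (h1 ▸ dvd_mul_left _ _)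
    by_cases h4 : m = 2
    · subst h4
      exact T.false_of_four h11 hk hm hab h h2
    · exact T.false_of_half h11 hk hm (by omega) fun v hv =>
        (T.index_eq hv).elim (fun e => e ▸ h) fun e => e ▸ h2
  · refine T.false_of_zs h11 hk h3 fun r e Z h4 =>
      dvd_trans ?_ (h.trans (stabilizer K v₁).index_dvd_card)
    rw [show p ^ finrank (ZMod p) V - 1 = (p ^ m + 1) * (p ^ m - 1) by omega] at h4
    exact ((Z.prime.coprime_iff_not_dvd.2
      (Z.min m (by omega) (by omega))).pow_left e).dvd_of_dvd_mul_right h4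

omit h11 hk in
/-- Two orbits on the nonzero vectors in dimension at least two force many classes. -/
theorem lt_two_mul (hn : 2 ≤ finrank (ZMod p) V) : p - 1 < 2 * Nat.card (ConjClasses K) := by
  by_contra hk
  rw [not_lt] at hk
  by_cases h11 : 11 ≤ p
  · exact T.false_of_two_le h11 hk hn
  have h1 := (Nat.pow_le_pow_right hp.out.pos hn).trans T.le_two_mul
  have h2 := hp.out
  have h3 : 0 < Nat.card (ConjClasses K) := Nat.card_pos
  have h4 := card_le_six_of_card_conjClasses_le (K := K)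
  have h5 := card_le_of_card_conjClasses_le_two (B := K)
  have h6 : p < 11 := by omega
  clear T
  interval_cases p <;> first | omega | norm_num at h2

end R3

end LG
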