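import Cfsg.Agent.Lib.Lin.HallPi
import Cfsg.Agent.Lib.Char.CliffordCorr

/-!
# Irreducible linear groups of degree less than `2 p`
-/

set_option autoImplicit false

namespace LG

open Cfsg CT MulAction Subgroup

variable {G : Type*} [Group G] [Finite G] {p : ℕ} [hp : Fact p.Prime]

theorem degree_eq_one_or_le (hG : IsPGroup p G) (ψ : IrrCharacter G) :
    charDegree ψ.1 = 1 ∨ charDegree ψ.1 = p ∨ 2 * p ≤ charDegree ψ.1 := by
  obtain ⟨a, ha⟩ := hG.exists_card_eq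
  obtain ⟨j, -, hj⟩ := (Nat.dvd_prime_pow hp.1).1 (ha ▸ irr_degree_dvd_card ψ)
  rw [hj]
  rcases j with _ | _ | j
  · simp
  · simp
  · refine Or.inr (Or.inr ?_)
    rw [pow_succ, pow_succ]
    exact Nat.mul_le_mul_right _ (hp.1.two_le.trans (Nat.le_mul_of_pos_left _ (pow_pos hp.1.pos _)))

theorem exists_two_eigenvalues (hG : IsPGroup p G) {χ : G → ℂ} (hχ : IsCharacter G χ)
    (hk : ker χ = ⊥) (hn : charDegree χ < 2 * p) (hna : commutator G ≠ ⊥) :
    ∃ (z : G) (ζ : ℂ) (m : ℕ), z ^ p = 1 ∧ orderOf ζ = p ∧ charDegree χ = m + p ∧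
      ∀ k : ℕ, χ (z ^ k) = p * ζ ^ k + m := by
  obtain ⟨ψ, hψ, h1⟩ : ∃ ψ : IrrCharacter G, ip χ ψ.1 ≠ 0 ∧ charDegree ψ.1 ≠ 1 := by
    by_contra! h
    exact hna (eq_bot_iff.2 fun g hg => hk ▸ hχ.mem_ker_iff_forall_irr.2 fun ψ hψ =>
      (irr_commutator_le_ker_iff ψ).2 (h ψ hψ) hg)
  have h2 := hχ.degree_eq_sub_irr_add ψ hψ
  have h3 : charDegree ψ.1 = p := by have := degree_eq_one_or_le hG ψ; omega
  have hθ := hχ.sub_irr ψ hψ
  have h4 : commutator G ≤ ker (χ - ψ.1) := fun g hg => hθ.mem_ker_iff_forall_irr.2 fun φ hφ => by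
    have := hθ.degree_le_of_ip_ne_zero φ hφ
    exact (irr_commutator_le_ker_iff φ).2 (by have := degree_eq_one_or_le hG φ; omega) hg
  obtain ⟨z, ⟨hz1, hz2⟩, hz3, hz4⟩ := GT.exists_mem_pow_eq_one (p := p)
    (GT.dvd_card_of_isPGroup_of_ne_bot (hG.to_subgroup _) (GT.inf_center_ne_bot_of_isPGroup hG hna))
  obtain ⟨lam, hl, -⟩ := ψ.2.isCharacter.exists_monoidHom_of_le_center (center_le_irr_center ψ)
  have key : ∀ k : ℕ, χ (z ^ k) = p * lam ⟨z, hz2⟩ ^ k + charDegree (χ - ψ.1) := fun k => by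
    have e1 := hl (⟨z, hz2⟩ ^ k) 1
    have e2 := hθ.mem_ker_iff.1 (h4 (pow_mem hz1 k))
    rw [hθ.apply_one, Pi.sub_apply] at e2
    rw [mul_one, irr_apply_one, h3, map_pow, SubgroupClass.coe_pow] at e1
    linear_combination e1 + e2
  refine ⟨z, lam ⟨z, hz2⟩, _, hz4, orderOf_eq_prime ?_ fun h => hz3 ?_, h3 ▸ h2, key⟩
  · rw [← map_pow, show (⟨z, hz2⟩ : Subgroup.center G) ^ p = 1 from Subtype.ext hz4, map_one]
  · rw [← mem_bot, ← hk, hχ.mem_ker_iff, ← pow_one z, key, ← pow_zero z, key, h, one_pow, one_pow]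

theorem exists_pow_near_one {ζ : ℂ} (hζ : ‖ζ‖ = 1) :
    ∃ d, 0 < d ∧ d < 7 ∧ ‖ζ ^ d - 1‖ < 1 := by
  obtain ⟨box, hbox⟩ := exists_arc_box (m := 6) (by norm_num)
  have h0 : ζ ≠ 0 := fun h => by simp [h] at hζ
  have hn : ∀ k : ℕ, ‖ζ ^ k‖ = 1 := fun k => by simp [hζ]
  suffices H : ∀ k l : Fin 7, l < k → box (ζ ^ (k : ℕ)) = box (ζ ^ (l : ℕ)) →
      ∃ d, 0 < d ∧ d < 7 ∧ ‖ζ ^ d - 1‖ < 1 by
    obtain ⟨k, l, hne, h⟩ := Fintype.exists_ne_map_eq_of_card_lt
      (fun k : Fin 7 => box (ζ ^ (k : ℕ))) (by simp)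
    rcases lt_or_gt_of_ne hne with h' | h'
    exacts [H l k h' h.symm, H k l h' h]
  intro k l hlk h
  obtain ⟨d, hd⟩ := Nat.exists_eq_add_of_lt hlk
  refine ⟨d + 1, d.succ_pos, by have := k.2; omega, ?_⟩
  have h3 := hbox _ _ (hn k) (hn l) h
  rw [hd, add_assoc, pow_add, mul_comm (_ ^ (l : ℕ)), mul_inv_cancel_right₀ (pow_ne_zero _ h0),
    show 2 * Real.pi / ((6 : ℕ) : ℝ) = Real.pi / 3 by push_cast; ring, Real.cos_pi_div_three] at h3
  have h4 := norm_sub_ofReal_sq (hn (d + 1)) 1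
  rw [Complex.ofReal_one] at h4
  exact (sq_lt_one_iff₀ (norm_nonneg _)).1 (by linarith)

omit hp in
/-- An element with two eigenvalues at distance less than one has an abelian normal closure. -/
theorem comm_normalClosure_of_two_eigenvalues {χ : G → ℂ} (hχ : IsCharacter G χ) (hk : ker χ = ⊥)
    {z : G} {ζ : ℂ} {m : ℕ} (h1 : ‖ζ - 1‖ < 1) (h : ∀ k : ℕ, χ (z ^ k) = p * ζ ^ k + m) :
    IsMulCommutative (normalClosure ({z} : Set G)) := by
  obtain ⟨W, _, _, _, ρ, hρ, rfl⟩ := hχ.exists_unitary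
  have hinj : Function.Injective ρ := (injective_iff_map_eq_one ρ).2 fun g hg =>
    mem_bot.1 (hk ▸ (rep_mem_ker_iff ρ g).2 hg)
  have hb : ∀ y ∈ Group.conjugatesOfSet {z}, ∀ (c : ℂ) (r : ℝ), ‖ζ - c‖ ≤ r → ‖1 - c‖ ≤ r →
      ∀ v, ‖ρ y v - c • v‖ ≤ r * ‖v‖ := fun y hy c r h2 h3 => by
    obtain ⟨_, rfl, hy'⟩ := Group.mem_conjugatesOfSet_iff.1 hy
    refine hρ.norm_sub_smul_le (δ := Sum.elim (fun _ : Fin p => ζ) fun _ : Fin m => 1) ?_
      (fun k _ => ?_) ((norm_nonneg _).trans h2) ?_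
    · rintro (i | i)
      · rintro (rfl : ζ = 0); simp at h1
      · simp
    · rw [← hχ.isClassFunction.of_isConj (hy'.pow k), h]; simp
    · rintro (i | i); exacts [h2, h3]
  refine isMulCommutative_closure fun a ha b hb' => hρ.commute_of_near hinj
    (c := (1 + ζ) / 2) (r := ‖ζ - 1‖ / 2) (by positivity) (by linarith) (hb a ha _ _ ?_ ?_)
    (norm_nonneg (ζ - 1)) (by nlinarith [norm_nonneg (ζ - 1)])
    (by simpa using hb b hb' 1 _ le_rfl (by simp))
  · rw [show ζ - (1 + ζ) / 2 = (ζ - 1) / 2 by ring]; simp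
  · rw [show 1 - (1 + ζ) / 2 = -(ζ - 1) / 2 by ring, norm_div, norm_neg]; simp

theorem not_sq_dvd_index_pCore (χ : IrrCharacter G) (hk : ker χ.1 = ⊥) (h7 : 7 ≤ p)
    (hn : charDegree χ.1 < 2 * p) (hnp : charDegree χ.1 ≠ p) {P : Subgroup G} (hP : IsPGroup p P)
    (hna : commutator P ≠ ⊥) : ¬ p ^ 2 ∣ (pCore p G).index := by
  classical
  have hχ := χ.2.isCharacter
  obtain ⟨z, ζ, m, hz, hζ, hm, h⟩ := exists_two_eigenvalues hP (hχ.res P)
    (by rw [hχ.ker_res, hk, bot_subgroupOf]) hn hna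
  have hζp : ζ ^ p = 1 := hζ ▸ pow_orderOf_eq_one ζ
  obtain ⟨d, hd0, hd, hd1⟩ := exists_pow_near_one (norm_eq_one_of_pow_eq_one' hp.1.ne_zero hζp)
  set y : G := (z : G) ^ d
  have hy : ∀ k : ℕ, χ.1 (y ^ k) = p * (ζ ^ d) ^ k + m := fun k => by
    rw [← pow_mul, ← pow_mul]; exact h _
  have hc := comm_normalClosure_of_two_eigenvalues hχ hk hd1 hy
  set N := normalClosure ({y} : Set G)
  obtain ⟨θ, hθ⟩ := exists_irr_liesUnder N χ
  let y' : N := ⟨y, subset_normalClosure rfl⟩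
  have hy' : y' ^ p = 1 := Subtype.ext (by
    rw [SubgroupClass.coe_pow, ← pow_mul, mul_comm, pow_mul, ← SubgroupClass.coe_pow, hz]; simp)
  have hgeom : ∀ w : ℂ, w ^ p = 1 → ∑ k ∈ Finset.range p, w ^ k = if w = 1 then (p : ℂ) else 0 :=
    fun w hw => by
    split_ifs with h
    · simp [h]
    · rw [geom_sum_eq h, hw, sub_self, zero_div]
  have h1 : mult (res N χ.1) θ.1 ∣ m := by
    have e1 : ∀ φ : IrrCharacter N, ∑ k ∈ Finset.range p, φ.1 (y' ^ k) =
        if φ.1 y' = 1 then (p : ℂ) else 0 := fun φ => by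
      obtain ⟨f, hf⟩ := φ.2.isCharacter.exists_monoidHom_of_degree_one
        (irr_degree_eq_one_of_isMulCommutative φ)
      simp only [hf, map_pow]
      exact hgeom _ (by rw [← map_pow, hy', map_one])
    have e2 := Finset.sum_congr (rfl : Finset.range p = _)
      fun k _ => (hy k).symm.trans (congrFun (clifford hθ) (y' ^ k))
    simp only [Finset.sum_add_distrib, ← Finset.mul_sum, Pi.smul_apply, Finset.sum_apply,
      smul_eq_mul] at e2
    rw [Finset.sum_comm, hgeom _ (by rw [← pow_mul, mul_comm, pow_mul, hζp, one_pow]),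
      if_neg (pow_ne_one_of_lt_orderOf hd0.ne' (by omega))] at e2
    simp only [e1, ← Finset.sum_filter, Finset.sum_const, Finset.card_range, nsmul_eq_mul] at e2
    refine ⟨((conjOrbit G θ).filter (·.1 y' = 1)).card, Nat.cast_injective (R := ℂ)
      (mul_left_cancel₀ (Nat.cast_ne_zero.2 hp.1.ne_zero) ?_)⟩
    push_cast; linear_combination e2
  have h2 := clifford_degree hθ
  obtain ⟨ψ, -, hψ, -, hψd⟩ := exists_clifford_correspondent hθ
  rw [charDegree_res] at hm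
  rw [irr_degree_eq_one_of_isMulCommutative θ, mul_one] at h2 hψd
  have h3 : mult (res N χ.1) θ.1 = 1 := by
    refine (hp.1.eq_one_or_self_of_dvd _ ((Nat.dvd_add_right h1).1 ⟨_, hm ▸ h2⟩)).resolve_right
      fun e => ?_
    rw [e] at h2
    rcases hi : (stabilizer G θ).index with _ | _ | i <;> rw [hi] at h2 <;>
      [omega; omega; nlinarith]
  rw [h3] at hψd h2
  set D := (stabilizer G θ).normalCore
  have hD : ⁅D, D⁆ ≤ ker χ.1 := hψ ▸ le_ker_ind_of_normal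
    ((commutator_le_left _ _).trans (normalCore_le _))
    ((commutator_subgroupOf_le_commutator (normalCore_le _)).trans
      ((irr_commutator_le_ker_iff ψ).2 hψd))
  rw [hk, le_bot_iff, commutator_eq_bot_iff_le_centralizer, le_centralizer_iff_isMulCommutative]
    at hD
  have := GT.isNilpotent_of_isMulCommutative (G := D)
  obtain ⟨Q, hQ⟩ := GT.exists_isSylowIn p D
  have := hQ.normal_of_isNilpotent
  intro hd
  have h4 := hd.trans (index_dvd_of_le (GT.le_pCore hQ.isPGroup))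
  rw [← relIndex_mul_index hQ.le] at h4
  have h5 := (((hp.1.coprime_iff_not_dvd.2 hQ.not_dvd).pow_left 2).dvd_of_dvd_mul_left h4).trans
    (index_normalCore_dvd_factorial _)
  rw [one_mul] at h2
  rw [← h2, hp.1.pow_dvd_factorial_iff (b := 2)
    (Nat.log_lt_of_lt_pow' two_ne_zero (by nlinarith))] at h5
  simp only [Nat.Ico_succ_singleton, Finset.sum_singleton, pow_one] at h5
  have := (Nat.le_div_iff_mul_le hp.1.pos).1 h5
  omega

end LG
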