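import Cfsg.Agent.Lib.Lin.TransLin
import Cfsg.Agent.Lib.Block.TwoOver
import Cfsg.Agent.Lib.Char.NqExt
import Cfsg.Agent.Lib.Char.NqSp
import Cfsg.Prelude.Def_Perm

/-!
# `p`-solvable groups with two classes of `p`-elements
-/

set_option autoImplicit false
set_option linter.unusedSectionVars false
set_option linter.style.haveILetI false

namespace LG

open Cfsg CT GT Subgroup Matrix
open scoped commutatorElement Pointwise IsMulCommutative

variable {G H : Type*} [Group G] [Finite G] [Group H] [Finite H] {p : ℕ} [hp : Fact p.Prime]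

/-- The `p`-regular classes. -/
abbrev RegCl (p : ℕ) (G : Type*) [Group G] : Type _ :=
  {c : ConjClasses G // ∃ g : G, ConjClasses.mk g = c ∧ ¬ p ∣ orderOf g}

def RegCl.map (f : G →* H) (c : RegCl p G) : RegCl p H :=
  ⟨ConjClasses.map f c.1, by
    obtain ⟨g, h1, h2⟩ := c.2
    exact ⟨f g, by rw [← h1]; rfl, IsPRegular.map h2 f⟩⟩

theorem RegCl.map_surjective {f : G →* H} (hf : Function.Surjective f) :
    Function.Surjective (RegCl.map (p := p) f) := by
  rintro ⟨_, y, rfl, hy⟩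
  obtain ⟨x, hx, rfl⟩ := IsPRegular.exists_lift hf hy
  exact ⟨⟨_, x, rfl, hx⟩, rfl⟩

theorem card_regCl_le {f : G →* H} (hf : Function.Surjective f) :
    Nat.card (RegCl p H) ≤ Nat.card (RegCl p G) :=
  Nat.card_le_card_of_surjective _ (RegCl.map_surjective hf)

theorem card_regCl_of_not_dvd (h : ¬ p ∣ Nat.card G) :
    Nat.card (RegCl p G) = Nat.card (ConjClasses G) :=
  Nat.card_congr (Equiv.subtypeUnivEquiv fun c => by
    obtain ⟨g, rfl⟩ := ConjClasses.mk_surjective c
    exact ⟨g, rfl, isPRegular_of_not_dvd_card h g⟩)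

theorem card_regCl_lt {f : G →* H} (hf : Function.Surjective f) {a : G} (ha : a ≠ 1)
    (har : IsPRegular p a) (hfa : f a = 1) : Nat.card (RegCl p H) + 1 ≤ Nat.card (RegCl p G) ∧
      (Nat.card (RegCl p G) ≤ Nat.card (RegCl p H) + 1 → ∀ x y : G, x ≠ 1 → y ≠ 1 →
        IsPRegular p x → IsPRegular p y → IsConj (f x) (f y) → IsConj x y) := by
  classical
  let o : RegCl p G := ⟨_, 1, rfl, isPRegular_one⟩
  have hne : ∀ {x : G} (hx : IsPRegular p x), x ≠ 1 → (⟨_, x, rfl, hx⟩ : RegCl p G) ≠ o :=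
    fun hx h1 h => h1 (isConj_one_left.1 (ConjClasses.mk_eq_mk_iff_isConj.1 (congrArg Subtype.val h)))
  let F : {c : RegCl p G // c ≠ o} → RegCl p H := fun c => RegCl.map f c.1
  have hF : Function.Surjective F := fun c => by
    obtain ⟨d, rfl⟩ := RegCl.map_surjective hf c
    by_cases h : d = o
    · refine ⟨⟨_, hne har ha⟩, Subtype.ext ?_⟩
      subst h
      exact congrArg ConjClasses.mk (hfa.trans (map_one f).symm)
    · exact ⟨⟨d, h⟩, rfl⟩
  have hc : Nat.card {c : RegCl p G // c ≠ o} + 1 = Nat.card (RegCl p G) := by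
    rw [← Finite.card_option]
    exact Nat.card_congr (Equiv.optionSubtypeNe o)
  refine ⟨hc ▸ Nat.succ_le_succ (Nat.card_le_card_of_surjective F hF), fun h x y h1 h2 hx hy h3 => ?_⟩
  have h4 := (hF.bijective_of_nat_card_le (by omega)).1 (a₁ := ⟨_, hne hx h1⟩) (a₂ := ⟨_, hne hy h2⟩)
    (Subtype.ext (ConjClasses.mk_eq_mk_iff_isConj.2 h3))
  exact ConjClasses.mk_eq_mk_iff_isConj.1 (congrArg (fun c => c.1.1) h4)

theorem card_regCl_of_isComplement' {V K : Subgroup G} [V.Normal] (h : V.IsComplement' K)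
    (hV : IsPGroup p V) (hK : ¬ p ∣ Nat.card K) :
    Nat.card (RegCl p G) = Nat.card (ConjClasses K) := by
  rw [← card_regCl_of_not_dvd hK]
  refine le_antisymm (Nat.card_le_card_of_surjective (RegCl.map K.subtype) ?_) ?_
  · rintro ⟨_, x, rfl, hx⟩
    obtain ⟨k, hk⟩ := hV.exists_card_eq
    obtain ⟨n, -, hn⟩ := exists_le_conj_of_le_sup (N := V) (U := zpowers x) (S := K)
      le_normalizer_of_normal (h.sup_eq_top ▸ le_top)
      (by rw [hk, Nat.card_zpowers]; exact (hp.out.coprime_iff_not_dvd.2 hx).pow_left _)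
      (Or.inl (IsPGroup.isSolvable' hV))
    have h1 := mem_conj_smul.1 (hn (mem_zpowers x))
    exact ⟨⟨_, ⟨_, h1⟩, rfl, isPRegular_of_not_dvd_card hK _⟩, Subtype.ext
      (ConjClasses.mk_eq_mk_iff_isConj.2 (isConj_iff.2 ⟨n, by simp [mul_assoc]⟩))⟩
  · obtain ⟨f, hf, -⟩ := exists_hom_of_isComplement' h
    exact card_regCl_le (f := f) fun k => ⟨k, hf k⟩

theorem exists_matrix_rep_of_hom {W : Type*} [CommGroup W] [Finite W] (hW : ∀ x : W, x ^ p = 1)
    (σ : G →* MulAut W) :
    ∃ (n : ℕ) (ρ : G →* Matrix (Fin n) (Fin n) (ZMod p)) (e : W ≃ (Fin n → ZMod p)),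
      (∀ a b, e (a * b) = e a + e b) ∧ ∀ g v, ρ g *ᵥ e v = e (σ g v) := by
  obtain ⟨inst⟩ : Nonempty (Module (ZMod p) (Additive W)) :=
    ⟨AddCommGroup.zmodModule fun x => hW x.toMul⟩
  let b := Module.finBasis (ZMod p) (Additive W)
  let φ : G →* Module.End (ZMod p) (Additive W) :=
    { toFun := fun g => (MonoidHom.toAdditive (σ g).toMonoidHom).toZModLinearMap p
      map_one' := by ext; simp
      map_mul' := fun g h => by ext; simp }
  refine ⟨_, (LinearMap.toMatrixAlgEquiv b).toMonoidHom.comp φ,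
    Additive.ofMul.trans b.equivFun.toEquiv, fun a c => map_add b.equivFun _ _, fun g v => ?_⟩
  exact LinearMap.toMatrix_mulVec_repr b b (φ g) (Additive.ofMul v)

theorem exists_matrix_rep {V : Subgroup G} [V.Normal] (hV : IsElementaryAbelian p V) :
    ∃ (n : ℕ) (ρ : G →* Matrix (Fin n) (Fin n) (ZMod p)) (e : V ≃ (Fin n → ZMod p)),
      (∀ a b, e (a * b) = e a + e b) ∧ ∀ g v, ρ g *ᵥ e v = e (MulAut.conjNormal g v) :=
  haveI := hV.1
  exists_matrix_rep_of_hom (fun x => Subtype.ext (hV.2 _ x.2)) MulAut.conjNormal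

theorem nonempty_mulEquiv_affine {V K : Subgroup G} [V.Normal] (h : V.IsComplement' K)
    [IsMulCommutative V] (hC : centralizer (V : Set G) ≤ V) (a : G →* ZMod p) (e : V ≃ ZMod p)
    (he : ∀ u v, e (u * v) = e u + e v) (ha : ∀ g v, a g * e v = e (MulAut.conjNormal g v))
    (hs : ∀ c : ZMod p, c ≠ 0 → ∃ k ∈ K, a k = c) : Nonempty (G ≃* affineGroup (ZMod p)) := by
  obtain ⟨π, hπ, hπ', hV⟩ := exists_hom_of_isComplement' h
  have ht : ∀ g : G, g * (π g : G)⁻¹ ∈ V := fun g => by
    have := QuotientGroup.eq.1 (hπ' g)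
    simpa using ‹V.Normal›.conj_mem _ this (π g)
  have he1 : e 1 = 0 := by simpa using he 1 1
  let t : G → V := fun g => ⟨_, ht g⟩
  let ψ : G →* Function.End (ZMod p) :=
    { toFun := fun g x => a g * x + e (t g)
      map_one' := funext fun x => by
        rw [show t 1 = 1 from Subtype.ext (by simp [t]), he1, map_one, one_mul, add_zero]; rfl
      map_mul' := fun g g' => funext fun x => by
        have : t (g * g') = MulAut.conjNormal g (t g') * t g := Subtype.ext (by simp [t, mul_assoc])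
        change _ = a g * (a g' * x + e (t g')) + e (t g)
        rw [this, he, ← ha, map_mul]
        ring }
  let Ψ : G →* affineGroup (ZMod p) := ψ.toHomPerm.codRestrict _ fun g =>
    ⟨a.toHomUnits g, e (t g), fun x => rfl⟩
  refine ⟨MulEquiv.ofBijective Ψ ⟨(injective_iff_map_eq_one _).2 fun g hg => ?_, ?_⟩⟩
  · have h1 : ∀ x, a g * x + e (t g) = x := fun x => congrArg (fun σ => σ.1 x) hg
    have h2 : e (t g) = 0 := by simpa using h1 0
    have h3 : a g = 1 := by simpa [h2] using h1 1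
    have h4 : g ∈ V := hC fun v hv => by
      have := ha g ⟨v, hv⟩
      rw [h3, one_mul] at this
      have := congrArg Subtype.val (e.injective this)
      simp only [MulAut.conjNormal_apply] at this
      exact eq_mul_inv_iff_mul_eq.1 this
    have h5 := congrArg Subtype.val (e.injective (h2.trans he1.symm))
    simpa [t, show π g = 1 from hV h4] using h5
  · rintro ⟨σ, c, d, hσ⟩
    obtain ⟨k, hk, h1⟩ := hs c c.ne_zero
    obtain ⟨v, rfl⟩ := e.surjective d
    refine ⟨v * k, Subtype.ext (Equiv.ext fun x => ?_)⟩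
    have h2 : t (v * k) = v := Subtype.ext (by
      simp [t, show π v = 1 from hV v.2, hπ ⟨k, hk⟩])
    have h3 : a v = 1 := by
      have := ha v (e.symm 1)
      rwa [show MulAut.conjNormal (v : G) (e.symm 1) = e.symm 1 from Subtype.ext (by
        rw [MulAut.conjNormal_apply, ← coe_mul, mul_comm, coe_mul, mul_inv_cancel_right]),
        e.apply_symm_apply, mul_one] at this
    change a (v * k) * x + e (t (v * k)) = σ x
    rw [hσ, h2, map_mul, h3, h1, one_mul]

theorem twoPCl_core (hs : IsPSolvable p G) (hO : pPrimeCore p G = ⊥) (hd : p ∣ Nat.card G)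
    (hc : ∀ x y : G, x ≠ 1 → y ≠ 1 → IsPElt p x → IsPElt p y → IsConj x y) :
    p ≤ Nat.card (RegCl p G) ∨
      (Nat.card (RegCl p G) = p - 1 ∧ Nonempty (G ≃* affineGroup (ZMod p))) ∨
      (p = 11 ∧ Nat.card (RegCl p G) = 9 ∧ Nat.card G = 121 * 120 ∧ ∃ K : Subgroup G,
        IsFrobeniusComplement K ∧ Nonempty (K ≃* SpecialLinearGroup (Fin 2) (ZMod 5))) := by
  haveI : Nontrivial G := Finite.one_lt_card_iff_nontrivial.1
    (hp.out.one_lt.trans_le (Nat.le_of_dvd Nat.card_pos hd))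
  obtain ⟨V, hV, hVO⟩ := exists_isMinNormal_le inferInstance
    (pCore_ne_bot_of_pPrimeCore_eq_bot hs hO)
  haveI := hV.normal
  have hVp : IsPGroup p V := (isPGroup_pCore p G).to_le hVO
  have hVe := hV.isElementaryAbelian_of_isPGroup hVp
  haveI := hVe.1
  have hmem : ∀ x, IsPElt p x → x ∈ V := fun x hx => by
    by_cases h1 : x = 1
    · exact h1 ▸ one_mem _
    obtain ⟨⟨v, hv⟩, hv1⟩ := (ne_bot_iff_exists_ne_one).1 hV.ne_bot
    obtain ⟨g, rfl⟩ := isConj_iff.1
      (hc v x (fun h => hv1 (Subtype.ext h)) h1 (isPElt_of_mem hVp hv) hx)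
    exact hV.normal.conj_mem _ hv g
  have hi : ¬ p ∣ V.index := fun h => by
    obtain ⟨y, hy⟩ := exists_prime_orderOf_dvd_card' (G := G ⧸ V) p h
    obtain ⟨x, hx, rfl⟩ := IsPElt.exists_lift (QuotientGroup.mk'_surjective V)
      ⟨1, hy.trans (pow_one p).symm⟩
    rw [QuotientGroup.mk'_apply, (QuotientGroup.eq_one_iff _).2 (hmem x hx), orderOf_one] at hy
    exact hp.out.one_lt.ne hy
  have hC : centralizer (V : Set G) ≤ V := by
    have h1 : pCore p G = V := le_antisymm
      (fun x hx => hmem x (isPElt_of_mem (isPGroup_pCore p G) hx)) hVO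
    exact h1 ▸ centralizer_pCore_le hs hO
  obtain ⟨K, hK⟩ := exists_right_complement'_of_coprime (N := V) (by
    obtain ⟨k, hk⟩ := hVp.exists_card_eq
    rw [hk]
    exact (hp.out.coprime_iff_not_dvd.2 hi).pow_left _)
  have hKp : ¬ p ∣ Nat.card K := hK.symm.index_eq_card ▸ hi
  obtain ⟨n, ρ, e, he, hρ⟩ := exists_matrix_rep hVe
  have he1 : e 1 = 0 := by simpa using he 1 1
  have hcV : Nat.card V = p ^ n := by rw [Nat.card_congr e]; simp
  have hfix : ∀ (g : G) (v : V), ρ g *ᵥ e v = e v ↔ (v : G) * g = g * v := fun g v => by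
    rw [hρ, e.apply_eq_iff_eq, Subtype.ext_iff, MulAut.conjNormal_apply, mul_inv_eq_iff_eq_mul,
      eq_comm]
  have T : TL p (ρ.comp K.subtype) :=
    { inj := (injective_iff_map_eq_one _).2 fun k hk => Subtype.ext
        (disjoint_def.1 hK.disjoint (hC fun v hv => (hfix k ⟨v, hv⟩).1 (by
          rw [show ρ k = 1 from hk, one_mulVec])) k.2)
      cop := hKp
      pos := Nat.pos_of_ne_zero fun h => hV.one_lt_card.ne' (by rw [hcV, h, pow_zero])
      trans := fun v w hv hw => by
        obtain ⟨v, rfl⟩ := e.surjective v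
        obtain ⟨w, rfl⟩ := e.surjective w
        have hne : ∀ {u : V}, e u ≠ 0 → (u : G) ≠ 1 := fun hu h =>
          hu (by rw [← he1]; exact congrArg e (Subtype.ext h))
        obtain ⟨g, hg⟩ := isConj_iff.1
          (hc v w (hne hv) (hne hw) (isPElt_of_mem hVp v.2) (isPElt_of_mem hVp w.2))
        obtain ⟨k, hk, u, hu, rfl⟩ := (mem_sup_of_le_normalizer_right le_normalizer_of_normal).1
          (show g ∈ K ⊔ V from hK.symm.sup_eq_top ▸ mem_top g)
        refine ⟨⟨k, hk⟩, (hρ k v).trans (congrArg e (Subtype.ext ?_))⟩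
        rw [MulAut.conjNormal_apply, ← hg, mul_assoc k u, setLike_mul_comm (s := V) hu v.2]
        group }
  rw [card_regCl_of_isComplement' hK hVp hKp]
  have hle := Nat.le_of_dvd Nat.card_pos T.dvd_card
  by_cases hn : n = 1
  · subst hn
    refine Or.inr (Or.inl ⟨?_, ?_⟩)
    · let a : K →* (ZMod p)ˣ := (Matrix.detMonoidHom.comp (ρ.comp K.subtype)).toHomUnits
      have ha : Function.Injective a := fun x y h => T.inj (by
        have h1 : (ρ x).det = (ρ y).det := congrArg Units.val h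
        rw [det_fin_one, det_fin_one] at h1
        ext i j
        rwa [Subsingleton.elim i 0, Subsingleton.elim j 0])
      have h1 := Nat.card_le_card_of_injective _ ha
      rw [Nat.card_eq_fintype_card (α := (ZMod p)ˣ), ZMod.card_units] at h1
      have h2 := card_le_card_conjClasses_mul_sq (A := (⊤ : Subgroup K)) fun x _ y _ =>
        ha (by rw [map_mul, map_mul, mul_comm])
      have h3 := Nat.card_le_card_of_surjective _ (ConjClasses.mk_surjective (α := K))
      rw [index_top] at h2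
      rw [pow_one] at hle
      omega
    · refine nonempty_mulEquiv_affine hK hC (Matrix.detMonoidHom.comp ρ)
        (e.trans (Equiv.funUnique _ _)) (fun u v => congrFun (he u v) _) (fun g v => ?_)
        fun c hc => ?_
      · have := congrFun (hρ g v) 0
        rw [mulVec, dotProduct, Fin.sum_univ_one] at this
        exact (congrArg (· * _) (det_fin_one _)).trans this
      · obtain ⟨k, hk⟩ := T.trans (fun _ => 1) (fun _ => c) (fun h => one_ne_zero (congrFun h 0))
          fun h => hc (congrFun h 0)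
        have := congrFun hk 0
        rw [mulVec, dotProduct, Fin.sum_univ_one, mul_one] at this
        exact ⟨k, k.2, (det_fin_one _).trans this⟩
  have hn2 : 2 ≤ n := by have := T.pos; omega
  by_cases h5 : p < 5
  · refine Or.inl ?_
    have h1 : 4 ≤ p ^ n := (Nat.pow_le_pow_left hp.out.two_le 2).trans
      (Nat.pow_le_pow_right hp.out.pos hn2)
    have h2 : p ≠ 4 := by rintro rfl; exact absurd hp.out (by norm_num)
    by_contra h3
    have := BT.card_le_of_card_conjClasses_le_two (B := K) (by omega)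
    omega
  rcases hn2.eq_or_lt with h2 | h2
  · rcases T.le_or_of_eq_two (by omega) h2.symm with h | ⟨rfl, h3, ⟨f⟩⟩
    · exact Or.inl h
    subst h2
    refine Or.inr (Or.inr ⟨rfl, ?_, ?_, K, ?_, ⟨f⟩⟩)
    · rw [← card_irr_eq_card_conjClasses, ← card_conjClasses_sl25, ← card_irr_eq_card_conjClasses]
      exact Nat.card_congr (irrCongr f)
    · rw [← hK.card_mul_card, hcV, h3]; rfl
    · refine FrobAct.isFrobeniusComplement ⟨le_normalizer_of_normal, fun k hk hk1 v hv h => ?_⟩
        hK.sup_eq_top (fun h => by simp [h] at h3) hV.ne_bot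
      by_contra h4
      refine hk1 (congrArg Subtype.val (T.eq_one_of_card h3 (g := ⟨k, hk⟩) (v := e ⟨v, hv⟩)
        (fun h => h4 ?_) ((hfix k ⟨v, hv⟩).2 h)))
      exact congrArg Subtype.val (e.injective (h.trans he1.symm))
  · exact Or.inl (T.le_of_three_le (by omega) h2)

theorem false_of_one_extra_class {N : Subgroup G} [hN : N.Normal] (h1 : N ≠ ⊥)
    (h11 : ¬ 11 ∣ Nat.card N) (hi : N.index = 14520)
    (h : ∀ x y : G, x ≠ 1 → y ≠ 1 → IsPRegular 11 x → IsPRegular 11 y →
      IsConj (x : G ⧸ N) (y : G ⧸ N) → IsConj x y)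
    (hw : ∃ w : G ⧸ N, orderOf w = 10) (hab : ∃ a b : G ⧸ N, ⁅a, b⁆ ≠ 1 ∧ IsPRegular 11 ⁅a, b⁆) :
    False := by
  haveI : Fact (Nat.Prime 11) := ⟨by norm_num⟩
  have hreg : ∀ x : G, IsPRegular 11 (x : G ⧸ N) ↔ IsPRegular 11 x := fun x =>
    isPRegular_map_iff_of_ker (f := QuotientGroup.mk' N) (by rwa [QuotientGroup.ker_mk'])
  have hG := N.card_mul_index
  rw [hi] at hG
  have hN1 : 1 < Nat.card N := (one_lt_card_iff_ne_bot _).2 h1
  have hcN : ∀ x ∈ N, ∀ y ∈ N, x ≠ 1 → y ≠ 1 → IsConj x y := fun x hx y hy h2 h3 =>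
    h x y h2 h3 (isPRegular_of_mem h11 hx) (isPRegular_of_mem h11 hy) (by
      rw [(QuotientGroup.eq_one_iff _).2 hx, (QuotientGroup.eq_one_iff _).2 hy])
  have hord : ∀ r : ℕ, r.Prime → r ∣ Nat.card N → ∀ y ∈ N, y ≠ 1 → orderOf y = r := by
    intro r hr hd y hy hy1
    haveI := Fact.mk hr
    obtain ⟨x, hx⟩ := exists_prime_orderOf_dvd_card' r hd
    rw [← orderOf_coe] at hx
    rw [← hx]
    refine orderOf_eq_of_isConj (hcN _ hy _ x.2 hy1 fun h => ?_)
    rw [h, orderOf_one] at hx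
    exact hr.one_lt.ne hx
  obtain ⟨q, hq, hqN⟩ := Nat.exists_prime_and_dvd hN1.ne'
  haveI := Fact.mk hq
  obtain ⟨⟨x₀, hx₀⟩, hx₁⟩ := ne_bot_iff_exists_ne_one.1 h1
  replace hx₁ : x₀ ≠ 1 := fun h => hx₁ (Subtype.ext h)
  have hu : ∀ r : ℕ, r.Prime → r ∣ Nat.card N → r = q := fun r hr hd =>
    (hord r hr hd _ hx₀ hx₁).symm.trans (hord q hq hqN _ hx₀ hx₁)
  have hNq : IsPGroup q N := isPGroup_iff_forall_isPElt.2 fun y hy => by
    by_cases hy1 : y = 1
    · exact hy1 ▸ isPElt_one
    · exact ⟨1, by rw [hord q hq hqN y hy hy1, pow_one]⟩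
  obtain ⟨m, hm⟩ := hNq.exists_card_eq
  have hd : Nat.card N - 1 ∣ 14520 := by
    have h2 : Nat.card {x : G // IsConj x₀ x} = Nat.card N - 1 := by
      have h3 : {x : G | IsConj x₀ x} = (N : Set G) \ {1} := by
        ext y
        refine ⟨fun hy => ?_, fun hy => hcN _ hx₀ _ hy.1 hx₁ hy.2⟩
        obtain ⟨g, rfl⟩ := isConj_iff.1 hy
        exact ⟨hN.conj_mem _ hx₀ g, by simpa using hx₁⟩
      change Set.ncard {x : G | IsConj x₀ x} = _
      rw [h3, Set.ncard_sdiff_singleton_of_mem N.one_mem]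
      rfl
    have h3 := (centralizer ({x₀} : Set G)).index_dvd_card
    rw [← card_conj_eq_index, h2, ← hG] at h3
    exact ((Nat.coprime_self_sub_left hN1.le).2 (Nat.coprime_one_left _)).dvd_of_dvd_mul_left h3
  have hc : ∀ x ∉ N, IsPRegular 11 x → ∀ n ∈ N, IsConj x (x * n) := fun x hx hxr n hn => by
    have h2 : ((x * n : G) : G ⧸ N) = x := by
      rw [QuotientGroup.mk_mul, (QuotientGroup.eq_one_iff _).2 hn, mul_one]
    exact h _ _ (fun h => hx (h ▸ one_mem _)) (fun h => hx ((mul_mem_cancel_right hn).1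
      (h ▸ one_mem _))) hxr ((hreg _).1 (h2 ▸ (hreg _).2 hxr)) (by rw [h2])
  have hfpf : ∀ x ∉ N, IsPRegular 11 x → IsPRegular q x → ∀ n ∈ N, n * x = x * n → n = 1 := by
    intro x hx hxr hxq n hn hcm
    by_contra hn1
    have h2 := pow_orderOf_eq_one (x * n)
    rw [← orderOf_eq_of_isConj (hc x hx hxr n hn), (show Commute x n from hcm.symm).mul_pow,
      pow_orderOf_eq_one, one_mul, ← orderOf_dvd_iff_pow_eq_one, hord q hq hqN n hn hn1] at h2
    exact hxq h2
  have hF : ∀ S : Subgroup G, ¬ 11 ∣ Nat.card S → ¬ q ∣ Nat.card S → FrobAct S N :=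
    fun S h2 h3 => ⟨le_normalizer_of_normal, fun x hx hx1 => hfpf x
      (fun h => hx1 (disjoint_def.1 (disjoint_of_isPGroup_of_not_dvd hNq h3) h hx))
      (isPRegular_of_mem h2 hx) (isPRegular_of_mem h3 hx)⟩
  have hS : ∀ s k : ℕ, s.Prime → s ≠ 11 → s ≠ q → s ^ k ∣ 14520 → s ^ k ∣ Nat.card N - 1 := by
    intro s k hs h2 h3 h4
    haveI := Fact.mk hs
    obtain ⟨S⟩ : Nonempty (Sylow s G) := inferInstance
    obtain ⟨j, hj⟩ := S.isPGroup'.exists_card_eq
    have h5 : ∀ r : ℕ, r.Prime → s ≠ r → ¬ r ∣ Nat.card S := fun r hr h6 h7 =>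
      h6 ((Nat.prime_dvd_prime_iff_eq hr hs).1 (hr.dvd_of_dvd_pow (hj ▸ h7))).symm
    exact (S.pow_dvd_card_of_pow_dvd_card (hG ▸ h4.mul_left _)).trans
      (hF S (h5 11 (by norm_num) h2) (h5 q hq h3)).card_dvd_sub_one
  have hC : ∀ x ∉ N, IsPRegular 11 x → Nat.card (centralizer ({x} : Set G)) ∣ 14520 := by
    intro x hx hxr
    have h2 := card_dvd_ncard_of_free (H := N) {y : G | IsConj x y} (fun n y hy => by
      obtain ⟨g, rfl⟩ := isConj_iff.1 hy
      refine (hc x hx hxr _ (hN.conj_mem' _ n.2 (g * x))).trans (isConj_iff.2 ⟨g, ?_⟩)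
      change _ = n * (g * x * g⁻¹)
      group) fun y _ n hn => Subtype.ext (mul_eq_right.1 hn)
    have h3 := (centralizer ({x} : Set G)).card_mul_index
    obtain ⟨t, ht⟩ := h2
    rw [← card_conj_eq_index, ← hG, show Nat.card {y // IsConj x y} = _ from ht,
      mul_left_comm] at h3
    exact ⟨t, (Nat.eq_of_mul_eq_mul_left Nat.card_pos h3).symm⟩
  obtain ⟨w', hw⟩ := hw
  obtain ⟨w, rfl⟩ := QuotientGroup.mk_surjective w'
  have hwr : IsPRegular 11 w := (hreg w).1 (by rw [isPRegular_iff, hw]; norm_num)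
  have hx : q ∣ 10 → pPart q w ∉ N := fun h2 h3 => pPart_ne_one_iff.2 (hw ▸ h2) (by
    rw [← mk_pPart, QuotientGroup.eq_one_iff]; exact h3)
  have hxr := hwr.of_mem_zpowers (pPart_mem_zpowers q w)
  have hD : N ⊓ centralizer {pPart q w} ≠ ⊥ := by
    have := inf_centralizer_ne_bot_of_isPGroup (isPElt_pPart q w).isPGroup_zpowers hNq h1
      le_normalizer_of_normal
    rwa [zpowers_eq_closure, centralizer_closure] at this
  have hle := Nat.le_of_dvd (by norm_num) hd
  have hlt : ∀ k, 14521 < q ^ k → m < k := fun k hk =>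
    (Nat.pow_lt_pow_iff_right hq.one_lt).1 (by omega)
  by_cases h2 : q = 2
  · subst h2
    have h3 := hS 3 1 (by norm_num) (by norm_num) (by norm_num) (by norm_num)
    have h5 := hS 5 1 (by norm_num) (by norm_num) (by norm_num) (by norm_num)
    have h6 := hlt 14 (by norm_num)
    obtain rfl : m = 4 := by
      rw [hm] at h3 h5 hd hN1
      clear * - h3 h5 hd hN1 h6
      interval_cases m <;> simp_all
    have hy := isPRegular_pRegPart 2 w
    have h7 := ((hF (zpowers (pRegPart 2 w)) (by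
      rw [Nat.card_zpowers]; exact hwr.of_mem_zpowers (pRegPart_mem_zpowers 2 w))
      (by rwa [Nat.card_zpowers])).of_le (M := N ⊓ centralizer {pPart 2 w}) inf_le_left
      ((le_inf le_normalizer_of_normal ((zpowers_le.2 (pRegPart_mem_centralizer_pPart 2 w)).trans
        le_normalizer)).trans inf_normalizer_le_normalizer_inf)).card_dvd_sub_one
    have h8 : 5 ∣ Nat.card (zpowers (pRegPart 2 w)) := by
      have := orderOf_map_dvd (QuotientGroup.mk' N) (pRegPart 2 w)
      rw [QuotientGroup.mk'_apply, mk_pRegPart, orderOf_pRegPart, hw,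
        show Nat.factorization 10 2 = 1 by decide +kernel] at this
      rwa [Nat.card_zpowers]
    have h9 := card_dvd_of_le (inf_le_left : N ⊓ centralizer {pPart 2 w} ≤ N)
    have h10 := (card_dvd_of_le (H := N ⊓ _) inf_le_right).trans (hC _ (hx (by norm_num)) hxr)
    have h12 := (one_lt_card_iff_ne_bot _).2 hD
    have h13 := h8.trans h7
    rw [hm] at h9
    have h14 := Nat.le_of_dvd (by norm_num) h9
    generalize Nat.card ↥(N ⊓ centralizer {pPart 2 w}) = c at *
    clear * - h9 h10 h12 h13 h14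
    interval_cases c <;> simp_all
  have h8 := hS 2 3 (by norm_num) (by norm_num) (Ne.symm h2) (by norm_num)
  by_cases h3 : q = 3
  · subst h3
    have h5 := hS 5 1 (by norm_num) (by norm_num) (by norm_num) (by norm_num)
    have h6 := hlt 9 (by norm_num)
    rw [hm] at h8 h5 hd hN1
    clear * - h8 h5 hd hN1 h6
    interval_cases m <;> simp_all
  have h4 := hS 3 1 (by norm_num) (by norm_num) (Ne.symm h3) (by norm_num)
  by_cases h5 : q = 5
  · subst h5
    have h6 : zpowers (pPart 5 w) ≤ centralizer {pPart 5 w} :=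
      zpowers_le.2 (mem_centralizer_singleton_iff.2 rfl)
    have h7 : IsPGroup 5 ↥(zpowers (pPart 5 w) ⊔ N ⊓ centralizer {pPart 5 w}) :=
      (isPElt_pPart 5 w).isPGroup_zpowers.to_sup_of_normal_right' (hNq.to_le inf_le_left)
        ((le_inf le_normalizer_of_normal (h6.trans le_normalizer)).trans
          inf_normalizer_le_normalizer_inf)
    obtain ⟨j, hj⟩ := h7.exists_card_eq
    have h9 := (card_dvd_of_le (H := _ ⊔ N ⊓ _) (sup_le h6 inf_le_right)).trans
      (hC _ (hx (by norm_num)) hxr)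
    have h10 : Nat.card ↥(N ⊓ centralizer {pPart 5 w}) < 5 ^ j := hj ▸ card_lt_of_lt
      (lt_of_le_of_ne le_sup_right fun h => hx (by norm_num)
        (inf_le_left (a := N) (h ▸ mem_sup_left (mem_zpowers _))))
    have h12 := Nat.le_of_dvd Nat.card_pos (((hNq.to_le inf_le_left).card_eq_or_dvd.resolve_left
      ((one_lt_card_iff_ne_bot _).2 hD).ne'))
    have h13 : 1 < j := (Nat.pow_lt_pow_iff_right (a := 5) (by norm_num)).1 (h12.trans_lt h10)
    exact absurd ((pow_dvd_pow 5 h13).trans (hj ▸ h9)) (by norm_num)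
  have h6 := hS 5 1 (by norm_num) (by norm_num) (Ne.symm h5) (by norm_num)
  obtain ⟨e, he⟩ : 120 ∣ Nat.card N - 1 := by omega
  have h7 : e ∣ 11 ^ 2 := by
    rw [he] at hd
    exact Nat.dvd_of_mul_dvd_mul_left (by norm_num : 0 < 120) hd
  obtain ⟨i, hi2, rfl⟩ := (Nat.dvd_prime_pow (by norm_num)).1 h7
  interval_cases i
  · omega
  · have h9 : Nat.card N = 1321 := by omega
    haveI : Fact (Nat.Prime 1321) := ⟨by norm_num⟩
    obtain rfl := hu 1321 Fact.out (h9 ▸ dvd_rfl)
    haveI := isCyclic_of_prime_card h9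
    haveI := isMulCommutative_mulAut (G := N)
    obtain ⟨a', b', h10, h12⟩ := hab
    obtain ⟨a, rfl⟩ := QuotientGroup.mk'_surjective N a'
    obtain ⟨b, rfl⟩ := QuotientGroup.mk'_surjective N b'
    rw [← map_commutatorElement] at h10 h12
    have h13 : Commute ⁅a, b⁆ x₀ := by
      have : MulAut.conjNormal (H := N) ⁅a, b⁆ = 1 := by
        rw [map_commutatorElement, commutatorElement_eq_one_iff_mul_comm, mul_comm]
      exact mul_inv_eq_iff_eq_mul.1 (congrArg (fun σ : MulAut N => (σ ⟨x₀, hx₀⟩ : G)) this)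
    refine hx₁ (hfpf (pRegPart 1321 ⁅a, b⁆) (fun h => h10 ?_)
      (((hreg _).1 h12).of_mem_zpowers (pRegPart_mem_zpowers _ _)) (isPRegular_pRegPart _ _) _ hx₀
      (commute_pRegPart_left _ h13).symm)
    rw [← QuotientGroup.eq_one_iff, mk_pRegPart, IsPRegular.pRegPart_eq
      (isPRegular_of_not_dvd_card (by rw [← index_eq_card, hi]; norm_num) _)] at h
    exact h
  · have h9 : Nat.card N = 14521 := by omega
    have := (hu 13 (by norm_num) (by rw [h9]; norm_num)).trans
      (hu 1117 (by norm_num) (by rw [h9]; norm_num)).symm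
    omega

theorem twoPCl (hs : IsPSolvable p G) (hd : p ∣ Nat.card G)
    (hc : ∀ x y : G, x ≠ 1 → y ≠ 1 → IsPElt p x → IsPElt p y → IsConj x y) :
    p ≤ Nat.card (RegCl p G) ∨
      (Nat.card (RegCl p G) = p - 1 ∧ Nonempty (G ≃* affineGroup (ZMod p))) ∨
      (p = 11 ∧ Nat.card (RegCl p G) = 9 ∧ Nat.card G = 121 * 120 ∧ ∃ K : Subgroup G,
        IsFrobeniusComplement K ∧ Nonempty (K ≃* SpecialLinearGroup (Fin 2) (ZMod 5))) := by
  by_cases hO : pPrimeCore p G = ⊥
  · exact twoPCl_core hs hO hd hc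
  refine Or.inl ?_
  have hf := QuotientGroup.mk'_surjective (pPrimeCore p G)
  have hN := not_dvd_card_pPrimeCore p G
  obtain ⟨⟨a, ha⟩, ha1⟩ := ne_bot_iff_exists_ne_one.1 hO
  obtain ⟨h1, h2⟩ := card_regCl_lt hf (fun h => ha1 (Subtype.ext h)) (isPRegular_of_mem hN ha)
    ((QuotientGroup.eq_one_iff _).2 ha)
  rcases twoPCl_core (isPSolvable_quotient hs _) (pPrimeCore_quotient_pPrimeCore p G)
    ((hp.out.dvd_mul.1 ((pPrimeCore p G).card_mul_index ▸ hd)).resolve_left hN)
    (fun x y hx hy hx' hy' => by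
      obtain ⟨x, h3, rfl⟩ := hx'.exists_lift hf
      obtain ⟨y, h4, rfl⟩ := hy'.exists_lift hf
      exact (QuotientGroup.mk' _).map_isConj (hc x y (fun h => hx (by rw [h, map_one]))
        (fun h => hy (by rw [h, map_one])) h3 h4)) with h | ⟨h, -⟩ | ⟨rfl, h3, h4, K, -, ⟨e⟩⟩
  · omega
  · omega
  by_contra h5
  let ι := K.subtype.comp e.symm.toMonoidHom
  have hι : Function.Injective ι := K.subtype_injective.comp e.symm.injective
  refine false_of_one_extra_class hO hN h4 (h2 (by omega)) ?_ ?_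
  · obtain ⟨g, hg⟩ := exists_orderOf_sl25
    exact ⟨ι g, by rw [orderOf_injective ι hι, hg]⟩
  · by_contra h6
    push Not at h6
    have h7 : commutator (SpecialLinearGroup (Fin 2) (ZMod 5)) ≤ ⊥ := by
      rw [commutator_def, commutator_le]
      intro a _ b _
      by_contra h8
      refine h6 (ι a) (ι b) ?_ ?_ <;> rw [← map_commutatorElement]
      · exact fun h => h8 (hι (h.trans (map_one ι).symm))
      · exact (isPRegular_of_not_dvd_card (by rw [card_sl25]; norm_num) _).map ι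
    rw [commutator_sl25] at h7
    exact dCov_sl25.ne (h7 (mem_top _))

end LG
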