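import Cfsg.Agent.Lib.Lin.RankThree3
import Cfsg.Agent.Lib.Lin.TwoPCl

/-!
# `p`-solvable groups with three classes of `p`-elements
-/

set_option autoImplicit false
set_option linter.unusedSectionVars false
set_option linter.style.haveILetI false

namespace LG

open Cfsg CT GT Subgroup Matrix
open scoped commutatorElement Pointwise IsMulCommutative

variable {G : Type*} [Group G] [Finite G] {p : ℕ} [hp : Fact p.Prime]

theorem R3.two_mul_card {V : Type*} [AddCommGroup V] [Module (ZMod p) V] [Module.Finite (ZMod p) V]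
    {ρ : Representation (ZMod p) G V} [MulAction G V] {v₁ v₂ : V} (T : R3 ρ v₁ v₂)
    (hn : Module.finrank (ZMod p) V = 1) :
    2 * Nat.card G = p - 1 ∧ Nat.card (ConjClasses G) = Nat.card G := by
  have h1 := (finrank_eq_one_iff_of_nonzero' v₁ T.ne₁).1 hn
  have hc : ∀ a b : G, a * b = b * a := fun a b => T.inj (LinearMap.ext fun w => by
    obtain ⟨c, rfl⟩ := h1 w
    obtain ⟨α, hα⟩ := h1 (ρ a v₁)
    obtain ⟨β, hβ⟩ := h1 (ρ b v₁)
    simp only [map_mul, Module.End.mul_apply, map_smul, ← hα, ← hβ, smul_comm α β])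
  have h2 : ∀ v : V, v ≠ 0 → (MulAction.stabilizer G v).index = Nat.card G := fun v hv => by
    haveI : (MulAction.stabilizer G v).Normal := ⟨fun n hn g => by
      rwa [hc g, mul_inv_cancel_right]⟩
    rw [T.eq_bot_of_normal (N := MulAction.stabilizer G v) hv fun g hg => (T.smul g v).symm.trans hg,
      index_bot]
  have h3 := T.pow_eq
  rw [h2 _ T.ne₁, h2 _ T.ne₂, hn, pow_one] at h3
  have h4 := card_le_card_conjClasses_mul_sq (A := (⊤ : Subgroup G)) fun x _ y _ => hc x y
  have h5 := Nat.card_le_card_of_surjective _ (ConjClasses.mk_surjective (α := G))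
  rw [index_top] at h4
  omega

theorem exists_injective_affine {V K : Subgroup G} [V.Normal] (h : V.IsComplement' K)
    (hC : centralizer (V : Set G) ≤ V) (a : G →* ZMod p) (e : V ≃ ZMod p)
    (he : ∀ u v, e (u * v) = e u + e v) (ha : ∀ g v, a g * e v = e (MulAut.conjNormal g v)) :
    ∃ f : G →* affineGroup (ZMod p), Function.Injective f := by
  obtain ⟨π, hπ, hπ', hV⟩ := exists_hom_of_isComplement' h
  have ht : ∀ g : G, g * (π g : G)⁻¹ ∈ V := fun g => by
    have := QuotientGroup.eq.1 (hπ' g)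
    simpa using ‹V.Normal›.conj_mem _ this (π g)
  have he1 : e 1 = 0 := by simpa using he 1 1
  let t : G → V := fun g => ⟨_, ht g⟩
  let ψ : G →* Function.End (ZMod p) :=
    { toFun := fun g x => a g * x + e (t g)
      map_one' := funext fun x => by
        rw [show t 1 = 1 from Subtype.ext (by simp [t]), he1, map_one, one_mul, add_zero]; rfl
      map_mul' := fun g g' => funext fun x => by
        have : t (g * g') = MulAut.conjNormal g (t g') * t g := Subtype.ext (by simp [t, mul_assoc])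
        change _ = a g * (a g' * x + e (t g')) + e (t g)
        rw [this, he, ← ha, map_mul]
        ring }
  refine ⟨ψ.toHomPerm.codRestrict _ fun g => ⟨a.toHomUnits g, e (t g), fun x => rfl⟩,
    (injective_iff_map_eq_one _).2 fun g hg => ?_⟩
  have h1 : ∀ x, a g * x + e (t g) = x := fun x => congrArg (fun σ => σ.1 x) hg
  have h2 : e (t g) = 0 := by simpa using h1 0
  have h3 : a g = 1 := by simpa [h2] using h1 1
  have h4 : g ∈ V := hC fun v hv => by
    have := ha g ⟨v, hv⟩
    rw [h3, one_mul] at this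
    have := congrArg Subtype.val (e.injective this)
    simp only [MulAut.conjNormal_apply] at this
    exact eq_mul_inv_iff_mul_eq.1 this
  have h5 := congrArg Subtype.val (e.injective (h2.trans he1.symm))
  simpa [t, show π g = 1 from hV h4] using h5

theorem lt_two_mul_of_conj (hs : IsPSolvable p G) (hd : p ∣ Nat.card G)
    (hc : ∀ x y : G, x ≠ 1 → y ≠ 1 → IsPElt p x → IsPElt p y → IsConj x y) :
    p - 1 < 2 * Nat.card (RegCl p G) := by
  have := hp.out.two_le
  rcases twoPCl hs hd hc with h | ⟨h, -⟩ | ⟨h, h', -⟩ <;> omega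

theorem threePCl_core (hs : IsPSolvable p G) (hO : pPrimeCore p G = ⊥) (hd : p ∣ Nat.card G)
    {x₁ x₂ : G} (hc : ∀ x : G, x ≠ 1 → IsPElt p x → IsConj x₁ x ∨ IsConj x₂ x) :
    p - 1 < 2 * Nat.card (RegCl p G) ∨ (2 * Nat.card (RegCl p G) = p - 1 ∧
      2 * Nat.card G = p * (p - 1) ∧ ∃ f : G →* affineGroup (ZMod p), Function.Injective f) := by
  by_cases hall : ∀ x y : G, x ≠ 1 → y ≠ 1 → IsPElt p x → IsPElt p y → IsConj x y
  · exact Or.inl (lt_two_mul_of_conj hs hd hall)
  push Not at hall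
  obtain ⟨y₁, y₂, h₁, h₂, h₁', h₂', hy⟩ := hall
  replace hc : ∀ x : G, x ≠ 1 → IsPElt p x → IsConj y₁ x ∨ IsConj y₂ x := fun x hx hx' => by
    rcases hc y₁ h₁ h₁' with a | a <;> rcases hc y₂ h₂ h₂' with b | b
    · exact absurd (a.symm.trans b) hy
    · exact (hc x hx hx').imp a.symm.trans b.symm.trans
    · exact (hc x hx hx').symm.imp a.symm.trans b.symm.trans
    · exact absurd (a.symm.trans b) hy
  haveI : Nontrivial G := nontrivial_of_ne _ _ h₁
  obtain ⟨V, hV, hVO⟩ := exists_isMinNormal_le inferInstance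
    (pCore_ne_bot_of_pPrimeCore_eq_bot hs hO)
  haveI := hV.normal
  have hVp : IsPGroup p V := (isPGroup_pCore p G).to_le hVO
  have hVe := hV.isElementaryAbelian_of_isPGroup hVp
  haveI := hVe.1
  by_cases hi : p ∣ V.index
  · have hf := QuotientGroup.mk'_surjective V
    refine Or.inl ((lt_two_mul_of_conj (isPSolvable_quotient hs V) hi fun x y hx hy hx' hy' => ?_).trans_le
      (Nat.mul_le_mul_left _ (card_regCl_le hf)))
    obtain ⟨x, h3, rfl⟩ := hx'.exists_lift hf
    obtain ⟨y, h4, rfl⟩ := hy'.exists_lift hf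
    obtain ⟨⟨v, hv⟩, hv1⟩ := (ne_bot_iff_exists_ne_one).1 hV.ne_bot
    have h5 : ∀ {z w : G}, IsConj z v → IsConj z w → QuotientGroup.mk' V w = 1 := fun h h' => by
      obtain ⟨g, rfl⟩ := isConj_iff.1 (h.symm.trans h')
      exact (QuotientGroup.eq_one_iff _).2 (hV.normal.conj_mem _ hv g)
    have h6 := hc x (fun h => hx (by rw [h, map_one])) h3
    have h7 := hc y (fun h => hy (by rw [h, map_one])) h4
    refine (QuotientGroup.mk' V).map_isConj ?_
    rcases hc v (fun h => hv1 (Subtype.ext h)) (isPElt_of_mem hVp hv) with h | h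
    · exact (h6.resolve_left fun e => hx (h5 h e)).symm.trans (h7.resolve_left fun e => hy (h5 h e))
    · exact (h6.resolve_right fun e => hx (h5 h e)).symm.trans
        (h7.resolve_right fun e => hy (h5 h e))
  have hmem : ∀ x, IsPElt p x → x ∈ V := fun x hx => by
    by_contra h
    exact hi (((hx.map (QuotientGroup.mk' V)).dvd_orderOf
      (mt (QuotientGroup.eq_one_iff _).1 h)).trans (orderOf_dvd_natCard _))
  have hC : centralizer (V : Set G) ≤ V := by
    have h1 : pCore p G = V := le_antisymm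
      (fun x hx => hmem x (isPElt_of_mem (isPGroup_pCore p G) hx)) hVO
    exact h1 ▸ centralizer_pCore_le hs hO
  obtain ⟨K, hK⟩ := exists_right_complement'_of_coprime (N := V) (by
    obtain ⟨k, hk⟩ := hVp.exists_card_eq
    rw [hk]
    exact (hp.out.coprime_iff_not_dvd.2 hi).pow_left _)
  have hKp : ¬ p ∣ Nat.card K := hK.symm.index_eq_card ▸ hi
  obtain ⟨n, ρ, e, he, hρ⟩ := exists_matrix_rep hVe
  have he1 : e 1 = 0 := by simpa using he 1 1
  have hcV : Nat.card V = p ^ n := by rw [Nat.card_congr e]; simp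
  let σ : Representation (ZMod p) K (Fin n → ZMod p) :=
    Matrix.toLinAlgEquiv'.toMonoidHom.comp (ρ.comp K.subtype)
  have hσ : ∀ (k : K) (v : V), σ k (e v) = e (MulAut.conjNormal (k : G) v) := fun k v => hρ k v
  letI : MulAction K (Fin n → ZMod p) := MulAction.compHom _ σ
  have hne : ∀ {u : V}, e u = 0 ↔ (u : G) = 1 := fun {u} => by
    rw [← he1, e.apply_eq_iff_eq, Subtype.ext_iff, coe_one]
  have horb : ∀ u v : V, e v ∈ MulAction.orbit K (e u) ↔ IsConj (u : G) v := fun u v => by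
    refine ⟨fun ⟨k, hk⟩ => isConj_iff.2 ⟨k, congrArg Subtype.val
      (e.injective ((hσ k u).symm.trans hk))⟩, fun h => ?_⟩
    obtain ⟨g, hg⟩ := isConj_iff.1 h
    obtain ⟨k, hk, w, hw, rfl⟩ := (mem_sup_of_le_normalizer_right le_normalizer_of_normal).1
      (show g ∈ K ⊔ V from hK.symm.sup_eq_top ▸ mem_top g)
    refine ⟨⟨k, hk⟩, (hσ _ u).trans (congrArg e (Subtype.ext ?_))⟩
    rw [MulAut.conjNormal_apply, ← hg, mul_assoc k w, setLike_mul_comm (s := V) hw u.2]
    group
  have T : R3 σ (e ⟨y₁, hmem _ h₁'⟩) (e ⟨y₂, hmem _ h₂'⟩) :=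
    { fix := fun g => map_zero (σ g)
      ne₁ := mt hne.1 h₁
      ne₂ := mt hne.1 h₂
      ne := mt (horb _ _).1 hy
      cover := fun w hw => by
        obtain ⟨w, rfl⟩ := e.surjective w
        exact (hc w (mt hne.2 hw) (isPElt_of_mem hVp w.2)).imp (horb _ _).2 (horb _ _).2
      smul := fun _ _ => rfl
      inj := (injective_iff_map_eq_one _).2 fun k hk => Subtype.ext
        (disjoint_def.1 hK.disjoint (hC fun v hv => by
          have := hσ k ⟨v, hv⟩
          rw [hk] at this
          exact eq_mul_inv_iff_mul_eq.1 (congrArg Subtype.val (e.injective this))) k.2)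
      cop := hKp }
  rw [card_regCl_of_isComplement' hK hVp hKp]
  have hn : Module.finrank (ZMod p) (Fin n → ZMod p) = n := by simp
  by_cases h2 : 2 ≤ n
  · exact Or.inl (T.lt_two_mul (by omega))
  have h0 : n ≠ 0 := fun h => hV.one_lt_card.ne' (by rw [hcV, h, pow_zero])
  obtain rfl : n = 1 := by omega
  obtain ⟨h3, h4⟩ := T.two_mul_card hn
  refine Or.inr ⟨h4 ▸ h3, by rw [← hK.card_mul_card, hcV, ← h3]; ring, ?_⟩
  refine exists_injective_affine hK hC (Matrix.detMonoidHom.comp ρ)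
    (e.trans (Equiv.funUnique _ _)) (fun u v => congrFun (he u v) _) fun g v => ?_
  have := congrFun (hρ g v) 0
  rw [mulVec, dotProduct, Fin.sum_univ_one] at this
  exact (congrArg (· * _) (det_fin_one _)).trans this

theorem threePCl (hs : IsPSolvable p G) (hd : p ∣ Nat.card G)
    {x₁ x₂ : G} (hc : ∀ x : G, x ≠ 1 → IsPElt p x → IsConj x₁ x ∨ IsConj x₂ x) :
    p - 1 < 2 * Nat.card (RegCl p G) ∨ (2 * Nat.card (RegCl p G) = p - 1 ∧
      2 * Nat.card G = p * (p - 1) ∧ ∃ f : G →* affineGroup (ZMod p), Function.Injective f) := by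
  by_cases hO : pPrimeCore p G = ⊥
  · exact threePCl_core hs hO hd hc
  refine Or.inl ?_
  have hf := QuotientGroup.mk'_surjective (pPrimeCore p G)
  have hN := not_dvd_card_pPrimeCore p G
  obtain ⟨⟨a, ha⟩, ha1⟩ := ne_bot_iff_exists_ne_one.1 hO
  obtain ⟨h1, -⟩ := card_regCl_lt hf (fun h => ha1 (Subtype.ext h)) (isPRegular_of_mem hN ha)
    ((QuotientGroup.eq_one_iff _).2 ha)
  rcases threePCl_core (isPSolvable_quotient hs _) (pPrimeCore_quotient_pPrimeCore p G)
    ((hp.out.dvd_mul.1 ((pPrimeCore p G).card_mul_index ▸ hd)).resolve_left hN)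
    (x₁ := QuotientGroup.mk' _ x₁) (x₂ := QuotientGroup.mk' _ x₂) (fun x hx hx' => by
      obtain ⟨x, h3, rfl⟩ := hx'.exists_lift hf
      exact (hc x (fun h => hx (by rw [h, map_one])) h3).imp (QuotientGroup.mk' _).map_isConj
        (QuotientGroup.mk' _).map_isConj) with h | ⟨h, -⟩ <;> omega

theorem two_mul_card_regCl_le (hd : p ∣ Nat.card G) (h : 2 * Nat.card G = p * (p - 1)) :
    2 * Nat.card (RegCl p G) ≤ p - 1 := by
  obtain ⟨P⟩ : Nonempty (Sylow p G) := inferInstance
  have h1 : 2 * (P : Subgroup G).index ≤ p - 1 := by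
    refine Nat.le_of_mul_le_mul_left ?_ hp.out.pos
    rw [← h, ← (P : Subgroup G).card_mul_index, mul_left_comm]
    exact Nat.mul_le_mul_left _ (Nat.mul_le_mul_right _
      (Nat.le_of_dvd Nat.card_pos (P.dvd_card_of_dvd_card hd)))
  have h2 : Nat.card (Sylow p G) = 1 := by
    have h3 := Nat.le_of_dvd (Nat.pos_of_ne_zero index_ne_zero_of_finite) P.card_dvd_index
    have h4 := hp.out.one_lt
    exact (card_sylow_modEq_one p G).eq_of_lt_of_lt (by omega) h4
  haveI := (Nat.card_eq_one_iff_unique.1 h2).1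
  haveI := P.normal_of_subsingleton
  obtain ⟨K, hK⟩ := exists_right_complement'_of_coprime P.card_coprime_index
  rw [card_regCl_of_isComplement' hK P.isPGroup' (hK.symm.index_eq_card ▸ P.not_dvd_index)]
  have h5 := Nat.card_le_card_of_surjective _ (ConjClasses.mk_surjective (α := K))
  rw [← hK.symm.index_eq_card] at h5
  omega

theorem exists_of_card_pClasses_eq_three (h3 : Nat.card {c : ConjClasses G //
    ∃ g : G, ConjClasses.mk g = c ∧ ∃ k : ℕ, orderOf g = p ^ k} = 3) : p ∣ Nat.card G ∧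
      ∃ x₁ x₂ : G, ∀ x : G, x ≠ 1 → IsPElt p x → IsConj x₁ x ∨ IsConj x₂ x := by
  let o : {c : ConjClasses G // ∃ g : G, ConjClasses.mk g = c ∧ ∃ k : ℕ, orderOf g = p ^ k} :=
    ⟨_, 1, rfl, 0, by simp⟩
  have h1 : ({o}ᶜ : Set _).ncard = 2 := by rw [Set.ncard_compl, h3, Set.ncard_singleton]
  obtain ⟨⟨_, x₁, rfl, h₁⟩, ⟨_, x₂, rfl, h₂⟩, -, h2⟩ := Set.ncard_eq_two.1 h1
  refine ⟨(IsPElt.dvd_orderOf h₁ fun e => ?_).trans (orderOf_dvd_natCard _), x₁, x₂,
    fun x hx hx' => ?_⟩
  · exact (h2 ▸ Set.mem_insert _ _ : _ ∈ ({o}ᶜ : Set _)) (Subtype.ext (congrArg ConjClasses.mk e))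
  · have h4 : ⟨_, x, rfl, hx'⟩ ∈ ({o}ᶜ : Set _) := fun e => hx (isConj_one_left.1
      (ConjClasses.mk_eq_mk_iff_isConj.1 (congrArg Subtype.val e)))
    rw [h2] at h4
    exact h4.imp (fun e => (ConjClasses.mk_eq_mk_iff_isConj.1 (congrArg Subtype.val e)).symm)
      fun e => (ConjClasses.mk_eq_mk_iff_isConj.1 (congrArg Subtype.val e)).symm

end LG
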