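import Cfsg.Agent.Lib.Char.Values

/-!
# Unitary representations: eigenvalue bounds, the lemmas of Frobenius and Blichfeldt
-/

set_option autoImplicit false

namespace LG

open Cfsg CT
open scoped ComplexConjugate InnerProductSpace

universe u

variable {G : Type*} [Group G]

/-- The representation preserves the norm. -/
def IsUnitaryRep {V : Type*} [NormedAddCommGroup V] [InnerProductSpace ℂ V]
    (ρ : Representation ℂ G V) : Prop := ∀ g v, ‖ρ g v‖ = ‖v‖

theorem realise_eqns_unitary : True := by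
  have := @IsUnitaryRep.eq_1.{0, 0}
  trivial

theorem exists_unitary_equiv {G : Type u} [Group G] [Finite G] {n : ℕ}
    (ρ : Representation ℂ G (Fin n → ℂ)) :
    ∃ (W : Type u) (_ : NormedAddCommGroup W) (_ : InnerProductSpace ℂ W)
      (_ : FiniteDimensional ℂ W) (e : (Fin n → ℂ) ≃ₗ[ℂ] W), IsUnitaryRep (repConj ρ e) := by
  classical
  have := Fintype.ofFinite G
  let J : (Fin n → ℂ) →ₗ[ℂ] EuclideanSpace ℂ (G × Fin n) :=
    (WithLp.linearEquiv 2 ℂ (G × Fin n → ℂ)).symm.toLinearMap ∘ₗ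
      LinearMap.pi fun x : G × Fin n => LinearMap.proj x.2 ∘ₗ ρ x.1
  have hJ : ∀ v x, J v x = ρ x.1 v x.2 := fun v x => rfl
  have hinj : Function.Injective J := fun v w h => funext fun i => by
    have := congrArg (fun y : EuclideanSpace ℂ (G × Fin n) => y (1, i)) h
    simpa [hJ] using this
  refine ⟨LinearMap.range J, inferInstance, inferInstance, inferInstance,
    LinearEquiv.ofInjective J hinj, fun g w => ?_⟩
  obtain ⟨v, rfl⟩ := (LinearEquiv.ofInjective J hinj).surjective w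
  rw [repConj_apply, LinearEquiv.conj_apply_apply, LinearEquiv.symm_apply_apply]
  change ‖J (ρ g v)‖ = ‖J v‖
  rw [EuclideanSpace.norm_eq, EuclideanSpace.norm_eq]
  congr 1
  refine Fintype.sum_equiv ((Equiv.mulRight g).prodCongr (Equiv.refl _)) _ _ fun x => ?_
  simp [hJ]

theorem _root_.Cfsg.IsCharacter.exists_unitary {G : Type u} [Group G] [Finite G] {χ : G → ℂ}
    (hχ : IsCharacter G χ) : ∃ (W : Type u) (_ : NormedAddCommGroup W) (_ : InnerProductSpace ℂ W)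
      (_ : FiniteDimensional ℂ W) (σ : Representation ℂ G W), IsUnitaryRep σ ∧ σ.character = χ := by
  obtain ⟨n, ρ, rfl⟩ := hχ
  obtain ⟨W, i1, i2, i3, e, he⟩ := exists_unitary_equiv ρ
  exact ⟨W, i1, i2, i3, repConj ρ e, he, repConj_character ρ e⟩

theorem irr_exists_unitary {G : Type u} [Group G] [Finite G] (χ : IrrCharacter G) :
    ∃ (W : Type u) (_ : NormedAddCommGroup W) (_ : InnerProductSpace ℂ W)
      (_ : FiniteDimensional ℂ W) (σ : Representation ℂ G W),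
      IsUnitaryRep σ ∧ σ.IsIrreducible ∧ σ.character = χ.1 := by
  obtain ⟨χ, n, ρ, hρ, rfl⟩ := χ
  obtain ⟨W, i1, i2, i3, e, he⟩ := exists_unitary_equiv ρ
  refine ⟨W, i1, i2, i3, repConj ρ e, he, ?_, repConj_character ρ e⟩
  refine rep_isIrreducible_of_equiv ρ _ (MonoidHom.id G) Function.surjective_id e
    (fun h v => ?_) hρ
  rw [repConj_apply, LinearEquiv.conj_apply_apply, LinearEquiv.symm_apply_apply]
  rfl

section Eigen
variable {V : Type*} [AddCommGroup V] [Module ℂ V] [FiniteDimensional ℂ V] [Finite G]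

/-- An eigenbasis whose eigenvalues are those of a prescribed family with the right power sums. -/
theorem exists_eigenbasis_of_power_sums (ρ : Representation ℂ G V) (g : G) {ι : Type*} [Fintype ι]
    {δ : ι → ℂ} (hδ : ∀ i, δ i ≠ 0) (h : ∀ k : ℕ, 0 < k → ρ.character (g ^ k) = ∑ i, δ i ^ k) :
    ∃ (b : Module.Basis (Fin (Module.finrank ℂ V)) ℂ V) (ε : Fin (Module.finrank ℂ V) → ℂ),
      (∀ j, ρ g (b j) = ε j • b j) ∧ (∀ j, ∃ i, ε j = δ i) ∧ ∀ i, ∃ j, ε j = δ i := by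
  classical
  obtain ⟨b, ε, h1, h2⟩ := exists_eigenbasis (ρ g) (orderOf_pos g).ne'
    (by rw [← map_pow, pow_orderOf_eq_one, map_one])
  have hm : LinearMap.toMatrix b b (ρ g) = Matrix.diagonal ε := by
    ext i j
    rw [LinearMap.toMatrix_apply, h2, map_smul, Module.Basis.repr_self, Matrix.diagonal_apply]
    by_cases hij : i = j
    · subst hij; simp
    · simp [hij]
  have h3 : ∀ k : ℕ, ρ.character (g ^ k) = ∑ i, ε i ^ k := fun k => by
    rw [Representation.character, LinearMap.trace_eq_matrix_trace ℂ b, map_pow,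
      ← LinearMap.toMatrix_pow, hm, Matrix.diagonal_pow, Matrix.trace_diagonal]
    simp
  have key := multiset_eq_of_power_sums_eq (s := Finset.univ.val.map ε)
    (t := Finset.univ.val.map δ)
    (by simpa using fun i => ne_zero_of_pow_eq_one' (orderOf_pos g).ne' (h1 i))
    (by simpa using hδ) (by
      intro k hk
      rw [Multiset.map_map, Multiset.map_map]
      exact (h3 k).symm.trans (h k hk))
  refine ⟨b, ε, h2, fun j => ?_, fun i => ?_⟩
  · have : ε j ∈ Finset.univ.val.map δ := key ▸ Multiset.mem_map_of_mem _ (Finset.mem_univ j)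
    obtain ⟨i, -, hi⟩ := Multiset.mem_map.1 this
    exact ⟨i, hi.symm⟩
  · have : δ i ∈ Finset.univ.val.map ε := key ▸ Multiset.mem_map_of_mem _ (Finset.mem_univ i)
    obtain ⟨j, -, hj⟩ := Multiset.mem_map.1 this
    exact ⟨j, hj⟩

end Eigen

variable {V : Type*} [NormedAddCommGroup V] [InnerProductSpace ℂ V] {ρ : Representation ℂ G V}

namespace IsUnitaryRep
variable (h : IsUnitaryRep ρ)
include h

theorem inner_map (g : G) (v w : V) : ⟪ρ g v, ρ g w⟫_ℂ = ⟪v, w⟫_ℂ :=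
  (LinearIsometry.mk (ρ g) (h g)).inner_map_map v w

theorem inner_map_left (g : G) (v w : V) : ⟪ρ g v, w⟫_ℂ = ⟪v, ρ g⁻¹ w⟫_ℂ := by
  rw [← h.inner_map g v, ← Module.End.mul_apply, ← map_mul, mul_inv_cancel, map_one,
    Module.End.one_apply]

theorem norm_eigenvalue {g : G} {v : V} {c : ℂ} (hv : v ≠ 0) (e : ρ g v = c • v) : ‖c‖ = 1 := by
  have := h g v
  rw [e, norm_smul] at this
  exact (mul_eq_right₀ (norm_ne_zero_iff.2 hv)).1 this

/-- An eigenvector with eigenvalue `c` is orthogonal to the image of `ρ g - c`. -/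
theorem inner_sub_eq_zero {g : G} {v : V} {c : ℂ} (e : ρ g v = c • v) (w : V) :
    ⟪v, ρ g w - c • w⟫_ℂ = 0 := by
  by_cases hv : v = 0
  · rw [hv, inner_zero_left]
  have hc := h.norm_eigenvalue hv e
  have h1 := h.inner_map g v w
  have h2 : c * conj c = 1 := by rw [Complex.mul_conj, Complex.normSq_eq_norm_sq, hc]; simp
  rw [e, inner_smul_left] at h1
  rw [inner_sub_right, inner_smul_right, ← h1, ← mul_assoc, h2, one_mul, sub_self]

theorem inner_eq_zero_of_ne {g : G} {v w : V} {c d : ℂ} (e : ρ g v = c • v) (e' : ρ g w = d • w)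
    (hne : c ≠ d) : ⟪v, w⟫_ℂ = 0 := by
  have := h.inner_sub_eq_zero e w
  rw [e', ← sub_smul, inner_smul_right] at this
  exact (mul_eq_zero.1 this).resolve_left (sub_ne_zero.2 hne.symm)

theorem norm_sub_smul_le_of_basis {ι : Type*} [Fintype ι] (b : Module.Basis ι ℂ V) {g : G}
    {ε : ι → ℂ} (hb : ∀ j, ρ g (b j) = ε j • b j) {c : ℂ} {r : ℝ} (hr : 0 ≤ r)
    (hε : ∀ j, ‖ε j - c‖ ≤ r) (v : V) : ‖ρ g v - c • v‖ ≤ r * ‖v‖ := by
  classical
  set s : ι → ℝ := fun j => √(r ^ 2 - ‖ε j - c‖ ^ 2) with hs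
  have hs2 : ∀ j, s j ^ 2 = r ^ 2 - ‖ε j - c‖ ^ 2 := fun j =>
    Real.sq_sqrt (sub_nonneg.2 (pow_le_pow_left₀ (norm_nonneg _) (hε j) 2))
  have key : ∀ a : ι → ℂ, ((‖∑ j, a j • b j‖ ^ 2 : ℝ) : ℂ) =
      ∑ i, ∑ j, conj (a i) * a j * ⟪b i, b j⟫_ℂ := fun a => by
    rw [Complex.ofReal_pow, ← Complex.coe_algebraMap, ← inner_self_eq_norm_sq_to_K, sum_inner]
    refine Finset.sum_congr rfl fun i _ => ?_
    rw [inner_sum]
    refine Finset.sum_congr rfl fun j _ => ?_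
    rw [inner_smul_left, inner_smul_right, mul_assoc]
  have e1 : ρ g v - c • v = ∑ j, ((ε j - c) * b.repr v j) • b j := by
    conv_lhs => rw [← b.sum_repr v]
    rw [map_sum, Finset.smul_sum, ← Finset.sum_sub_distrib]
    refine Finset.sum_congr rfl fun j _ => ?_
    rw [map_smul, hb, smul_smul, smul_smul, ← sub_smul]
    ring_nf
  have e2 : ((r ^ 2 * ‖v‖ ^ 2 : ℝ) : ℂ) = ((‖ρ g v - c • v‖ ^ 2 +
      ‖∑ j, ((s j : ℂ) * b.repr v j) • b j‖ ^ 2 : ℝ) : ℂ) := by
    conv_lhs => rw [← b.sum_repr v]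
    rw [Complex.ofReal_add, Complex.ofReal_mul, e1, key, key, key, ← Finset.sum_add_distrib,
      Finset.mul_sum]
    refine Finset.sum_congr rfl fun i _ => ?_
    rw [← Finset.sum_add_distrib, Finset.mul_sum]
    refine Finset.sum_congr rfl fun j _ => ?_
    by_cases hij : ε i = ε j
    · have h1 : s i = s j := by simp only [hs, hij]
      have h2 : ((r ^ 2 : ℝ) : ℂ) = conj (ε j - c) * (ε j - c) + (s j : ℂ) * s j := by
        rw [Complex.conj_mul', ← sq, ← Complex.ofReal_pow, ← Complex.ofReal_pow, hs2]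
        push_cast; ring
      rw [h2, hij, h1, map_mul, map_mul, Complex.conj_ofReal]
      ring
    · rw [h.inner_eq_zero_of_ne (hb i) (hb j) hij]; simp
  have e3 := Complex.ofReal_injective e2
  refine (sq_le_sq₀ (norm_nonneg _) (mul_nonneg hr (norm_nonneg _))).1 ?_
  rw [mul_pow, e3]
  exact le_add_of_nonneg_right (sq_nonneg _)

theorem norm_sub_smul_le [Finite G] [FiniteDimensional ℂ V] {g : G} {ι : Type*} [Fintype ι]
    {δ : ι → ℂ} (hδ : ∀ i, δ i ≠ 0) (hk : ∀ k : ℕ, 0 < k → ρ.character (g ^ k) = ∑ i, δ i ^ k)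
    {c : ℂ} {r : ℝ} (hr : 0 ≤ r) (hc : ∀ i, ‖δ i - c‖ ≤ r) (v : V) :
    ‖ρ g v - c • v‖ ≤ r * ‖v‖ := by
  obtain ⟨b, ε, h1, h2, -⟩ := exists_eigenbasis_of_power_sums ρ g hδ hk
  refine h.norm_sub_smul_le_of_basis b h1 hr (fun j => ?_) v
  obtain ⟨i, hi⟩ := h2 j
  exact hi ▸ hc i

/-- Frobenius: if `a` commutes with `[a, b]` and `b` moves every vector by less than `√2`
times its length, then `a` and `b` commute in the representation. -/
theorem conj_eq_of_commute [Finite G] [FiniteDimensional ℂ V] {a b : G}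
    (hc : Commute a (b * a * b⁻¹)) (hb : ∀ v, v ≠ 0 → ‖ρ b v - v‖ ^ 2 < 2 * ‖v‖ ^ 2) :
    ρ (b * a * b⁻¹) = ρ a := by
  obtain ⟨e, ε, -, he⟩ := exists_eigenbasis (ρ (b * a * b⁻¹)) (orderOf_pos (b * a * b⁻¹)).ne'
    (by rw [← map_pow, pow_orderOf_eq_one, map_one])
  refine e.ext fun i => ?_
  rw [he]
  by_contra hne
  set w := ρ a (e i) - ε i • e i with hw
  have hw0 : w ≠ 0 := fun h0 => hne (sub_eq_zero.1 h0).symm
  have hw1 : ρ (b * a * b⁻¹) w = ε i • w := by
    rw [hw, map_sub, map_smul, he, ← Module.End.mul_apply, ← map_mul, ← hc.eq, map_mul,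
      Module.End.mul_apply, he, map_smul, smul_sub]
  have hbv : ρ b (ρ b⁻¹ w) = w := by
    rw [← Module.End.mul_apply, ← map_mul, mul_inv_cancel, map_one, Module.End.one_apply]
  have hv : ρ a (ρ b⁻¹ w) = ε i • ρ b⁻¹ w := by
    rw [← map_smul, ← hw1, ← Module.End.mul_apply, ← Module.End.mul_apply, ← map_mul, ← map_mul]
    congr 2; group
  have h0 : ⟪ρ b⁻¹ w, w⟫_ℂ = 0 := h.inner_sub_eq_zero hv (e i)
  have h1 := hb (ρ b⁻¹ w) fun h0 => hw0 (by rw [← hbv, h0, map_zero])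
  rw [hbv, norm_sub_rev, @norm_sub_sq ℂ, h0, h] at h1
  simp only [map_zero, mul_zero, sub_zero] at h1
  linarith

/-- Frobenius: an element close to a scalar commutes with every element close to the identity. -/
theorem commute_of_near [Finite G] [FiniteDimensional ℂ V] (hinj : Function.Injective ρ) {a : G}
    {c : ℂ} {r : ℝ} (hr0 : 0 ≤ r) (hr : r < 1 / 2) (ha : ∀ v, ‖ρ a v - c • v‖ ≤ r * ‖v‖) {b : G}
    {t : ℝ} (ht0 : 0 ≤ t) (ht : t ^ 2 < 2) (hb : ∀ v, ‖ρ b v - v‖ ≤ t * ‖v‖) : Commute a b := by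
  let U : G → V →L[ℂ] V := fun g => LinearMap.toContinuousLinearMap (ρ g - 1)
  have hU : ∀ g v, U g v = ρ g v - v := fun g v => rfl
  have hwf : WellFounded fun x y : G => ‖U x‖ < ‖U y‖ :=
    @Finite.wellFounded_of_trans_of_irrefl _ _ _ ⟨fun _ _ _ => lt_trans⟩ ⟨fun _ => lt_irrefl _⟩
  suffices key : ∀ b : G, ‖U b‖ ≤ t → Commute a b from
    key b (ContinuousLinearMap.opNorm_le_bound _ ht0 hb)
  intro b
  induction b using hwf.induction with
  | _ b ih =>
    intro hbt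
    have hbv : ∀ v, ‖ρ b v - v‖ ≤ ‖U b‖ * ‖v‖ := fun v => (U b).le_opNorm v
    by_cases h0 : ‖U b‖ = 0
    · have : b = 1 := hinj (LinearMap.ext fun v => by
        have := hbv v
        rw [h0, zero_mul, norm_le_zero_iff, sub_eq_zero] at this
        rw [this, map_one, Module.End.one_apply])
      rw [this]; exact Commute.one_right a
    have hpos : 0 < ‖U b‖ := lt_of_le_of_ne (norm_nonneg _) (Ne.symm h0)
    have hle : ‖U (a * b * a⁻¹ * b⁻¹)‖ ≤ 2 * r * ‖U b‖ := by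
      refine ContinuousLinearMap.opNorm_le_bound _ (by positivity) fun v => ?_
      obtain ⟨w, rfl⟩ : ∃ w, v = ρ b (ρ a w) := ⟨ρ (a⁻¹ * b⁻¹) v, by
        rw [← Module.End.mul_apply, ← Module.End.mul_apply, ← map_mul, ← map_mul]; simp⟩
      have e1 : ρ (a * b * a⁻¹ * b⁻¹) (ρ b (ρ a w)) = ρ a (ρ b w) := by
        rw [← Module.End.mul_apply, ← Module.End.mul_apply, ← Module.End.mul_apply, ← map_mul,
          ← map_mul, ← map_mul]
        congr 2; group
      have e2 : ρ a (ρ b w) - ρ b (ρ a w) = (ρ a (ρ b w - w) - c • (ρ b w - w)) -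
          (ρ b (ρ a w - c • w) - (ρ a w - c • w)) := by
        simp only [map_sub, map_smul, smul_sub]; abel
      rw [hU, e1, h, h, e2]
      refine (norm_sub_le _ _).trans ?_
      have i1 := (ha (ρ b w - w)).trans (mul_le_mul_of_nonneg_left (hbv w) hr0)
      have i2 := (hbv (ρ a w - c • w)).trans (mul_le_mul_of_nonneg_left (ha w) hpos.le)
      linarith
    have hlt : ‖U (a * b * a⁻¹ * b⁻¹)‖ < ‖U b‖ := hle.trans_lt (by nlinarith)
    have hc := ih _ hlt (hlt.le.trans hbt)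
    have hc' : Commute a (b * a * b⁻¹) := by
      have := ((Commute.refl a).inv_right.mul_right hc).inv_right
      convert this using 1; group
    have := hinj (h.conj_eq_of_commute hc' fun v hv => by
      have h1 := (hbv v).trans (mul_le_mul_of_nonneg_right hbt (norm_nonneg v))
      have h2 := pow_le_pow_left₀ (norm_nonneg _) h1 2
      have h3 : 0 < ‖v‖ ^ 2 := pow_pos (norm_pos_iff.2 hv) 2
      nlinarith)
    exact (mul_inv_eq_iff_eq_mul.1 this).symm

/-- The orthogonal projection of an eigenvector onto an invariant subspace is an eigenvector. -/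
theorem starProjection_eigen [FiniteDimensional ℂ V] {g : G} {W : Submodule ℂ V}
    (hW : ∀ w ∈ W, ρ g w ∈ W) (hW' : ∀ w ∈ W, ρ g⁻¹ w ∈ W) {v : V} {c : ℂ} (e : ρ g v = c • v) :
    ρ g (W.starProjection v) = c • W.starProjection v := by
  rw [← map_smul, ← e]
  refine (Submodule.eq_starProjection_of_mem_of_inner_eq_zero
    (hW _ (W.starProjection_apply_mem v)) fun w hw => ?_).symm
  rw [← map_sub, h.inner_map_left]
  exact W.starProjection_inner_eq_zero v _ (hW' w hw)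

theorem two_mul_sq_le {g : G} {c : ℂ} (hc : ‖c‖ = 1) (u : V) :
    2 * ‖u‖ ^ 2 ≤ ‖ρ g u - c • u‖ ^ 2 + 2 * ‖⟪u, ρ g u⟫_ℂ‖ := by
  rw [norm_sub_rev, @norm_sub_sq ℂ, h, norm_smul, hc, one_mul]
  have : RCLike.re ⟪c • u, ρ g u⟫_ℂ ≤ ‖⟪u, ρ g u⟫_ℂ‖ := by
    refine (RCLike.re_le_norm _).trans ?_
    rw [inner_smul_left, norm_mul, RCLike.norm_conj, hc, one_mul]
  linarith

/-- Blichfeldt: if all eigenvalues of `x` lie within distance `1` of the eigenvalue `c`, some
nonzero subspace is invariant under all conjugates of `x`, and one of them acts on it as `c`. -/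
theorem exists_invariant_of_near [Finite G] [FiniteDimensional ℂ V] {x : G} {c : ℂ} {v₀ : V}
    (hv₀ : v₀ ≠ 0) (e₀ : ρ x v₀ = c • v₀) (hx : ∀ v, ‖ρ x v - c • v‖ ≤ ‖v‖) :
    ∃ W : Submodule ℂ V, W ≠ ⊥ ∧ (∀ y, IsConj x y → ∀ w ∈ W, ρ y w ∈ W) ∧
      ∃ y, IsConj x y ∧ ∀ w ∈ W, ρ y w = c • w := by
  have hc := h.norm_eigenvalue hv₀ e₀
  have hmul : ∀ a b u, ρ a (ρ b u) = ρ (a * b) u := fun a b u => by
    rw [map_mul, Module.End.mul_apply]
  have hone : ∀ u, ρ 1 u = u := fun u => by rw [map_one, Module.End.one_apply]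
  have hy : ∀ y, IsConj x y → ∀ v, ‖ρ y v - c • v‖ ≤ ‖v‖ := fun y hy v => by
    obtain ⟨g, rfl⟩ := isConj_iff.1 hy
    have := hx (ρ g⁻¹ v)
    rwa [h, ← h g, map_sub, map_smul, hmul, hmul, hmul, mul_inv_cancel, hone] at this
  let X : V → Set G := fun u => {y | IsConj x y ∧ ρ y u = c • u}
  have hX : ∀ g u y, y ∈ X u → g * y * g⁻¹ ∈ X (ρ g u) := fun g u y hy =>
    ⟨hy.1.trans (isConj_iff.2 ⟨g, rfl⟩), by rw [hmul, inv_mul_cancel_right, ← hmul, hy.2, map_smul]⟩
  have hXs : ∀ g u u', X u ⊆ X u' → X (ρ g u) ⊆ X (ρ g u') := fun g u u' hs y hy => by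
    have h1 := hX g⁻¹ _ _ hy
    rw [hmul, inv_mul_cancel, hone] at h1
    have h2 := hX g _ _ (hs h1)
    rwa [show g * (g⁻¹ * y * g⁻¹⁻¹) * g⁻¹ = y by group] at h2
  obtain ⟨_, ⟨v₁, hv₁, rfl⟩, hmax₁⟩ := (wellFounded_gt (α := Set G)).has_min
    {S | ∃ u, u ≠ 0 ∧ X u = S} ⟨_, v₀, hv₀, rfl⟩
  set v : V := ((‖v₁‖⁻¹ : ℝ) : ℂ) • v₁ with hvdef
  have hn₁ : ‖v₁‖ ≠ 0 := norm_ne_zero_iff.2 hv₁
  have hv1 : ‖v‖ = 1 := by
    rw [hvdef, norm_smul, Complex.norm_real, norm_inv, norm_norm, inv_mul_cancel₀ hn₁]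
  have hv : v ≠ 0 := fun h0 => by rw [h0, norm_zero] at hv1; exact zero_ne_one hv1
  have hle₁ : X v₁ ⊆ X v := fun y hy => ⟨hy.1, by rw [hvdef, map_smul, hy.2, smul_comm]⟩
  have hmax : ∀ u, u ≠ 0 → X v ⊆ X u → X u ⊆ X v := fun u hu hs =>
    (eq_of_le_of_not_lt (hle₁.trans hs) (hmax₁ _ ⟨u, hu, rfl⟩)).ge.trans hle₁
  have hne : ∀ g u, u ≠ 0 → ρ g u ≠ 0 := fun g u hu h0 => hu (by
    rw [← norm_eq_zero, ← h g, h0, norm_zero])
  have hmax' : ∀ g u, u ≠ 0 → X (ρ g v) ⊆ X u → X u ⊆ X (ρ g v) := fun g u hu hs => by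
    have h1 := hXs g⁻¹ _ _ hs
    rw [hmul, inv_mul_cancel, hone] at h1
    have h2 := hXs g _ _ (hmax _ (hne _ _ hu) h1)
    rwa [hmul, mul_inv_cancel, hone] at h2
  let W : V → Submodule ℂ V := fun t =>
    { carrier := {u | X t ⊆ X u}
      add_mem' := fun {a b} ha hb y hy =>
        ⟨hy.1, by rw [map_add, (ha hy).2, (hb hy).2, smul_add]⟩
      zero_mem' := fun y hy => ⟨hy.1, by rw [map_zero, smul_zero]⟩
      smul_mem' := fun d a ha y hy => ⟨hy.1, by rw [map_smul, (ha hy).2, smul_comm]⟩ }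
  have hW : ∀ t u, u ∈ W t ↔ X t ⊆ X u := fun t u => Iff.rfl
  -- if `y g v ∈ W (g v)` then `y` stabilises `W (g v)`
  have hstab : ∀ g y, X (ρ g v) ⊆ X (ρ y (ρ g v)) →
      (∀ w ∈ W (ρ g v), ρ y w ∈ W (ρ g v)) ∧ ∀ w ∈ W (ρ g v), ρ y⁻¹ w ∈ W (ρ g v) :=
    fun g y hs => ⟨fun w hw => hs.trans (hXs y _ _ hw), fun w hw => by
      have h1 := hXs y⁻¹ _ _ ((hmax' g _ (hne _ _ (hne _ _ hv)) hs).trans hw)
      rwa [hmul, inv_mul_cancel, hone] at h1⟩
  have hzero : ∀ g, ¬ X v ⊆ X (ρ g v) → ⟪v, ρ g v⟫_ℂ = 0 := by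
    intro g₀ hg₀
    obtain ⟨g, hg, hgmax⟩ := Set.exists_max_image {g | ¬ X v ⊆ X (ρ g v)}
      (fun g => ‖⟪v, ρ g v⟫_ℂ‖) (Set.toFinite _) ⟨g₀, hg₀⟩
    suffices h0 : ⟪v, ρ g v⟫_ℂ = 0 by
      have := hgmax g₀ hg₀
      rwa [h0, norm_zero, norm_le_zero_iff] at this
    set α := ⟪v, ρ g v⟫_ℂ with hα
    have hw0 : ρ g v - α • v ≠ 0 := fun h0 =>
      hg ((hW v _).1 (sub_eq_zero.1 h0 ▸ (W v).smul_mem α ((hW v v).2 subset_rfl)))
    have hw1 : ‖ρ g v - α • v‖ ^ 2 = 1 - ‖α‖ ^ 2 := by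
      rw [norm_sub_rev, @norm_sub_sq ℂ, h, norm_smul, hv1, inner_smul_left, ← hα,
        Complex.conj_mul']
      norm_cast
      simp only [RCLike.re_to_complex, Complex.ofReal_re]
      ring
    have hα1 : ‖α‖ < 1 := by
      have : 0 < ‖ρ g v - α • v‖ ^ 2 := pow_pos (norm_pos_iff.2 hw0) 2
      nlinarith [norm_nonneg α]
    have hinv : ∀ y ∈ X v, X (ρ g v) ⊆ X (ρ y (ρ g v)) := fun y hyv => by
      by_contra hn
      have h1 := hgmax (g⁻¹ * y * g) fun hs => hn (by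
        have := hXs g _ _ hs
        rwa [hmul, show g * (g⁻¹ * y * g) = y * g by group, ← hmul] at this)
      have h2 := h.two_mul_sq_le (g := y) hc (ρ g v)
      have h3 : ρ y (ρ g v) - c • ρ g v = ρ y (ρ g v - α • v) - c • (ρ g v - α • v) := by
        rw [map_sub, map_smul (ρ y) α, hyv.2, smul_sub, smul_comm α]; abel
      have h4 := pow_le_pow_left₀ (norm_nonneg _) (hy y hyv.1 (ρ g v - α • v)) 2
      rw [h3, h.inner_map_left, hmul, hmul, h, hv1] at h2
      nlinarith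
    have hp : (W (ρ g v)).starProjection v = 0 := by
      by_contra hp
      refine hg fun y hyv => hmax' g _ hp ((W (ρ g v)).starProjection_apply_mem v) ⟨hyv.1, ?_⟩
      exact h.starProjection_eigen (hstab g y (hinv y hyv)).1 (hstab g y (hinv y hyv)).2 hyv.2
    have := (W (ρ g v)).starProjection_inner_eq_zero v _ ((hW _ _).2 subset_rfl)
    rwa [hp, sub_zero] at this
  refine ⟨W v, fun hb => hv ((Submodule.eq_bot_iff _).1 hb v ((hW v v).2 subset_rfl)),
    fun y hyx w hw => ?_, ?_⟩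
  · have hs : X v ⊆ X (ρ y v) := by
      by_contra hn
      have h2 := h.two_mul_sq_le (g := y) hc v
      have h4 := pow_le_pow_left₀ (norm_nonneg _) (hy y hyx v) 2
      rw [hzero y hn, hv1] at h2
      rw [hv1] at h4
      simp only [norm_zero] at h2
      linarith
    exact hs.trans (hXs y _ _ hw)
  · obtain ⟨y, hyv⟩ : (X v).Nonempty := by
      by_contra hn
      rw [Set.not_nonempty_iff_eq_empty] at hn
      have := hmax v₀ hv₀ (hn ▸ Set.empty_subset _) (⟨IsConj.refl x, e₀⟩ : x ∈ X v₀)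
      rwa [hn] at this
    exact ⟨y, hyv.1, fun w hw => (hw hyv).2⟩

/-- Blichfeldt's theorem when the conjugates of `x` generate `G`. -/
theorem eq_smul_of_near [Finite G] [FiniteDimensional ℂ V] (hirr : ρ.IsIrreducible) {x : G}
    (hN : Subgroup.normalClosure {x} = ⊤) {c : ℂ} {v₀ : V}
    (hv₀ : v₀ ≠ 0) (e₀ : ρ x v₀ = c • v₀) (hx : ∀ v, ‖ρ x v - c • v‖ ≤ ‖v‖) :
    ρ x = c • (1 : V →ₗ[ℂ] V) := by
  obtain ⟨W, hW, h1, y, hy, h2⟩ := h.exists_invariant_of_near hv₀ e₀ hx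
  have hinv : ∀ g : G, ∀ w ∈ W, ρ g w ∈ W := fun g => by
    have hg : g ∈ Submonoid.closure (Group.conjugatesOfSet ({x} : Set G)) := by
      rw [← Subgroup.closure_toSubmonoid_of_finite]
      exact hN.ge (Subgroup.mem_top g)
    induction hg using Submonoid.closure_induction with
    | mem z hz =>
      obtain ⟨a, rfl, ha⟩ := Group.mem_conjugatesOfSet_iff.1 hz
      exact h1 z ha
    | one => intro w hw; rwa [map_one]
    | mul a b _ _ ha hb => intro w hw; rw [map_mul]; exact ha _ (hb _ hw)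
  have htop := (((rep_isIrreducible_iff ρ).1 hirr).2 W hinv).resolve_left hW
  have hy1 : ρ y = c • (1 : V →ₗ[ℂ] V) := LinearMap.ext fun w => h2 w (htop ▸ Submodule.mem_top)
  obtain ⟨g, rfl⟩ := isConj_iff.1 hy.symm
  rw [map_mul, map_mul, hy1, mul_smul_comm, smul_mul_assoc, mul_one, ← map_mul, mul_inv_cancel,
    map_one]

end IsUnitaryRep

/-- Cutting the unit circle into `m` arcs of length `2π / m`. -/
theorem exists_arc_box {m : ℕ} (hm : 2 ≤ m) : ∃ box : ℂ → Fin m, ∀ z w : ℂ, ‖z‖ = 1 → ‖w‖ = 1 →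
    box z = box w → Real.cos (2 * Real.pi / m) < (z * w⁻¹).re := by
  have hpi := Real.pi_pos
  have hm0 : (0 : ℝ) < m := by exact_mod_cast (by omega : 0 < m)
  have hm2 : (2 : ℝ) ≤ m := by exact_mod_cast hm
  have h0 : ∀ z : ℂ, 0 ≤ (Real.pi - z.arg) * m / (2 * Real.pi) := fun z =>
    div_nonneg (mul_nonneg (sub_nonneg.2 z.arg_le_pi) hm0.le) (by positivity)
  refine ⟨fun z => ⟨⌊(Real.pi - z.arg) * m / (2 * Real.pi)⌋₊, ?_⟩, fun z w hz hw e => ?_⟩
  · rw [Nat.floor_lt (h0 z), div_lt_iff₀ (by positivity)]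
    nlinarith [z.neg_pi_lt_arg]
  · have e' : ⌊(Real.pi - z.arg) * m / (2 * Real.pi)⌋₊ = ⌊(Real.pi - w.arg) * m / (2 * Real.pi)⌋₊ :=
      congrArg Fin.val e
    have a1 := Nat.floor_le (h0 z)
    have a2 := Nat.floor_le (h0 w)
    have a3 := Nat.lt_floor_add_one ((Real.pi - z.arg) * m / (2 * Real.pi))
    have a4 := Nat.lt_floor_add_one ((Real.pi - w.arg) * m / (2 * Real.pi))
    rw [e'] at a1 a3
    have hd : |z.arg - w.arg| < 2 * Real.pi / m := by
      have b1 : (Real.pi - z.arg) * m / (2 * Real.pi) - (Real.pi - w.arg) * m / (2 * Real.pi) < 1 := by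
        linarith
      have b2 : (Real.pi - w.arg) * m / (2 * Real.pi) - (Real.pi - z.arg) * m / (2 * Real.pi) < 1 := by
        linarith
      rw [← sub_div, div_lt_one (by positivity)] at b1 b2
      rw [lt_div_iff₀ hm0, ← abs_of_pos hm0, ← abs_mul, abs_lt]
      constructor <;> linarith
    have hz' : z = Complex.exp (z.arg * Complex.I) := by
      conv_lhs => rw [← Complex.norm_mul_exp_arg_mul_I z, hz]
      simp
    have hw' : w = Complex.exp (w.arg * Complex.I) := by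
      conv_lhs => rw [← Complex.norm_mul_exp_arg_mul_I w, hw]
      simp
    have : z * w⁻¹ = Complex.exp (((z.arg - w.arg : ℝ) : ℂ) * Complex.I) := by
      conv_lhs => rw [hz', hw']
      rw [← Complex.exp_neg, ← Complex.exp_add]; congr 1; push_cast; ring
    rw [this, Complex.exp_ofReal_mul_I_re, ← Real.cos_abs (z.arg - w.arg)]
    refine Real.cos_lt_cos_of_nonneg_of_le_pi (abs_nonneg _) ?_ hd
    rw [div_le_iff₀ hm0]
    nlinarith

theorem norm_sub_ofReal_sq {z : ℂ} (hz : ‖z‖ = 1) (c : ℝ) :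
    ‖z - c‖ ^ 2 = 1 + c ^ 2 - 2 * c * z.re := by
  have h1 : z.re ^ 2 + z.im ^ 2 = 1 := by
    have := Complex.sq_norm z
    rw [hz, Complex.normSq_apply] at this
    linarith
  rw [Complex.sq_norm, Complex.normSq_apply]
  simp only [Complex.sub_re, Complex.ofReal_re, Complex.sub_im, Complex.ofReal_im]
  linarith

end LG
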